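import Groth.Agent.DRingLib.PCMore
import Groth.Agent.S7027
import Groth.Agent.DCat.LTensorModule

/-! Pseudo-coherence from terms and from cohomology; closure properties of perfect objects. -/

set_option autoImplicit false
set_option backward.isDefEq.respectTransparency false
set_option backward.defeqAttrib.useBackward true
set_option linter.style.haveILetI false

universe u

open CategoryTheory CategoryTheory.Limits HomologicalComplex CategoryTheory.Pretriangulated MonoidalCategory

attribute [local instance] HasDerivedCategory.standard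

namespace Groth.Agent.DRingLib

open Groth.Agent.DCat

variable {R : Type u} [CommRing R]

/-- Stupid truncation of a complex. -/
lemma exists_stupid (E : DRing.Cx R) (m : ℤ) :
    ∃ (P : DRing.Cx R) (ι : P ⟶ E), (∀ n, n < m → IsZero (P.X n)) ∧ (∀ n, m ≤ n → IsIso (ι.f n)) ∧
      Apx m (DerivedCategory.Q.map ι) := by
  let e := ComplexShape.embeddingUpIntGE m
  let P := E.stupidTrunc e
  have hlt : ∀ n, n < m → IsZero (P.X n) := fun n hn => isZero_stupidTrunc_X E e n fun j hj => by
    simp [e, ComplexShape.embeddingUpIntGE] at hj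
    omega
  let ι₀ : ∀ n, P.X n ⟶ E.X n := fun n => if h : m ≤ n then
    (E.stupidTruncXIso e (i := (n - m).toNat) (by simp [e, ComplexShape.embeddingUpIntGE]; omega)).hom else 0
  let ι : P ⟶ E :=
    { f := ι₀
      comm' := fun p q hpq => by
        simp only [ComplexShape.up_Rel] at hpq
        by_cases hp : m ≤ p
        · have hq : m ≤ q := by omega
          simp only [ι₀, dif_pos hp, dif_pos hq, P, HomologicalComplex.stupidTrunc]
          rw [(E.restriction e).extend_d_eq e (i := (p - m).toNat) (j := (q - m).toNat)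
            (by simp [e, ComplexShape.embeddingUpIntGE]; omega) (by simp [e, ComplexShape.embeddingUpIntGE]; omega)]
          simp [stupidTruncXIso]
          exact d_eqToHom E (by simp [e, ComplexShape.embeddingUpIntGE]; omega)
            (by simp [e, ComplexShape.embeddingUpIntGE]; omega) _ _
        · exact (hlt p (by omega)).eq_of_src _ _ }
  have hιiso : ∀ n, m ≤ n → IsIso (ι.f n) := fun n hn => by
    simp only [ι, ι₀, dif_pos hn]
    infer_instance
  haveI : Mono ι := mono_of_mono_f _ fun n => by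
    by_cases hn : m ≤ n
    · haveI := hιiso n hn
      infer_instance
    · exact ⟨fun g g' _ => (hlt n (by omega)).eq_of_tgt g g'⟩
  let S := ShortComplex.mk ι (cokernel.π ι) (cokernel.condition ι)
  have hS : S.ShortExact := { exact := ShortComplex.exact_cokernel _ }
  refine ⟨P, ι, hlt, hιiso, (apx_iff_isLE m _ (DerivedCategory.triangleOfSES_distinguished hS)).2
    (isLE_Q_of_vanishesAbove fun n hn => ?_)⟩
  haveI : IsIso ((HomologicalComplex.eval _ (ComplexShape.up ℤ) n).map ι) := hιiso n (by omega)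
  exact IsZero.of_iso (isZero_cokernel_of_epi ((HomologicalComplex.eval _ (ComplexShape.up ℤ) n).map ι))
    (PreservesCokernel.iso (HomologicalComplex.eval _ (ComplexShape.up ℤ) n) ι)

/-- Approximations of pseudo-coherent objects are pseudo-coherent. -/
lemma pc_of_apx {m : ℤ} {P K : Dual.D R} (f : P ⟶ K) (hf : Apx m f) (hP : DRing.IsPseudoCoherent R m P) :
    DRing.IsPseudoCoherent R m K := by
  obtain ⟨E, a, b, α, hE, hEf, hα⟩ := hP
  exact ⟨E, a, b, α ≫ f, hE, hEf, Apx.comp hα hf⟩

/-- A single module placed in degree `n`. -/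
noncomputable def singleIso (n : ℤ) (X : ModuleCat.{u} R) :
    (Dual.inD R X)⟦-n⟧ ≅ DerivedCategory.Q.obj ((HomologicalComplex.single (ModuleCat.{u} R) (ComplexShape.up ℤ) n).obj X) :=
  (DerivedCategory.Q.commShiftIso (-n)).symm.app _ ≪≫ DerivedCategory.Q.mapIso
    (((CochainComplex.singleFunctors (ModuleCat.{u} R)).shiftIso (-n) n 0 (by omega)).app X)

lemma pcModule_retract {X Y : ModuleCat.{u} R} (r : Retract X Y) {m : ℤ}
    (h : DRing.IsPseudoCoherentModule R m Y) : DRing.IsPseudoCoherentModule R m X :=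
  pc_retract (r.map (DerivedCategory.singleFunctor (ModuleCat.{u} R) 0)) h

theorem pc_of_terms (K : DRing.Cx R) {b : ℤ} (hb : DRing.VanishesAbove K b) {m : ℤ}
    (h : ∀ i, DRing.IsPseudoCoherentModule R (m - i) (K.X i)) : DRing.IsPseudoCoherent R m (DRing.toD K) := by
  obtain ⟨P, ι, hlt, hiso, hι⟩ := exists_stupid K m
  refine pc_of_apx _ hι ?_
  have hz : ∀ n, b < n → IsZero (P.X n) := fun n hn =>
    if h : m ≤ n then haveI := hiso n h; (hb n hn).of_iso (asIso (ι.f n)) else hlt n (by omega)
  have hP : ∀ i, DRing.IsPseudoCoherentModule R (m - i) (P.X i) := fun i => by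
    by_cases hi : m ≤ i
    · haveI := hiso i hi
      exact pcModule_retract (asIso (ι.f i)).retract (h i)
    · haveI : (Dual.inD R (P.X i)).IsLE (m - i - 1) := DerivedCategory.TStructure.t.isLE_of_isZero
        ((DerivedCategory.singleFunctor (ModuleCat.{u} R) 0).map_isZero (hlt i (by omega))) _
      exact pc_of_isLE (n := m - i - 1) (by omega)
  exact bounded_induction
    (fun E : DRing.Cx R => (∀ i, DRing.IsPseudoCoherentModule R (m - i) (E.X i)) → DRing.IsPseudoCoherent R m (DRing.toD E))
    (fun _ => True)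
    (fun E hE _ => by
      haveI : (DerivedCategory.Q.obj E).IsLE (m - 1) :=
        DerivedCategory.TStructure.t.isLE_of_isZero (DerivedCategory.Q.map_isZero hE) _
      exact pc_of_isLE (n := m - 1) (by omega))
    (fun _ _ => trivial) (fun _ _ _ _ => trivial)
    (fun n X _ hX => by
      refine pc_iso (singleIso n X) (pc_shift ?_ (-n) m (show -n + m = m - n by omega))
      have := hX n
      exact pcModule_retract (singleObjXSelf (ComplexShape.up ℤ) n X).symm.retract this)
    (fun S hS h₁ h₃ hX => by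
      refine pc_ext (DerivedCategory.triangleOfSES_distinguished
        (shortExact_of_degreewise_shortExact _ fun k => ((hS k).some).shortExact)) ?_ ?_
      · exact h₁ fun i => pcModule_retract ⟨S.f.f i, (hS i).some.r, (hS i).some.f_r⟩ (hX i)
      · exact h₃ fun i => pcModule_retract ⟨(hS i).some.s, S.g.f i, (hS i).some.s_g⟩ (hX i))
    m (b + 1 - m).toNat P (fun n hn => hlt n hn) (fun n hn => hz n (by omega)) (fun _ => trivial) hP

lemma homology_iso_of_isGE₃ {T : Triangle (Dual.D R)} (hT : T ∈ distinguishedTriangles) (b : ℤ) [T.obj₃.IsGE b]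
    (i : ℤ) (hi : i < b) : IsIso ((HF R i).map T.mor₁) := by
  haveI : Mono ((HF R i).map T.mor₁) :=
    (DerivedCategory.HomologySequence.mono_homologyMap_mor₁_iff T hT (i - 1) i (by omega)).2
      ((DerivedCategory.isZero_of_isGE T.obj₃ b (i - 1) (by omega)).eq_of_src _ _)
  haveI : Epi ((HF R i).map T.mor₁) :=
    (DerivedCategory.HomologySequence.epi_homologyMap_mor₁_iff T hT i).2
      ((DerivedCategory.isZero_of_isGE T.obj₃ b i hi).eq_of_tgt _ _)
  exact isIso_of_mono_of_epi _

theorem pc_of_homology {m : ℤ} : ∀ {K : Dual.D R} {b : ℤ}, K.IsLE b →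
    (∀ i, DRing.IsPseudoCoherentModule R (m - i) (Dual.HD R K i)) → DRing.IsPseudoCoherent R m K := by
  suffices h : ∀ (k : ℕ) (K : Dual.D R), K.IsLE (m - 1 + k) →
      (∀ i, DRing.IsPseudoCoherentModule R (m - i) (Dual.HD R K i)) → DRing.IsPseudoCoherent R m K from
    fun {K b} hK => h (b - m + 1).toNat K
      (@DerivedCategory.TStructure.t (ModuleCat.{u} R) _ _ _ |>.isLE_of_le K b _ (by omega))
  intro k
  induction k with
  | zero =>
    intro K hK _
    haveI := hK
    exact pc_of_isLE (n := m - 1 + ((0 : ℕ) : ℤ)) (by omega)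
  | succ k ih =>
    intro K hK h
    haveI := hK
    let b : ℤ := m + k
    let t := @DerivedCategory.TStructure.t (ModuleCat.{u} R) _ _ _
    have hT := t.triangleLTGE_distinguished b K
    haveI h1 : ((t.truncLT b).obj K).IsLE (b - 1) := t.isLE_truncLT_obj K b (b - 1) (by omega)
    haveI h3 : ((t.truncGE b).obj K).IsGE b := t.isGE_truncGE_obj K b b (by omega)
    haveI h3' : ((t.truncGE b).obj K).IsLE b := by
      rw [DerivedCategory.isLE_iff]
      intro j hj
      haveI : Epi ((HF R j).map ((t.truncGEπ b).app K)) :=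
        (DerivedCategory.HomologySequence.epi_homologyMap_mor₂_iff _ hT j (j + 1) rfl).2
          ((DerivedCategory.isZero_of_isLE ((t.truncLT b).obj K) (b - 1) (j + 1) (by omega)).eq_of_tgt _ _)
      exact IsZero.of_epi ((HF R j).map ((t.truncGEπ b).app K))
        (DerivedCategory.isZero_of_isLE K (m - 1 + ((k + 1 : ℕ) : ℤ)) j (by omega))
    refine pc_ext hT (ih _ ?_ fun i => ?_) ?_
    · show ((t.truncLT b).obj K).IsLE _
      exact t.isLE_of_le _ (b - 1) _ (by omega)
    · by_cases hi : i < b
      · haveI : (Triangulated.TStructure.triangleLTGE t b).obj K |>.obj₃.IsGE b := h3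
        haveI := homology_iso_of_isGE₃ hT b i hi
        exact pcModule_retract (asIso ((HF R i).map ((Triangulated.TStructure.triangleLTGE t b).obj K).mor₁)).retract (h i)
      · have hz := DerivedCategory.isZero_of_isLE ((t.truncLT b).obj K) (b - 1) i (by omega)
        exact pcModule_retract ⟨0, 0, hz.eq_of_src _ _⟩ (h i)
    · haveI : Epi ((HF R b).map ((t.truncGEπ b).app K)) :=
        (DerivedCategory.HomologySequence.epi_homologyMap_mor₂_iff _ hT b (b + 1) rfl).2
          ((DerivedCategory.isZero_of_isLE ((t.truncLT b).obj K) (b - 1) (b + 1) (by omega)).eq_of_tgt _ _)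
      haveI : Mono ((HF R b).map ((t.truncGEπ b).app K)) :=
        (DerivedCategory.HomologySequence.mono_homologyMap_mor₂_iff _ hT b).2
          ((DerivedCategory.isZero_of_isLE ((t.truncLT b).obj K) (b - 1) b (by omega)).eq_of_src _ _)
      haveI := isIso_of_mono_of_epi ((HF R b).map ((t.truncGEπ b).app K))
      obtain ⟨M, ⟨eM⟩⟩ := DerivedCategory.exists_iso_singleFunctor_obj_of_isGE_of_isLE ((t.truncGE b).obj K) b
      let e' : ((t.truncGE b).obj K) ≅ DerivedCategory.Q.obj
          ((HomologicalComplex.single (ModuleCat.{u} R) (ComplexShape.up ℤ) b).obj M) :=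
        eM ≪≫ (DerivedCategory.singleFunctorIsoCompQ (ModuleCat.{u} R) b).app M
      let eH : M ≅ (HF R b).obj K :=
        (singleObjHomologySelfIso (ComplexShape.up ℤ) b M).symm ≪≫ (HQ _ b).symm ≪≫ (HF R b).mapIso e'.symm ≪≫
          (asIso ((HF R b).map ((t.truncGEπ b).app K))).symm
      exact pc_iso ((singleIso b M) ≪≫ e'.symm)
        (pc_shift (pcModule_retract eH.retract (h b)) (-b) m (by omega))

theorem pc_of_finite_homology [IsNoetherianRing R] {m : ℤ} : ∀ {K : Dual.D R} {b : ℤ}, K.IsLE b →
    (∀ i, m ≤ i → Module.Finite R (Dual.HD R K i)) → DRing.IsPseudoCoherent R m K := by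
  suffices h : ∀ (k : ℕ) (K : Dual.D R), K.IsLE (m - 1 + k) →
      (∀ i, m ≤ i → Module.Finite R (Dual.HD R K i)) → DRing.IsPseudoCoherent R m K from
    fun {K b} hK => h (b - m + 1).toNat K
      (@DerivedCategory.TStructure.t (ModuleCat.{u} R) _ _ _ |>.isLE_of_le K b _ (by omega))
  intro k
  induction k with
  | zero =>
    intro K hK _
    haveI := hK
    exact pc_of_isLE (n := m - 1 + ((0 : ℕ) : ℤ)) (by omega)
  | succ k ih =>
    intro K hK h
    let b : ℤ := m + k
    haveI : K.IsLE b := by rwa [show b = m - 1 + ((k + 1 : ℕ) : ℤ) by simp only [b]; omega]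
    obtain ⟨r, T, hT, h1, h2, h3⟩ := exists_cover_cone K b (h b (by simp [b]))
    subst h2
    refine pc_ext hT (h1 ▸ pc_freeAt b r m) (ih _ ?_ fun i hi => ?_)
    · rwa [show m - 1 + (k : ℤ) = b - 1 by simp [b]; omega]
    · refine finite_of_exact (DerivedCategory.HomologySequence.exact₃ T hT i (i + 1) rfl) (h i hi) ?_
      haveI : IsNoetherian R ((HF R (i + 1)).obj T.obj₁) := by
        haveI : Module.Finite R ((HF R (i + 1)).obj T.obj₁) := by
          rw [h1]
          by_cases hb : i + 1 = b
          · rw [hb]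
            exact (finite_free_homology b r).1
          · haveI := ModuleCat.subsingleton_of_isZero (isZero_hf_freeAt (R := R) b r (i + 1) hb)
            infer_instance
        exact isNoetherian_of_isNoetherianRing_of_finite R _
      exact IsNoetherian.noetherian _

lemma finite_homology_of_pc [IsNoetherianRing R] {m : ℤ} {K : Dual.D R} (h : DRing.IsPseudoCoherent R m K) :
    (∃ b, K.IsLE b) ∧ ∀ i, m ≤ i → Module.Finite R (Dual.HD R K i) := by
  obtain ⟨E, a, b, α, hE, hf, hα⟩ := h
  refine ⟨⟨max b m, ?_⟩, fun i hi => ?_⟩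
  · rw [DerivedCategory.isLE_iff]
    intro i hi
    haveI := hα.1 i (by omega)
    refine IsZero.of_iso ?_ ((asIso ((HF R i).map α)).symm ≪≫ HQ E i)
    rw [← exactAt_iff_isZero_homology]
    exact ExactAt.of_isZero (hE i (Or.inr (by omega)))
  · haveI : Epi ((HF R i).map α) := (Apx.mono hα hi).2
    haveI := (hf i).1
    haveI : IsNoetherian R (E.X i) := isNoetherian_of_isNoetherianRing_of_finite R _
    exact finite_of_epi ((HF R i).map α) (finite_of_iso (HQ E i).symm
      (finite_homology_of_finite_cycles i (Module.Finite.of_fg (IsNoetherian.noetherian _))))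

theorem perfect_of_iso {K L : Dual.D R} (e : K ≅ L) (h : DRing.IsPerfect R K) : DRing.IsPerfect R L := by
  obtain ⟨E, a, b, hE, hp, ⟨e'⟩⟩ := h
  exact ⟨E, a, b, hE, hp, ⟨e' ≪≫ e⟩⟩

theorem perfect_shift {K : Dual.D R} (h : DRing.IsPerfect R K) (n : ℤ) : DRing.IsPerfect R (K⟦n⟧) := by
  obtain ⟨E, a, b, hE, hp, ⟨e⟩⟩ := h
  exact ⟨E⟦n⟧, a - n, b - n, fun i hi => (hE (i + n) (by omega)).of_iso (E.shiftFunctorObjXIso n i (i + n) rfl),
    fun i => finite_projective_of_iso (E.shiftFunctorObjXIso n i (i + n) rfl).symm (hp (i + n)),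
    ⟨(DerivedCategory.Q.commShiftIso n).app E ≪≫ (shiftFunctor _ n).mapIso e⟩⟩

theorem perfect_retract {K L : Dual.D R} (r : Retract K L) (h : DRing.IsPerfect R L) : DRing.IsPerfect R K := by
  haveI := fun M : ModuleCat.{u} R => hasLTensor (R := R) M
  obtain ⟨hL, a, b, ht⟩ := (perfect_iff L).1 h
  refine (perfect_iff K).2 ⟨pc'_of_forall fun m => pc_retract r (pc_of_pc' hL m), a, b,
    flatAmp_of_vanish fun A i hi => ?_⟩
  have t := Retract.map (Retract.map r (DRing.LTensor R A)) (DerivedCategory.homologyFunctor (ModuleCat.{u} R) i)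
  rw [IsZero.iff_id_eq_zero, ← t.retract, (vanish_of_flatAmp ht A hi).eq_of_tgt t.i 0, zero_comp]

theorem perfect_ext {T : Triangle (Dual.D R)} (hT : T ∈ distinguishedTriangles) (h₁ : DRing.IsPerfect R T.obj₁)
    (h₃ : DRing.IsPerfect R T.obj₃) : DRing.IsPerfect R T.obj₂ := by
  haveI := fun M : ModuleCat.{u} R => hasLTensor (R := R) M
  obtain ⟨g₁, a₁, b₁, t₁⟩ := (perfect_iff _).1 h₁
  obtain ⟨g₃, a₃, b₃, t₃⟩ := (perfect_iff _).1 h₃
  exact (perfect_iff _).2 ⟨pc'_of_forall fun m => pc_ext hT (pc_of_pc' g₁ m) (pc_of_pc' g₃ m), min a₁ a₃, max b₁ b₃,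
    ((Groth.Agent.S7027.result R (min a₁ a₃) (max b₁ b₃) T hT).2.1
      (torAmplitude_mono t₁ (by omega) (by omega)) (torAmplitude_mono t₃ (by omega) (by omega)))⟩

theorem perfect_cone {T : Triangle (Dual.D R)} (hT : T ∈ distinguishedTriangles) (h₁ : DRing.IsPerfect R T.obj₁)
    (h₂ : DRing.IsPerfect R T.obj₂) : DRing.IsPerfect R T.obj₃ :=
  perfect_ext (rot_of_distTriang _ hT) h₂ (perfect_shift h₁ 1)

/-- Exact functors sending the ring to a perfect object preserve perfect objects. -/
theorem perfect_map {S : Type u} [CommRing S] (F : ModuleCat.{u} R ⥤ ModuleCat.{u} S) [F.Additive]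
    [PreservesFiniteLimits F] [PreservesFiniteColimits F]
    (h : DRing.IsPerfect S (Dual.inD S (F.obj (𝟙_ (ModuleCat.{u} R))))) {K : Dual.D R}
    (hK : DRing.IsPerfect R K) : DRing.IsPerfect S (F.mapDerivedCategory.obj K) := by
  refine devissage (fun K => DRing.IsPerfect S (F.mapDerivedCategory.obj K))
    (fun e h => perfect_of_iso (F.mapDerivedCategory.mapIso e) h)
    (fun T hT h₁ h₂ _ _ => perfect_cone (F.mapDerivedCategory.map_distinguished T hT) h₁ h₂)
    (fun r h => perfect_retract (r.map _) h) (fun n => ?_) hK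
  refine perfect_of_iso ?_ (perfect_shift h (-n))
  exact singleIso n (F.obj (𝟙_ (ModuleCat.{u} R))) ≪≫
    DerivedCategory.Q.mapIso (((singleMapHomologicalComplex F (ComplexShape.up ℤ) n).app (𝟙_ (ModuleCat.{u} R)))).symm ≪≫
    (F.mapDerivedCategoryFactors.app _).symm

end Groth.Agent.DRingLib
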