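import Groth.Agent.DRingLib.PCPerf
import Mathlib.Algebra.Module.FinitePresentation

/-! Criteria for pseudo-coherence. -/

set_option autoImplicit false
set_option backward.isDefEq.respectTransparency false
set_option backward.defeqAttrib.useBackward true
set_option linter.style.haveILetI false

universe u

open CategoryTheory CategoryTheory.Limits HomologicalComplex CategoryTheory.Pretriangulated

attribute [local instance] HasDerivedCategory.standard

namespace Groth.Agent.DRingLib

open Groth.Agent.DCat

variable {R : Type u} [CommRing R]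

/-- The cohomology of a module in degree zero. -/
noncomputable def hfInD (M : Type u) [AddCommGroup M] [Module R M] :
    (HF R 0).obj (Dual.inD R M) ≅ ModuleCat.of R M :=
  (HF R 0).mapIso ((DerivedCategory.singleFunctorIsoCompQ (ModuleCat.{u} R) 0).app (ModuleCat.of R M)) ≪≫
    HQ _ 0 ≪≫ singleObjHomologySelfIso (ComplexShape.up ℤ) 0 (ModuleCat.of R M)

lemma isZero_hf_freeAt (b : ℤ) (r : ℕ) (i : ℤ) (h : i ≠ b) :
    IsZero ((HF R i).obj (DRing.toD (freeAt R b r))) := by
  refine IsZero.of_iso ?_ (HQ _ i)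
  rw [← exactAt_iff_isZero_homology]
  exact ExactAt.of_isZero (isZero_single_obj_X _ _ _ _ h)

lemma finite_free_homology (b : ℤ) (r : ℕ) :
    Module.Finite R ((HF R b).obj (DRing.toD (freeAt R b r))) ∧ Module.Free R ((HF R b).obj (DRing.toD (freeAt R b r))) :=
  free_of_iso (HQ _ b ≪≫ singleObjHomologySelfIso (ComplexShape.up ℤ) b _).symm ⟨inferInstance, inferInstance⟩

/-- An extension of finite modules is finite. -/
lemma finite_of_exact {S : ShortComplex (ModuleCat.{u} R)} (hS : S.Exact) (h₁ : Module.Finite R S.X₁)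
    (h : (LinearMap.range S.g.hom).FG) : Module.Finite R S.X₂ := by
  haveI := h₁
  refine ⟨Submodule.fg_of_fg_map_of_fg_inf_ker S.g.hom ?_ ?_⟩
  · rw [← LinearMap.range_eq_map]
    exact h
  · rw [top_inf_eq, ← (LinearMap.exact_iff.1 ((ShortComplex.ShortExact.moduleCat_exact_iff_function_exact S).1 hS)).symm,
      LinearMap.range_eq_map]
    exact Module.Finite.fg_top.map _

/-- The cone of a free cover. -/
lemma exists_cover_cone (K : Dual.D R) (b : ℤ) [K.IsLE b] (h : Module.Finite R ((HF R b).obj K)) :
    ∃ (r : ℕ) (T : Triangle (Dual.D R)), T ∈ distinguishedTriangles ∧ T.obj₁ = DRing.toD (freeAt R b r) ∧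
      T.obj₂ = K ∧ T.obj₃.IsLE (b - 1) := by
  obtain ⟨r, g, hg⟩ := exists_cover K b h
  obtain ⟨C, v, w, hT⟩ := distinguished_cocone_triangle g
  refine ⟨r, _, hT, rfl, rfl, (apx_iff_isLE b _ hT).1 ⟨fun i hi => ?_, hg⟩⟩
  exact ⟨0, (isZero_hf_freeAt b r i (by omega)).eq_of_src _ _, (DerivedCategory.isZero_of_isLE K b i hi).eq_of_src _ _⟩

theorem pc_of_finitePresentation {K : Dual.D R} {m : ℤ} [K.IsLE (m + 1)]
    (hfp : Module.FinitePresentation R ((HF R (m + 1)).obj K)) (hfin : Module.Finite R ((HF R m).obj K)) :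
    DRing.IsPseudoCoherent R m K := by
  haveI := hfp
  obtain ⟨r, T, hT, h1, h2, h3⟩ := exists_cover_cone K (m + 1) inferInstance
  subst h2
  haveI := h3
  haveI hC : T.obj₃.IsLE m := by rwa [add_sub_cancel_right] at h3
  have hF := finite_free_homology (R := R) (m + 1) r
  rw [← h1] at hF
  haveI : Module.Finite R ((HF R (m + 1)).obj T.obj₁) := hF.1
  have hsurj : Function.Surjective ((HF R (m + 1)).map T.mor₁).hom :=
    (ModuleCat.epi_iff_surjective _).1
      ((DerivedCategory.HomologySequence.epi_homologyMap_mor₁_iff T hT (m + 1)).2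
        ((DerivedCategory.isZero_of_isLE T.obj₃ m (m + 1) (by omega)).eq_of_tgt _ _))
  have hker : (LinearMap.ker ((HF R (m + 1)).map T.mor₁).hom).FG := Module.FinitePresentation.fg_ker _ hsurj
  have hr := LinearMap.exact_iff.1 ((ShortComplex.ShortExact.moduleCat_exact_iff_function_exact _).1
    (DerivedCategory.HomologySequence.exact₁ T hT m (m + 1) rfl))
  rw [hr] at hker
  have hCfin : Module.Finite R ((HF R m).obj T.obj₃) :=
    finite_of_exact (DerivedCategory.HomologySequence.exact₃ T hT m (m + 1) rfl) hfin hker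
  obtain ⟨s, φ, hφ⟩ := exists_cover T.obj₃ m hCfin
  have hCpc : DRing.IsPseudoCoherent R m T.obj₃ :=
    ⟨freeAt R m s, m, m, φ, (freeAt_finiteFree m s).1, (freeAt_finiteFree m s).2,
      fun i hi => ⟨0, (isZero_hf_freeAt m s i (by omega)).eq_of_src _ _,
        (DerivedCategory.isZero_of_isLE T.obj₃ m i hi).eq_of_src _ _⟩, hφ⟩
  exact pc_ext hT (h1 ▸ pc_freeAt (m + 1) r m) hCpc

theorem module_pc_zero_iff (M : Type u) [AddCommGroup M] [Module R M] :
    DRing.IsPseudoCoherentModule R 0 M ↔ Module.Finite R M := by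
  refine ⟨fun h => finite_of_iso (hfInD M) (finite_top (m := 0) (K := Dual.inD R M) h), fun h => ?_⟩
  obtain ⟨r, T, hT, h1, h2, h3⟩ := exists_cover_cone (Dual.inD R M) 0 (finite_of_iso (hfInD M).symm h)
  haveI := h3
  have := pc_ext hT (h1 ▸ pc_freeAt 0 r 0) (pc_of_isLE (n := 0 - 1) (by omega))
  rwa [h2] at this

theorem module_pc_negOne_iff (M : Type u) [AddCommGroup M] [Module R M] :
    DRing.IsPseudoCoherentModule R (-1) M ↔ Module.FinitePresentation R M := by
  constructor
  · intro h
    have hfin : Module.Finite R M := (module_pc_zero_iff M).1 (pc_mono (by omega) h)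
    obtain ⟨r, T, hT, h1, h2, h3⟩ := exists_cover_cone (Dual.inD R M) 0 (finite_of_iso (hfInD M).symm hfin)
    haveI := h3
    have hC : DRing.IsPseudoCoherent R (-1) T.obj₃ :=
      pc_cone hT (h1 ▸ pc_freeAt 0 r (-1 + 1)) (by rw [h2]; exact h)
    haveI hC' : T.obj₃.IsLE (-1) := by rwa [zero_sub] at h3
    haveI := finite_top hC
    have hF := finite_free_homology (R := R) 0 r
    rw [← h1] at hF
    haveI : Module.Finite R ((HF R 0).obj T.obj₁) := hF.1
    haveI : Module.Free R ((HF R 0).obj T.obj₁) := hF.2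
    have hsurj : Function.Surjective ((HF R 0).map T.mor₁).hom :=
      (ModuleCat.epi_iff_surjective _).1 ((DerivedCategory.HomologySequence.epi_homologyMap_mor₁_iff T hT 0).2
        ((DerivedCategory.isZero_of_isLE T.obj₃ (-1) 0 (by omega)).eq_of_tgt _ _))
    have hr := LinearMap.exact_iff.1 ((ShortComplex.ShortExact.moduleCat_exact_iff_function_exact _).1
      (DerivedCategory.HomologySequence.exact₁ T hT (-1) 0 (by omega)))
    have := Module.finitePresentation_of_free_of_surjective _ hsurj (by
      rw [hr, LinearMap.range_eq_map]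
      exact Module.Finite.fg_top.map _)
    rw [h2] at this
    exact Module.FinitePresentation.of_equiv (hfInD M).toLinearEquiv (M := (HF R 0).obj (Dual.inD R M))
  · intro h
    haveI : (Dual.inD R M).IsLE (-1 + 1) := by
      rw [neg_add_cancel]
      infer_instance
    refine pc_of_finitePresentation ?_ ?_
    · rw [neg_add_cancel]
      exact Module.FinitePresentation.of_equiv (hfInD M).toLinearEquiv.symm
    · haveI := ModuleCat.subsingleton_of_isZero (DerivedCategory.isZero_of_isGE (Dual.inD R M) 0 (-1) (by omega))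
      infer_instance

end Groth.Agent.DRingLib
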