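import Groth.Agent.DRingLib.PCBase
import Mathlib.CategoryTheory.Limits.Constructions.EventuallyConstant

/-! Pseudo-coherent objects are bounded above complexes of finite free modules. -/

set_option autoImplicit false
set_option backward.isDefEq.respectTransparency false
set_option backward.defeqAttrib.useBackward true
set_option linter.style.haveILetI false

universe u

open CategoryTheory CategoryTheory.Limits HomologicalComplex CategoryTheory.Pretriangulated
open scoped ZeroObject

attribute [local instance] HasDerivedCategory.standard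

namespace Groth.Agent.DRingLib

open Groth.Agent.DCat

variable {R : Type u} [CommRing R]

/-- A stage of a resolution. -/
structure Stage (L : DRing.Cx R) (b n : ℤ) where
  E : DRing.Cx R
  α : E ⟶ L
  outside : DRing.VanishesOutside E n b
  free : DRing.TermwiseFiniteFree E
  apx : Apx n (DerivedCategory.Q.map α)

lemma quotient_nullHomotopicMap {E L : DRing.Cx R} (f : E ⟶ L) (hom : ∀ i j, E.X i ⟶ L.X j)
    (hz : ∀ i j, ¬ (ComplexShape.up ℤ).Rel j i → hom i j = 0) :
    DerivedCategory.Q.map (f + Homotopy.nullHomotopicMap hom) = DerivedCategory.Q.map f := by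
  haveI : DerivedCategory.Q (C := ModuleCat.{u} R) |>.Additive := inferInstance
  rw [Functor.map_add]
  have h : (HomotopyCategory.quotient (ModuleCat.{u} R) (ComplexShape.up ℤ)).map (Homotopy.nullHomotopicMap hom) = 0 := by
    rw [HomotopyCategory.eq_of_homotopy _ _ (Homotopy.nullHomotopy hom hz), Functor.map_zero]
  have := NatIso.naturality_1 (DerivedCategory.quotientCompQhIso (ModuleCat.{u} R)) (Homotopy.nullHomotopicMap hom)
  dsimp at this
  rw [← this, h, Functor.map_zero, zero_comp, comp_zero, add_zero]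

/-- A map out of a mapping cone may be changed within its class to restrict strictly. -/
lemma exists_strict_ext {F E L : DRing.Cx R} (ψ : F ⟶ E) (v : CochainComplex.mappingCone ψ ⟶ L) (α : E ⟶ L)
    (h : Homotopy (CochainComplex.mappingCone.inr ψ ≫ v) α) :
    ∃ v' : CochainComplex.mappingCone ψ ⟶ L,
      DerivedCategory.Q.map v' = DerivedCategory.Q.map v ∧ CochainComplex.mappingCone.inr ψ ≫ v' = α := by
  let s := (CochainComplex.mappingCone.snd ψ)
  let hom : ∀ i j, (CochainComplex.mappingCone ψ).X i ⟶ L.X j := fun i j =>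
    s.v i i (add_zero i) ≫ (-h.hom i j)
  have hz : ∀ i j, ¬ (ComplexShape.up ℤ).Rel j i → hom i j = 0 := fun i j hij => by
    simp [hom, h.zero i j hij]
  refine ⟨v + Homotopy.nullHomotopicMap hom, quotient_nullHomotopicMap v hom hz, ?_⟩
  ext1 i
  have hc := h.comm i
  simp only [comp_f, add_f_apply, Preadditive.comp_add] at hc ⊢
  rw [hc]
  have : (CochainComplex.mappingCone.inr ψ).f i ≫ (Homotopy.nullHomotopicMap hom).f i =
      -(dNext i h.hom + prevD i h.hom) := by
    simp only [Homotopy.nullHomotopicMap, Preadditive.comp_add]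
    rw [dNext_eq _ (show (ComplexShape.up ℤ).Rel i (i + 1) by simp),
      prevD_eq _ (show (ComplexShape.up ℤ).Rel (i - 1) i by simp),
      dNext_eq _ (show (ComplexShape.up ℤ).Rel i (i + 1) by simp),
      prevD_eq _ (show (ComplexShape.up ℤ).Rel (i - 1) i by simp)]
    rw [reassoc_of% ((CochainComplex.mappingCone.inr ψ).comm i (i + 1))]
    simp [hom, s, add_comm]
  rw [this]
  abel

/-- The next stage. -/
theorem exists_next {L : DRing.Cx R} (hL : ∀ m, DRing.IsPseudoCoherent R m (DerivedCategory.Q.obj L))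
    {b n : ℤ} (hn : n ≤ b + 1) (s : Stage L b n) :
    ∃ (t : Stage L b (n - 1)) (j : s.E ⟶ t.E), j ≫ t.α = s.α ∧ ∀ i, n ≤ i → IsIso (j.f i) := by
  obtain ⟨C, g, w, hT⟩ := distinguished_cocone_triangle (DerivedCategory.Q.map s.α)
  haveI : C.IsLE (n - 1) := (apx_iff_isLE n _ hT).1 s.apx
  have hC : DRing.IsPseudoCoherent R (n - 1) C :=
    pc_cone hT ⟨s.E, n, b, 𝟙 _, s.outside, s.free, apx_of_isIso _ (𝟙 (DerivedCategory.Q.obj s.E))⟩ (hL _)
  have hT' := inv_rot_of_distTriang _ hT
  let C' : Dual.D R := C⟦(-1 : ℤ)⟧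
  haveI : C'.IsLE n := isLE_shift' C (n - 1) (-1) n (by omega)
  have hC' : DRing.IsPseudoCoherent R n C' := pc_shift hC (-1) n (by omega)
  obtain ⟨r, c, hc⟩ := exists_cover C' n (finite_top hC')
  haveI : (freeAt R n r).IsKProjective :=
    isKProjective_of_outside (freeAt_finiteFree n r).1 (projective_of_free (freeAt_finiteFree n r).2)
  obtain ⟨ψ, hψ⟩ := exists_Q_map (c ≫ (Triangle.mk (DerivedCategory.Q.map s.α) g w).invRotate.mor₁)
  obtain ⟨Z, gz, wz, hZ⟩ := distinguished_cocone_triangle c
  haveI : Z.IsLE (n - 1) := by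
    refine (apx_iff_isLE n _ hZ).1 ⟨fun i hi => ?_, hc⟩
    refine ⟨0, IsZero.eq_of_src (IsZero.of_iso ?_ (HQ _ i)) _ _,
      (DerivedCategory.isZero_of_isLE C' n i hi).eq_of_src _ _⟩
    rw [← HomologicalComplex.exactAt_iff_isZero_homology]
    exact ExactAt.of_isZero (isZero_single_obj_X _ _ _ _ (by omega))
  let O := Triangulated.someOctahedron hψ.symm hZ hT' (DerivedCategory.mappingCone_triangle_distinguished ψ)
  have hu : Apx (n - 1) O.m₃ := (apx_iff_isLE (n - 1) _ (rot_of_distTriang _ O.mem)).2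
    (isLE_shift' Z (n - 1) 1 (n - 1 - 1) (by omega))
  obtain ⟨hv, hvf⟩ := finite_free_mappingCone ψ (freeAt_finiteFree n r).1 (freeAt_finiteFree n r).2 s.outside s.free
  have hv' : DRing.VanishesOutside (CochainComplex.mappingCone ψ) (n - 1) b := fun i hi =>
    hv i (by rcases hi with hi | hi <;> omega)
  haveI := isKProjective_of_outside hv' (projective_of_free hvf)
  obtain ⟨v, hv₀⟩ := exists_Q_map (P := CochainComplex.mappingCone ψ) (L := L) O.m₃
  haveI := isKProjective_of_outside s.outside (projective_of_free s.free)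
  have hq : DerivedCategory.Q.map (CochainComplex.mappingCone.inr ψ ≫ v) = DerivedCategory.Q.map s.α := by
    rw [Functor.map_comp, hv₀]
    exact O.comm₃
  have hh : (HomotopyCategory.quotient _ (ComplexShape.up ℤ)).map (CochainComplex.mappingCone.inr ψ ≫ v) =
      (HomotopyCategory.quotient _ (ComplexShape.up ℤ)).map s.α := by
    apply (CochainComplex.IsKProjective.Qh_map_bijective s.E _).1
    rw [← cancel_mono ((DerivedCategory.quotientCompQhIso (ModuleCat.{u} R)).hom.app L)]
    refine ((DerivedCategory.quotientCompQhIso (ModuleCat.{u} R)).hom.naturality _).trans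
      (Eq.trans ?_ ((DerivedCategory.quotientCompQhIso (ModuleCat.{u} R)).hom.naturality _).symm)
    rw [hq]
  obtain ⟨v', hv'q, hv'α⟩ := exists_strict_ext ψ v s.α (HomotopyCategory.homotopyOfEq _ _ hh)
  refine ⟨⟨_, v', hv', hvf, by rw [hv'q, hv₀]; exact hu⟩, CochainComplex.mappingCone.inr ψ, hv'α, fun i hi => ?_⟩
  have hz : IsZero ((freeAt R n r).X (i + 1)) := isZero_single_obj_X _ _ _ _ (by omega)
  refine ⟨(CochainComplex.mappingCone.snd ψ).v i i (add_zero i), by simp, ?_⟩
  apply CochainComplex.mappingCone.ext_to _ i (i + 1) rfl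
  · exact hz.eq_of_tgt _ _
  · simp

theorem pc'_of_forall {K : Dual.D R} (h : ∀ m, DRing.IsPseudoCoherent R m K) : DRing.IsPseudoCoherent' R K := by
  obtain ⟨E₀, a, c, α₀, hE₀, hf₀, hα₀⟩ := h 0
  let b := max c 0
  obtain ⟨L, ⟨e⟩⟩ : ∃ L, Nonempty (DerivedCategory.Q.obj L ≅ K) := ⟨_, ⟨DerivedCategory.Q.objObjPreimageIso K⟩⟩
  have hL : ∀ m, DRing.IsPseudoCoherent R m (DerivedCategory.Q.obj L) := fun m => pc_iso e.symm (h m)
  have hz : ∀ i, b < i → IsZero ((HF R i).obj K) := fun i hi => by
    haveI := hα₀.1 i (by omega)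
    refine IsZero.of_iso ?_ ((asIso ((HF R i).map α₀)).symm ≪≫ HQ E₀ i)
    rw [← HomologicalComplex.exactAt_iff_isZero_homology]
    exact ExactAt.of_isZero (hE₀ i (Or.inr (by omega)))
  haveI hLle : (DerivedCategory.Q.obj L).IsLE b :=
    (DerivedCategory.isLE_iff _ b).2 fun i hi => (hz i hi).of_iso ((HF R i).mapIso e)
  let s₀ : Stage L b (b + 1 - ((0 : ℕ) : ℤ)) :=
    { E := 0
      α := 0
      outside := fun i _ => (HomologicalComplex.eval _ _ i).map_isZero (isZero_zero _)
      free := fun i => free_zero ((HomologicalComplex.eval _ _ i).map_isZero (isZero_zero _))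
      apx := by
        refine ⟨fun i hi => ⟨0, IsZero.eq_of_src ?_ _ _, ?_⟩, ⟨fun g g' _ => ?_⟩⟩
        · exact Functor.map_isZero _ (DerivedCategory.Q.map_isZero (isZero_zero _))
        · exact (DerivedCategory.isZero_of_isLE _ b i (by omega)).eq_of_src _ _
        · exact (DerivedCategory.isZero_of_isLE _ b _ (by omega)).eq_of_src _ _ }
  have hstep : ∀ (k : ℕ) (s : Stage L b (b + 1 - (k : ℤ))), ∃ (t : Stage L b (b + 1 - ((k + 1 : ℕ) : ℤ)))
      (j : s.E ⟶ t.E), j ≫ t.α = s.α ∧ ∀ i, b + 1 - (k : ℤ) ≤ i → IsIso (j.f i) := fun k s => by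
    obtain ⟨t, j, h1, h2⟩ := exists_next hL (by omega) s
    rw [show b + 1 - ((k + 1 : ℕ) : ℤ) = b + 1 - (k : ℤ) - 1 by omega]
    exact ⟨t, j, h1, h2⟩
  choose next j hj hiso using hstep
  let st : ∀ k : ℕ, Stage L b (b + 1 - (k : ℤ)) := fun k => Nat.rec s₀ next k
  let f : ∀ k, (st k).E ⟶ (st (k + 1)).E := fun k => j k (st k)
  let F : ℕ ⥤ DRing.Cx R := Functor.ofSequence f
  let cl := colimit.cocone F
  let β : cl.pt ⟶ L := colimit.desc F
    { pt := L
      ι := NatTrans.ofSequence (fun k => (st k).α) fun k => by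
        dsimp
        rw [Functor.ofSequence_map_homOfLE_succ, Category.comp_id]
        exact hj k (st k) }
  have hcon : ∀ (i : ℤ) (k : ℕ), b + 1 - (k : ℤ) ≤ i →
      IsIso ((colimit.ι F k).f i) := fun i k hk => by
    have hev : (F ⋙ HomologicalComplex.eval (ModuleCat.{u} R) (ComplexShape.up ℤ) i).IsEventuallyConstantFrom k := by
      intro l φ
      obtain ⟨d, rfl⟩ := Nat.exists_eq_add_of_le (leOfHom φ)
      induction d with
      | zero =>
        rw [show φ = 𝟙 k from Subsingleton.elim _ _, CategoryTheory.Functor.map_id]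
        infer_instance
      | succ d ih =>
        rw [show φ = homOfLE (Nat.le_add_right k d) ≫ homOfLE (Nat.le_add_right (k + d) 1) from Subsingleton.elim _ _,
          Functor.map_comp]
        haveI := ih (homOfLE (Nat.le_add_right k d))
        haveI : IsIso ((F ⋙ HomologicalComplex.eval (ModuleCat.{u} R) (ComplexShape.up ℤ) i).map
            (homOfLE (Nat.le_add_right (k + d) 1))) := by
          simp only [Functor.comp_map, HomologicalComplex.eval_map, F, Functor.ofSequence_map_homOfLE_succ]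
          exact hiso (k + d) (st (k + d)) i (by omega)
        infer_instance
    exact hev.isIso_ι_of_isColimit (isColimitOfPreserves (HomologicalComplex.eval _ _ i) (colimit.isColimit F))
  have hk : ∀ i : ℤ, ∃ k : ℕ, b + 1 - (k : ℤ) ≤ i := fun i => ⟨(b + 1 - i).toNat, by omega⟩
  refine ⟨cl.pt, b, fun i hi => ?_, fun i => ?_, ⟨@asIso _ _ _ _ (DerivedCategory.Q.map β) ?_ ≪≫ e⟩⟩
  · haveI := hcon i 0 (by omega)
    exact ((st 0).outside i (Or.inr hi)).of_iso (asIso ((colimit.ι F 0).f i)).symm
  · obtain ⟨k, hk⟩ := hk i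
    haveI := hcon i k hk
    exact free_of_iso (asIso ((colimit.ι F k).f i)) ((st k).free i)
  · rw [DerivedCategory.isIso_Q_map_iff_quasiIso]
    refine ⟨fun i => ?_⟩
    obtain ⟨k, hk⟩ := hk (i - 1)
    haveI h1 : QuasiIsoAt ((colimit.ι F k)) i := by
      rw [quasiIsoAt_iff' _ (i - 1) i (i + 1) (by simp) (by simp)]
      haveI := hcon (i - 1) k hk
      haveI := hcon i k (by omega)
      haveI := hcon (i + 1) k (by omega)
      let φ := (shortComplexFunctor' (ModuleCat.{u} R) (ComplexShape.up ℤ) (i - 1) i (i + 1)).map (colimit.ι F k)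
      haveI : Epi φ.τ₁ := inferInstanceAs (Epi ((colimit.ι F k).f (i - 1)))
      haveI : IsIso φ.τ₂ := inferInstanceAs (IsIso ((colimit.ι F k).f i))
      haveI : Mono φ.τ₃ := inferInstanceAs (Mono ((colimit.ι F k).f (i + 1)))
      exact ShortComplex.quasiIso_of_epi_of_isIso_of_mono φ
    have hα : QuasiIsoAt (colimit.ι F k ≫ β) i := by
      rw [show colimit.ι F k ≫ β = (st k).α by simp [β]]
      rw [quasiIsoAt_iff_isIso_homologyMap]
      haveI := (st k).apx.1 i (by omega)
      exact (NatIso.isIso_map_iff (DerivedCategory.homologyFunctorFactors (ModuleCat.{u} R) i) (st k).α).1 this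
    exact (quasiIsoAt_iff_comp_left (colimit.ι F k) β i).1 hα

theorem pc'_iff {K : Dual.D R} : DRing.IsPseudoCoherent' R K ↔ ∀ m, DRing.IsPseudoCoherent R m K :=
  ⟨pc_of_pc', pc'_of_forall⟩

end Groth.Agent.DRingLib
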