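import Groth.Agent.DRingLib.PCPerf
import Groth.Agent.DRingLib.PCRes
import Groth.Agent.DRingLib.PCGen
import Groth.Agent.DRingLib.PCMore
import Groth.Prelude.Def_DDual2
import Mathlib.Algebra.Homology.DerivedCategory.SingleTriangle
import Mathlib.LinearAlgebra.Pi

/-! Pseudo-coherence and restriction of scalars along a pseudo-coherent algebra. -/

set_option autoImplicit false
set_option backward.isDefEq.respectTransparency false
set_option backward.defeqAttrib.useBackward true
set_option linter.style.haveILetI false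

universe u

open CategoryTheory CategoryTheory.Limits CategoryTheory.Pretriangulated HomologicalComplex
attribute [local instance] HasDerivedCategory.standard

namespace Groth.Agent.DRingLib

variable {A B : Type u} [CommRing A] [CommRing B] (φ : A →+* B)

/-- Restriction on the level of complexes. -/
noncomputable abbrev resK : DRing.Cx B ⥤ DRing.Cx A :=
  (ModuleCat.restrictScalars.{u} φ).mapHomologicalComplex (ComplexShape.up ℤ)

/-- Homology of a restriction. -/
noncomputable def hfRestrictIso (K : Dual.D B) (i : ℤ) :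
    (HF A i).obj ((DRing.restrictD φ).obj K) ≅ (ModuleCat.restrictScalars.{u} φ).obj ((HF B i).obj K) :=
  let L := DerivedCategory.Q.objPreimage K
  let e : DerivedCategory.Q.obj L ≅ K := DerivedCategory.Q.objObjPreimageIso K
  (HF A i).mapIso ((DRing.restrictD φ).mapIso e.symm ≪≫
      ((ModuleCat.restrictScalars.{u} φ).mapDerivedCategoryFactors).app L) ≪≫
    HQ ((resK φ).obj L) i ≪≫ (L.sc i).mapHomologyIso (ModuleCat.restrictScalars.{u} φ) ≪≫
    (ModuleCat.restrictScalars.{u} φ).mapIso ((HQ L i).symm ≪≫ (HF B i).mapIso e)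

lemma isLE_restrict_iff (K : Dual.D B) (b : ℤ) : ((DRing.restrictD φ).obj K).IsLE b ↔ K.IsLE b := by
  rw [DerivedCategory.isLE_iff, DerivedCategory.isLE_iff]
  refine forall₂_congr fun i _ => (Iso.isZero_iff (hfRestrictIso φ K i)).trans ?_
  exact ⟨fun h => by
    haveI := ModuleCat.subsingleton_of_isZero h
    exact @ModuleCat.isZero_of_subsingleton B _ ((HF B i).obj K) (inferInstanceAs
      (Subsingleton ((ModuleCat.restrictScalars.{u} φ).obj ((HF B i).obj K)))),
    fun h => (ModuleCat.restrictScalars.{u} φ).map_isZero h⟩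

lemma finite_of_restrict (M : ModuleCat.{u} B) (h : Module.Finite A ((ModuleCat.restrictScalars.{u} φ).obj M)) :
    Module.Finite B M := by
  obtain ⟨s, hs⟩ := h.fg_top
  let s' : Finset (M : Type u) := s
  refine ⟨⟨s', top_le_iff.1 ?_⟩⟩
  intro x _
  let N : Submodule A ((ModuleCat.restrictScalars.{u} φ).obj M) :=
    { carrier := {y : M | y ∈ Submodule.span B (↑s' : Set (M : Type u))}
      add_mem' := fun {a b} ha hb => (Submodule.span B (↑s' : Set (M : Type u))).add_mem ha hb
      zero_mem' := (Submodule.span B (↑s' : Set (M : Type u))).zero_mem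
      smul_mem' := fun a y hy => (Submodule.span B (↑s' : Set (M : Type u))).smul_mem (φ a) hy }
  have : (⊤ : Submodule A ((ModuleCat.restrictScalars.{u} φ).obj M)) ≤ N :=
    hs ▸ Submodule.span_le.2 fun y hy => Submodule.subset_span (s := (↑s' : Set (M : Type u))) hy
  exact this (x := x) trivial

/-- The power `B^r`, restricted. -/
noncomputable abbrev freeRes (r : ℕ) : ModuleCat.{u} A :=
  (ModuleCat.restrictScalars.{u} φ).obj (ModuleCat.of B (Fin r → B))

lemma pc_freeRes (h : ∀ m, DRing.IsPseudoCoherentModule A m ((ModuleCat.restrictScalars.{u} φ).obj (ModuleCat.of B B)))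
    (r : ℕ) (m : ℤ) : DRing.IsPseudoCoherentModule A m (freeRes φ r) := by
  induction r with
  | zero =>
    haveI : (Dual.inD A (freeRes φ 0)).IsLE (m - 1) := DerivedCategory.TStructure.t.isLE_of_isZero
      ((DerivedCategory.singleFunctor (ModuleCat.{u} A) 0).map_isZero (@ModuleCat.isZero_of_subsingleton A _ _
        (inferInstanceAs (Subsingleton (Fin 0 → B))))) _
    exact pc_of_isLE (n := m - 1) (by omega)
  | succ r ih =>
    let f : ModuleCat.of B B ⟶ ModuleCat.of B (Fin (r + 1) → B) :=
      ModuleCat.ofHom (LinearMap.single B (fun _ : Fin (r + 1) => B) 0)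
    let g : ModuleCat.of B (Fin (r + 1) → B) ⟶ ModuleCat.of B (Fin r → B) :=
      ModuleCat.ofHom (LinearMap.funLeft B B (Fin.succ))
    have w : f ≫ g = 0 := by
      ext x i
      simp [f, g, LinearMap.funLeft, Fin.succ_ne_zero]
      rfl
    have hS : (ShortComplex.mk f g w).ShortExact :=
      { exact := (ShortComplex.moduleCat_exact_iff _).2 fun x hx => ⟨x 0, by
          funext i
          refine Fin.cases ?_ (fun j => ?_) i
          · simp [f]
          · have := congrFun hx j
            simp [f, g, LinearMap.funLeft] at this ⊢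
            exact this.symm⟩
        mono_f := (ModuleCat.mono_iff_injective _).2 fun x y hxy => by
          have := congrFun hxy 0
          simpa [f] using this
        epi_g := (ModuleCat.epi_iff_surjective _).2 fun y => ⟨Fin.cons 0 y, by
          funext j; simp [g, LinearMap.funLeft]⟩ }
    exact pc_ext (hS.map_of_exact (ModuleCat.restrictScalars.{u} φ)).singleTriangle_distinguished (h m) ih

variable {φ}

lemma pc_restrict_of_finiteFree (h : ∀ m, DRing.IsPseudoCoherentModule A m ((ModuleCat.restrictScalars.{u} φ).obj (ModuleCat.of B B)))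
    {E : DRing.Cx B} {b : ℤ} (hb : DRing.VanishesAbove E b) (hf : DRing.TermwiseFiniteFree E) (m : ℤ) :
    DRing.IsPseudoCoherent A m (DRing.toD ((resK φ).obj E)) := by
  refine pc_of_terms _ (b := b) (fun i hi => (ModuleCat.restrictScalars.{u} φ).map_isZero (hb i hi)) fun i => ?_
  haveI := (hf i).1
  haveI := (hf i).2
  obtain ⟨r, ⟨e⟩⟩ : ∃ r, Nonempty (E.X i ≅ ModuleCat.of B (Fin r → B)) :=
    ⟨_, ⟨((Module.Free.chooseBasis B (E.X i)).reindex (Fintype.equivFin _)).equivFun.toModuleIso⟩⟩
  exact pcModule_retract ((ModuleCat.restrictScalars.{u} φ).mapIso e).retract (pc_freeRes φ h r _)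

lemma pc_restrict (h : ∀ m, DRing.IsPseudoCoherentModule A m ((ModuleCat.restrictScalars.{u} φ).obj (ModuleCat.of B B)))
    {K : Dual.D B} {m : ℤ} (hK : DRing.IsPseudoCoherent B m K) :
    DRing.IsPseudoCoherent A m ((DRing.restrictD φ).obj K) := by
  obtain ⟨E, a, b, α, hEv, hEf, hα⟩ := hK
  let eE : DRing.toD ((resK φ).obj E) ≅ (DRing.restrictD φ).obj (DRing.toD E) :=
    (((ModuleCat.restrictScalars.{u} φ).mapDerivedCategoryFactors).app E).symm
  refine pc_of_apx ((DRing.restrictD φ).map α) ?_
    (pc_iso eE (pc_restrict_of_finiteFree h (fun i hi => hEv i (Or.inr hi)) hEf m))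
  obtain ⟨C, v, w, hT⟩ := distinguished_cocone_triangle α
  haveI : C.IsLE (m - 1) := (apx_iff_isLE m _ hT).1 hα
  exact (apx_iff_isLE m _ ((DRing.restrictD φ).map_distinguished _ hT)).2 ((isLE_restrict_iff φ C (m - 1)).2 inferInstance)

lemma pc_of_restrict (h : ∀ m, DRing.IsPseudoCoherentModule A m ((ModuleCat.restrictScalars.{u} φ).obj (ModuleCat.of B B)))
    (m : ℤ) : ∀ (n : ℕ) (b : ℤ) (K : Dual.D B), K.IsLE b → b < m + n →
      DRing.IsPseudoCoherent A m ((DRing.restrictD φ).obj K) → DRing.IsPseudoCoherent B m K := by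
  intro n
  induction n with
  | zero => intro b K hK hb _; haveI := hK; exact pc_of_isLE (n := b) (by omega)
  | succ n ih =>
    intro b K hK hb hres
    haveI := hK
    by_cases hbm : b < m
    · exact pc_of_isLE (n := b) hbm
    haveI := (isLE_restrict_iff φ K b).2 hK
    have hfinA := finite_of_iso (hfRestrictIso φ K b) (finite_top (m := b) (pc_mono (by omega) hres))
    have hfin : Module.Finite B ((HF B b).obj K) := by
      exact finite_of_restrict φ _ hfinA
    obtain ⟨r, T, hT, h1, h2, h3⟩ := exists_cover_cone K b hfin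
    subst h2
    have hF := pc_freeAt (R := B) b r
    rw [← h1] at hF
    exact pc_ext hT (hF m) (ih (b - 1) T.obj₃ h3 (by omega)
      (pc_cone ((DRing.restrictD φ).map_distinguished _ hT) (pc_restrict h (hF (m + 1))) hres))

lemma exists_isLE_of_pc {K : Dual.D A} {m : ℤ} (h : DRing.IsPseudoCoherent A m K) : ∃ b : ℤ, K.IsLE b := by
  obtain ⟨E, a, b, α, hEv, -, hα⟩ := h
  refine ⟨max b m, (DerivedCategory.isLE_iff K _).2 fun i hi => ?_⟩
  haveI := hα.1 i (by omega)
  exact IsZero.of_iso ((exactAt_iff_isZero_homology _ _).1 (ExactAt.of_isZero (hEv i (Or.inr (by omega)))))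
    ((asIso ((HF A i).map α)).symm ≪≫ HQ E i)

theorem pc_restrict_iff (h : ∀ m, DRing.IsPseudoCoherentModule A m ((ModuleCat.restrictScalars.{u} φ).obj (ModuleCat.of B B)))
    (K : Dual.D B) (m : ℤ) :
    DRing.IsPseudoCoherent B m K ↔ DRing.IsPseudoCoherent A m ((DRing.restrictD φ).obj K) := by
  refine ⟨pc_restrict h, fun hres => ?_⟩
  obtain ⟨b, hb⟩ := exists_isLE_of_pc hres
  exact pc_of_restrict h m (b + 1 - m).toNat b K ((isLE_restrict_iff φ K b).1 hb) (by omega) hres

end Groth.Agent.DRingLib
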