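import Groth.Agent.DRingLib.PCGen
import Groth.Agent.S5165

/-! Perfect objects over regular rings. -/

set_option autoImplicit false
set_option backward.isDefEq.respectTransparency false
set_option backward.defeqAttrib.useBackward true
set_option linter.style.haveILetI false

universe u

open CategoryTheory CategoryTheory.Limits HomologicalComplex CategoryTheory.Pretriangulated

attribute [local instance] HasDerivedCategory.standard

namespace Groth.Agent.DRingLib

open Groth.Agent.DCat

variable {R : Type u} [CommRing R]

lemma perfect_inD_projective (M : Type u) [AddCommGroup M] [Module R M] [Module.Finite R M] [Module.Projective R M] :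
    DRing.IsPerfect R (Dual.inD R M) :=
  ⟨(HomologicalComplex.single (ModuleCat.{u} R) (ComplexShape.up ℤ) 0).obj (ModuleCat.of R M), 0, 0,
    fun i hi => isZero_single_obj_X _ _ _ _ (by omega), fun i => by
      by_cases hi : i = 0
      · subst hi
        exact finite_projective_of_iso (singleObjXSelf (ComplexShape.up ℤ) 0 _).symm ⟨‹_›, ‹_›⟩
      · haveI := ModuleCat.subsingleton_of_isZero (isZero_single_obj_X (ComplexShape.up ℤ) 0 (ModuleCat.of R M) i hi)
        exact ⟨inferInstance, inferInstance⟩,
    ⟨((DerivedCategory.singleFunctorIsoCompQ (ModuleCat.{u} R) 0).app _).symm⟩⟩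

theorem perfectModule_of_pd [IsNoetherianRing R] : ∀ (d : ℕ) (M : Type u) [AddCommGroup M] [Module R M]
    [Module.Finite R M], HasProjectiveDimensionLE (ModuleCat.of R M) d → DRing.IsPerfectModule R M := by
  intro d
  induction d with
  | zero =>
    intro M _ _ _ h
    haveI : Projective (ModuleCat.of R M) := projective_iff_hasProjectiveDimensionLT_one.2 h
    haveI : Module.Projective R M := (IsProjective.iff_projective (R := R) M).2 inferInstance
    exact perfect_inD_projective M
  | succ d ih =>
    intro M _ _ _ h
    obtain ⟨r, f, hf⟩ := Module.Finite.exists_fin' R M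
    haveI : IsNoetherian R (Fin r → R) := inferInstance
    let S : ShortComplex (ModuleCat.{u} R) := ShortComplex.mk (ModuleCat.ofHom (LinearMap.ker f).subtype)
      (ModuleCat.ofHom f) (ModuleCat.hom_ext (LinearMap.comp_ker_subtype f))
    have hS : S.ShortExact :=
      { exact := (ShortComplex.ShortExact.moduleCat_exact_iff_function_exact S).2 (LinearMap.exact_subtype_ker_map f)
        mono_f := (ModuleCat.mono_iff_injective _).2 (Submodule.injective_subtype _)
        epi_g := (ModuleCat.epi_iff_surjective _).2 hf }
    haveI : Projective S.X₂ := (IsProjective.iff_projective (Fin r → R)).1 inferInstance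
    have hk : HasProjectiveDimensionLE S.X₁ d := (hS.hasProjectiveDimensionLT_X₃_iff d inferInstance).1 h
    haveI : Module.Finite R (LinearMap.ker f) := Module.Finite.of_fg (IsNoetherian.noetherian _)
    exact perfect_cone hS.singleTriangle_distinguished (ih _ hk) (perfect_inD_projective _)

theorem perfectModule_iff [IsNoetherianRing R]
    (hreg : ∀ p : PrimeSpectrum R, IsRegularLocalRing (Localization.AtPrime p.asIdeal))
    (M : Type u) [AddCommGroup M] [Module R M] : DRing.IsPerfectModule R M ↔ Module.Finite R M := by
  haveI : IsRegularRing R :=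
    { isRegularLocalRing_localization := fun p hp => hreg ⟨p, hp⟩ }
  refine ⟨fun h => (module_pc_zero_iff M).1 (pc_of_perfect h 0), fun h => ?_⟩
  obtain ⟨d, hd⟩ := Groth.Agent.S5165.result R M
  exact perfectModule_of_pd d M hd

theorem perfect_of_homology [IsNoetherianRing R]
    (hreg : ∀ p : PrimeSpectrum R, IsRegularLocalRing (Localization.AtPrime p.asIdeal)) :
    ∀ {K : Dual.D R} {a b : ℤ}, K.IsGE a → K.IsLE b → (∀ i, Module.Finite R (Dual.HD R K i)) →
      DRing.IsPerfect R K := by
  suffices h : ∀ (k : ℕ) (K : Dual.D R) (a : ℤ), K.IsGE a → K.IsLE (a - 1 + k) →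
      (∀ i, Module.Finite R (Dual.HD R K i)) → DRing.IsPerfect R K from
    fun {K a b} ha hb => h (b - a + 1).toNat K a ha
      (@DerivedCategory.TStructure.t (ModuleCat.{u} R) _ _ _ |>.isLE_of_le K b _ (by omega))
  intro k
  induction k with
  | zero =>
    intro K a ha hb _
    haveI := ha
    haveI := hb
    have hz : IsZero K := by
      rw [IsZero.iff_id_eq_zero]
      exact DerivedCategory.TStructure.t.zero (𝟙 K) (a - 1 + ((0 : ℕ) : ℤ)) a (by omega)
    refine ⟨_, 0, 0, fun i _ => (HomologicalComplex.eval _ _ i).map_isZero (isZero_zero _), fun i => ?_,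
      ⟨(DerivedCategory.Q.map_isZero (isZero_zero _)).iso hz⟩⟩
    haveI : Projective (ModuleCat.of R PUnit.{u + 1}) := (IsProjective.iff_projective (R := R) _).1 inferInstance
    exact finite_projective_of_iso (((HomologicalComplex.eval (ModuleCat.{u} R) (ComplexShape.up ℤ) i).map_isZero
      (isZero_zero _)).iso (ModuleCat.isZero_of_subsingleton (ModuleCat.of R PUnit.{u + 1}))).symm
        ⟨inferInstance, (IsProjective.iff_projective (R := R) _).2 inferInstance⟩
  | succ k ih =>
    intro K a ha hb h
    haveI := ha
    haveI := hb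
    let b : ℤ := a + k
    haveI : K.IsLE b := by rwa [show b = a - 1 + ((k + 1 : ℕ) : ℤ) by simp only [b]; omega]
    let t := @DerivedCategory.TStructure.t (ModuleCat.{u} R) _ _ _
    have hT := t.triangleLTGE_distinguished b K
    haveI h1 : ((t.truncLT b).obj K).IsLE (b - 1) := t.isLE_truncLT_obj K b (b - 1) (by omega)
    haveI h3 : ((t.truncGE b).obj K).IsGE b := t.isGE_truncGE_obj K b b (by omega)
    have hiso : ∀ j, b ≤ j → IsIso ((HF R j).map ((t.truncGEπ b).app K)) := fun j hj => by
      haveI : Epi ((HF R j).map ((t.truncGEπ b).app K)) :=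
        (DerivedCategory.HomologySequence.epi_homologyMap_mor₂_iff _ hT j (j + 1) rfl).2
          ((DerivedCategory.isZero_of_isLE ((t.truncLT b).obj K) (b - 1) (j + 1) (by omega)).eq_of_tgt _ _)
      haveI : Mono ((HF R j).map ((t.truncGEπ b).app K)) :=
        (DerivedCategory.HomologySequence.mono_homologyMap_mor₂_iff _ hT j).2
          ((DerivedCategory.isZero_of_isLE ((t.truncLT b).obj K) (b - 1) j (by omega)).eq_of_src _ _)
      exact isIso_of_mono_of_epi _
    haveI h3' : ((t.truncGE b).obj K).IsLE b := by
      rw [DerivedCategory.isLE_iff]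
      intro j hj
      haveI := hiso j (by omega)
      exact IsZero.of_iso (DerivedCategory.isZero_of_isLE K b j hj) (asIso ((HF R j).map ((t.truncGEπ b).app K))).symm
    haveI h1' : ((t.truncLT b).obj K).IsGE a := by
      rw [DerivedCategory.isGE_iff]
      intro i hi
      by_cases hib : i < b
      · haveI : (Triangulated.TStructure.triangleLTGE t b).obj K |>.obj₃.IsGE b := h3
        haveI := homology_iso_of_isGE₃ hT b i hib
        exact IsZero.of_iso (DerivedCategory.isZero_of_isGE K a i hi)
          (asIso ((HF R i).map ((Triangulated.TStructure.triangleLTGE t b).obj K).mor₁))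
      · exact DerivedCategory.isZero_of_isLE ((t.truncLT b).obj K) (b - 1) i (by omega)
    refine perfect_ext hT (ih _ a h1' ?_ fun i => ?_) ?_
    · show ((t.truncLT b).obj K).IsLE _
      exact t.isLE_of_le _ (b - 1) _ (by omega)
    · by_cases hib : i < b
      · haveI : (Triangulated.TStructure.triangleLTGE t b).obj K |>.obj₃.IsGE b := h3
        haveI := homology_iso_of_isGE₃ hT b i hib
        exact finite_of_iso (asIso ((HF R i).map ((Triangulated.TStructure.triangleLTGE t b).obj K).mor₁)).symm (h i)
      · haveI := ModuleCat.subsingleton_of_isZero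
          (DerivedCategory.isZero_of_isLE ((t.truncLT b).obj K) (b - 1) i (by omega))
        exact inferInstanceAs (Module.Finite R ((HF R i).obj ((t.truncLT b).obj K)))
    · haveI := hiso b le_rfl
      obtain ⟨M, ⟨eM⟩⟩ := DerivedCategory.exists_iso_singleFunctor_obj_of_isGE_of_isLE ((t.truncGE b).obj K) b
      let e' : ((t.truncGE b).obj K) ≅ DerivedCategory.Q.obj
          ((HomologicalComplex.single (ModuleCat.{u} R) (ComplexShape.up ℤ) b).obj M) :=
        eM ≪≫ (DerivedCategory.singleFunctorIsoCompQ (ModuleCat.{u} R) b).app M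
      let eH : M ≅ (HF R b).obj K :=
        (singleObjHomologySelfIso (ComplexShape.up ℤ) b M).symm ≪≫ (HQ _ b).symm ≪≫ (HF R b).mapIso e'.symm ≪≫
          (asIso ((HF R b).map ((t.truncGEπ b).app K))).symm
      haveI := finite_of_iso eH.symm (h b)
      exact perfect_of_iso (singleIso b M ≪≫ e'.symm) (perfect_shift ((perfectModule_iff hreg M).2 inferInstance) (-b))

end Groth.Agent.DRingLib
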