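import Groth.Agent.DRingLib.PCPerf
import Groth.Agent.DRingLib.PCRes
import Groth.Agent.DCat.NilpotentBC
import Mathlib.LinearAlgebra.TensorProduct.Tower
import Mathlib.RingTheory.TensorProduct.Free

/-! Pseudo-coherence descends along nilpotent thickenings. -/

set_option autoImplicit false
set_option backward.isDefEq.respectTransparency false
set_option backward.defeqAttrib.useBackward true
set_option linter.style.haveILetI false

universe u

open CategoryTheory CategoryTheory.Limits CategoryTheory.Pretriangulated HomologicalComplex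
attribute [local instance] HasDerivedCategory.standard

namespace Groth.Agent.DRingLib

variable {R A : Type u} [CommRing R] [CommRing A] (φ : R →+* A)

/-- Nakayama for a nilpotent kernel. -/
theorem finite_of_ext (hφ : Function.Surjective φ) (hnil : IsNilpotent (RingHom.ker φ)) (M : ModuleCat.{u} R)
    (h : Module.Finite A ((ModuleCat.extendScalars.{u, u, u} φ).obj M)) : Module.Finite R M := by
  classical
  let F := ModuleCat.extendScalars.{u, u, u} φ
  let adj := ModuleCat.extendRestrictScalarsAdj.{u, u, u} φ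
  let η := adj.unit.app M
  have hη : Function.Surjective η.hom := by
    letI := φ.toAlgebra
    intro z
    induction z using TensorProduct.induction_on with
    | zero => exact ⟨0, map_zero _⟩
    | tmul a x =>
      obtain ⟨r, rfl⟩ := hφ a
      refine ⟨r • x, ?_⟩
      show (1 : A) ⊗ₜ[R] (r • x) = φ r ⊗ₜ[R] x
      exact (TensorProduct.smul_tmul r (1 : A) x).symm.trans
        (congrArg (TensorProduct.tmul R · x) (show φ r * 1 = φ r from mul_one _))
    | add a b ha hb =>
      obtain ⟨u, hu⟩ := ha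
      obtain ⟨v, hv⟩ := hb
      exact ⟨u + v, (map_add _ _ _).trans (congrArg₂ (· + ·) hu hv)⟩
  obtain ⟨s, hs⟩ := h.fg_top
  choose t' ht using hη
  let t : _ → (M : Type u) := t'
  let N : Submodule R M := Submodule.span R (↑(s.image t : Finset (M : Type u)) : Set M)
  let q : M ⟶ ModuleCat.of R (M ⧸ N) := ModuleCat.ofHom N.mkQ
  haveI : Epi q := (ModuleCat.epi_iff_surjective _).2 N.mkQ_surjective
  haveI : PreservesColimitsOfSize.{0, 0} F := adj.leftAdjoint_preservesColimits
  have hFq : F.map q = 0 := by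
    refine ModuleCat.hom_ext (LinearMap.ext_on hs fun z hz => ?_)
    have h1 : (q ≫ adj.unit.app (ModuleCat.of R (M ⧸ N))).hom (t z) = (F.map q).hom z := by
      rw [show q ≫ adj.unit.app _ = adj.unit.app M ≫ (ModuleCat.restrictScalars φ).map (F.map q) from
        adj.unit.naturality q]
      show (F.map q).hom (η.hom (t z)) = _
      rw [ht]
    rw [← h1]
    show (adj.unit.app (ModuleCat.of R (M ⧸ N))).hom (N.mkQ (t z) : ModuleCat.of R (M ⧸ N)) = 0
    rw [Submodule.mkQ_apply, (Submodule.Quotient.mk_eq_zero N).2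
      (Submodule.subset_span (Finset.mem_image_of_mem _ hz)), map_zero]
  haveI : Epi (F.map q) := inferInstance
  have hz : IsZero (F.obj (ModuleCat.of R (M ⧸ N))) := IsZero.of_epi_eq_zero (F.map q) hFq
  let J := RingHom.ker φ
  have hJQ : J • (⊤ : Submodule R (M ⧸ N)) = ⊤ := by
    let Q' : ModuleCat.{u} R := ModuleCat.of R ((M ⧸ N) ⧸ J • (⊤ : Submodule R (M ⧸ N)))
    obtain ⟨M₀, ⟨e⟩⟩ := DCat.exists_restrict_of_killed φ hφ Q' (le_bot_iff.1 fun x hx => by
      obtain ⟨x, rfl⟩ := Submodule.mkQ_surjective _ x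
      refine (Submodule.Quotient.mk_eq_zero _).2 ?_
      have h1 : (J • (⊤ : Submodule R (M ⧸ N))).mkQ x ∈ (J • ⊤ : Submodule R (M ⧸ N)).map
          (J • (⊤ : Submodule R (M ⧸ N))).mkQ := by
        rw [Submodule.map_smul'', Submodule.map_top, Submodule.range_mkQ]; exact hx
      rwa [Submodule.mkQ_map_self, Submodule.mem_bot, Submodule.mkQ_apply,
        Submodule.Quotient.mk_eq_zero] at h1)
    let g : ModuleCat.of R (M ⧸ N) ⟶ Q' := ModuleCat.ofHom (J • (⊤ : Submodule R (M ⧸ N))).mkQ
    have hg : g ≫ e.inv = 0 := (adj.homEquiv _ M₀).symm.injective (hz.eq_of_src _ _)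
    have hg0 : g = 0 := by rw [← cancel_mono e.inv, hg, zero_comp]
    refine top_le_iff.1 fun x _ => (Submodule.Quotient.mk_eq_zero _).1 ?_
    exact congr($hg0 x)
  obtain ⟨n, hn⟩ := hnil
  have hpow : ∀ k : ℕ, J ^ k • (⊤ : Submodule R (M ⧸ N)) = ⊤ := by
    intro k
    induction k with
    | zero => rw [pow_zero, Ideal.one_eq_top, Submodule.top_smul]
    | succ k ih => rw [pow_succ, Submodule.mul_smul, hJQ, ih]
  have hn' := hpow n
  rw [show J ^ n = ⊥ from hn, Submodule.bot_smul] at hn'
  refine ⟨s.image t, top_le_iff.1 fun x _ => ?_⟩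
  show x ∈ N
  refine (Submodule.Quotient.mk_eq_zero N).1 ?_
  have : (Submodule.Quotient.mk x : M ⧸ N) ∈ (⊥ : Submodule R (M ⧸ N)) := hn' ▸ Submodule.mem_top
  exact (Submodule.mem_bot R).1 this

/-- The top cohomology of a complex vanishing above `b`. -/
noncomputable def homologyTopIso {X : DRing.Cx R} (b : ℤ) (hX : DRing.VanishesAbove X b) :
    X.homology b ≅ cokernel (X.d (b - 1) b) :=
  haveI : IsIso (X.homologyι b) :=
    (X.isIso_homologyι b (b + 1) (by simp) ((hX (b + 1) (by omega)).eq_of_tgt _ _))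
  asIso (X.homologyι b) ≪≫
    IsColimit.coconePointUniqueUpToIso (X.opcyclesIsCokernel (b - 1) b (by simp)) (colimit.isColimit _)

lemma vanishesAbove_ext {P : DRing.Cx R} {b : ℤ} (hP : DRing.VanishesAbove P b) :
    DRing.VanishesAbove (((ModuleCat.extendScalars.{u, u, u} φ).mapHomologicalComplex (ComplexShape.up ℤ)).obj P) b :=
  fun i hi => (ModuleCat.extendScalars.{u, u, u} φ).map_isZero (hP i hi)

lemma finiteFree_ext {P : DRing.Cx R} (hP : DRing.TermwiseFiniteFree P) :
    DRing.TermwiseFiniteFree (((ModuleCat.extendScalars.{u, u, u} φ).mapHomologicalComplex (ComplexShape.up ℤ)).obj P) :=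
  fun i => by
    letI := φ.toAlgebra
    haveI := (hP i).1
    haveI := (hP i).2
    exact ⟨Module.Finite.base_change R A (P.X i), Module.Free.tensor (R := R) (S := A) (M := A) (N := P.X i)⟩

lemma kflat_of_finiteFree {P : DRing.Cx R} {b : ℤ} (hP : DRing.VanishesAbove P b) (hf : DRing.TermwiseFiniteFree P) :
    DCat.IsKFlatFor (DCat.modT R) P :=
  DCat.isKFlatFor_of_vanishesAbove P b hP fun i => by
    haveI := (hf i).2
    infer_instance

variable [DRing.HasLBaseChange φ]

lemma isLE_lbaseChange {K : Dual.D R} (b : ℤ) [K.IsLE b] : ((DRing.LBaseChange φ).obj K).IsLE b := by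
  obtain ⟨P, hP, -, hPb, ⟨e⟩⟩ := DCat.exists_flat_rep (b := b) (K := K)
    fun i hi => DerivedCategory.isZero_of_isLE K b i hi
  haveI := DCat.isLE_Q_of_vanishesAbove (vanishesAbove_ext φ hPb)
  exact DerivedCategory.TStructure.t.isLE_of_iso
    ((DCat.lbaseChangeIso φ hP).symm ≪≫ (DRing.LBaseChange φ).mapIso e) b

/-- `m`-pseudo-coherence descends. -/
theorem pc_descend (hφ : Function.Surjective φ) (hnil : IsNilpotent (RingHom.ker φ)) (m : ℤ) :
    ∀ (n : ℕ) (b : ℤ) (K : Dual.D R), K.IsLE b → b < m + n →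
      DRing.IsPseudoCoherent A m ((DRing.LBaseChange φ).obj K) → DRing.IsPseudoCoherent R m K := by
  intro n
  induction n with
  | zero =>
    intro b K hK hb _
    haveI := hK
    exact pc_of_isLE (n := b) (by omega)
  | succ n ih =>
    intro b K hK hb h
    haveI := hK
    by_cases hbm : b < m
    · exact pc_of_isLE (n := b) hbm
    haveI := isLE_lbaseChange φ (K := K) b
    have hfinL := finite_top (m := b) (pc_mono (by omega) h)
    obtain ⟨P, hP, -, hPb, ⟨e⟩⟩ := DCat.exists_flat_rep (b := b) (K := K)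
      fun i hi => DerivedCategory.isZero_of_isLE K b i hi
    let F := ModuleCat.extendScalars.{u, u, u} φ
    let G := F.mapHomologicalComplex (ComplexShape.up ℤ)
    let eL : DRing.toD (G.obj P) ≅ (DRing.LBaseChange φ).obj K :=
      (DCat.lbaseChangeIso φ hP).symm ≪≫ (DRing.LBaseChange φ).mapIso e
    haveI : PreservesColimitsOfSize.{0, 0} F :=
      (ModuleCat.extendRestrictScalarsAdj.{u, u, u} φ).leftAdjoint_preservesColimits
    have hfinP : Module.Finite R (cokernel (P.d (b - 1) b) : ModuleCat.{u} R) :=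
      finite_of_ext φ hφ hnil _ (finite_of_iso
        ((HF A b).mapIso eL.symm ≪≫ HQ (G.obj P) b ≪≫ homologyTopIso b (vanishesAbove_ext φ hPb) ≪≫
          (PreservesCokernel.iso F (P.d (b - 1) b)).symm) hfinL)
    have hfin : Module.Finite R ((HF R b).obj (DRing.toD P)) :=
      finite_of_iso ((homologyTopIso b hPb).symm ≪≫ (HQ P b).symm) hfinP
    haveI hPle : (DRing.toD P).IsLE b := DCat.isLE_Q_of_vanishesAbove hPb
    obtain ⟨r, g, hg⟩ := exists_cover (DRing.toD P) b hfin
    obtain ⟨hFv, hFf⟩ := freeAt_finiteFree (R := R) b r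
    haveI := isKProjective_of_outside hFv (projective_of_free hFf)
    obtain ⟨ψ, rfl⟩ := exists_Q_map g
    have hC : (DRing.toD (CochainComplex.mappingCone ψ)).IsLE (b - 1) :=
      (apx_iff_isLE b _ (DerivedCategory.mappingCone_triangle_distinguished ψ)).1 ⟨fun i hi =>
        ⟨0, (isZero_hf_freeAt' b r i (by omega)).eq_of_src _ _,
          (DerivedCategory.isZero_of_isLE (DRing.toD P) b i hi).eq_of_src _ _⟩, hg⟩
    have hFk := kflat_of_finiteFree (b := b) (fun i hi => hFv i (Or.inr hi)) hFf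
    have h1 : DRing.IsPseudoCoherent A (m + 1) (DRing.toD (G.obj (freeAt R b r))) :=
      ⟨_, b, b, 𝟙 _, fun i hi => F.map_isZero (hFv i hi), finiteFree_ext φ hFf, apx_of_isIso _ (𝟙 _)⟩
    have h2 : DRing.IsPseudoCoherent A m (DRing.toD (G.obj P)) := pc_iso eL.symm h
    have h3 := pc_cone (DerivedCategory.mappingCone_triangle_distinguished (G.map ψ)) h1 h2
    have hLC : DRing.IsPseudoCoherent A m ((DRing.LBaseChange φ).obj (DRing.toD (CochainComplex.mappingCone ψ))) :=
      pc_iso (DerivedCategory.Q.mapIso (CochainComplex.mappingCone.mapHomologicalComplexIso ψ F).symm ≪≫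
        (DCat.lbaseChangeIso φ (DCat.isKFlatFor_cone ψ hFk hP)).symm) h3
    have hCpc := ih (b - 1) _ hC (by omega) hLC
    exact pc_iso e (pc_ext (DerivedCategory.mappingCone_triangle_distinguished ψ) (pc_freeAt b r m) hCpc)
where
  isZero_hf_freeAt' (b : ℤ) (r : ℕ) (i : ℤ) (h : i ≠ b) : IsZero ((HF R i).obj (DRing.toD (freeAt R b r))) :=
    IsZero.of_iso ((exactAt_iff_isZero_homology _ _).1 (ExactAt.of_isZero
      (isZero_single_obj_X _ _ _ _ h))) (HQ (freeAt R b r) i)

/-- Pseudo-coherence descends. -/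
theorem pc'_descend (hφ : Function.Surjective φ) (hnil : IsNilpotent (RingHom.ker φ)) (K : Dual.D R)
    (h : DRing.IsPseudoCoherent' A ((DRing.LBaseChange φ).obj K)) : DRing.IsPseudoCoherent' R K := by
  haveI : ∀ M : ModuleCat.{u} R, DRing.HasLTensor R M := fun M => DCat.hasLTensor M
  haveI : ∀ M : ModuleCat.{u} A, DRing.HasLTensor A M := fun M => DCat.hasLTensor M
  obtain ⟨E, b, hEb, hEf, ⟨eE⟩⟩ := id h
  obtain ⟨P, c, hP, hPf, hc, -⟩ := DCat.exists_kflat (DerivedCategory.Q.objPreimage K)
  haveI := hc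
  let e : DRing.toD P ≅ K := asIso (DerivedCategory.Q.map c) ≪≫ DerivedCategory.Q.objObjPreimageIso K
  have hK : K.IsLE b := by
    refine (DerivedCategory.isLE_iff K b).2 fun i hi => ?_
    refine DCat.exactAt_of_vanish ((DCat.isZero_ltensor_iff _ hP e i).2
      (DCat.exactAt_of_killed (RingHom.ker φ) hnil P hPf i (fun N hN => ?_) _))
    obtain ⟨M₀, ⟨eN⟩⟩ := DCat.exists_restrict_of_killed φ hφ N hN
    refine ((DCat.isZero_ltensor_base_iff φ hP e M₀ i).1 ?_).of_iso
      ((NatIso.mapHomologicalComplex ((MonoidalCategory.tensoringRight (ModuleCat.{u} R)).mapIso eN) _).app P)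
    rw [DCat.isZero_ltensor_iff M₀ (kflat_of_finiteFree hEb hEf) eE i]
    exact ExactAt.of_isZero ((MonoidalCategory.tensorRight M₀).map_isZero (hEb i hi))
  refine pc'_of_forall fun m => pc_descend φ hφ hnil m (b + 1 - m).toNat b K hK (by omega) (pc_of_pc' h m)

/-- Base change preserves pseudo-coherence. -/
theorem pc'_lbaseChange (K : Dual.D R) (h : DRing.IsPseudoCoherent' R K) :
    DRing.IsPseudoCoherent' A ((DRing.LBaseChange φ).obj K) := by
  obtain ⟨E, b, hEb, hEf, ⟨e⟩⟩ := h
  exact ⟨_, b, vanishesAbove_ext φ hEb, finiteFree_ext φ hEf,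
    ⟨(DCat.lbaseChangeIso φ (kflat_of_finiteFree hEb hEf)).symm ≪≫ (DRing.LBaseChange φ).mapIso e⟩⟩

end Groth.Agent.DRingLib
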