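import Groth.Agent.DRingLib.PCDescent
import Groth.Agent.DCat.DCNakayama
import Mathlib.LinearAlgebra.Charpoly.Basic
import Mathlib.LinearAlgebra.Matrix.Charpoly.LinearMap
import Mathlib.LinearAlgebra.TensorProduct.Quotient
import Mathlib.RingTheory.TensorProduct.Maps
import Mathlib.RingTheory.Nakayama
import Mathlib.LinearAlgebra.Basis.VectorSpace

/-! Exactness on the closed fibres of a complex of finite free modules. -/

set_option autoImplicit false
set_option backward.isDefEq.respectTransparency false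
set_option backward.defeqAttrib.useBackward true
set_option linter.style.haveILetI false

universe u

open CategoryTheory CategoryTheory.Limits TensorProduct Polynomial

namespace Groth.Agent.DRingLib

variable {R : Type u} [CommRing R] {F G H : Type u} [AddCommGroup F] [Module R F] [AddCommGroup G] [Module R G]
  [AddCommGroup H] [Module R H] (f : F →ₗ[R] G) (g : G →ₗ[R] H)

/-- Splitting data at a maximal ideal. -/
theorem exists_lift_fibre [Module.Projective R G] [Module.Projective R H] (hgf : g ∘ₗ f = 0) (m : Ideal R)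
    [m.IsMaximal] (hex : Function.Exact (f.baseChange (R ⧸ m)) (g.baseChange (R ⧸ m))) :
    ∃ (s : G →ₗ[R] F) (t : H →ₗ[R] G), ∀ x, f (s x) + t (g x) - x ∈ m • (⊤ : Submodule R G) := by
  letI : Field (R ⧸ m) := Ideal.Quotient.field m
  let fb := f.baseChange (R ⧸ m)
  let gb := g.baseChange (R ⧸ m)
  obtain ⟨r, hr⟩ := ((LinearMap.ker gb).liftQ gb le_rfl).exists_leftInverse_of_injective
    (Submodule.ker_liftQ_eq_bot _ _ _ le_rfl)
  obtain ⟨σ, hσ⟩ := (LinearMap.ker gb).mkQ.exists_rightInverse_of_surjective (Submodule.range_mkQ _)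
  let tb := σ ∘ₗ r
  have hker : ∀ x, x - tb (gb x) ∈ LinearMap.range fb := fun x => by
    rw [← LinearMap.exact_iff.1 hex, ← Submodule.Quotient.mk_eq_zero, Submodule.Quotient.mk_sub, sub_eq_zero]
    refine (((LinearMap.congr_fun hσ (r (gb x))).trans ?_)).symm
    exact LinearMap.congr_fun hr (Submodule.Quotient.mk x)
  haveI : IsSemisimpleRing (R ⧸ m) := inferInstance
  haveI : Module.Free (R ⧸ m) (LinearMap.range fb) :=
    @Module.Free.of_divisionRing (R ⧸ m) (LinearMap.range fb) (Ideal.Quotient.field m).toDivisionRing _ _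
  obtain ⟨ρ, hρ⟩ := fb.rangeRestrict.exists_rightInverse_of_surjective (LinearMap.range_rangeRestrict _)
  let sb := ρ ∘ₗ (LinearMap.id - tb ∘ₗ gb).codRestrict (LinearMap.range fb) hker
  have hsum : ∀ x, fb (sb x) + tb (gb x) = x := fun x => by
    have h := congrArg Subtype.val (LinearMap.congr_fun hρ
      ((LinearMap.id - tb ∘ₗ gb).codRestrict (LinearMap.range fb) hker x))
    rw [show fb (sb x) = x - tb (gb x) from h]
    abel
  let π : ∀ (X : Type u) [AddCommGroup X] [Module R X], X →ₗ[R] (R ⧸ m) ⊗[R] X := fun X _ _ => TensorProduct.mk R (R ⧸ m) X 1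
  have hπ : ∀ (X : Type u) [AddCommGroup X] [Module R X], Function.Surjective (π X) :=
    fun X _ _ => TensorProduct.mk_surjective R X (R ⧸ m) Ideal.Quotient.mk_surjective
  obtain ⟨s, hs⟩ := Module.projective_lifting_property (π F) (sb.restrictScalars R ∘ₗ π G) (hπ F)
  obtain ⟨t, ht⟩ := Module.projective_lifting_property (π G) (tb.restrictScalars R ∘ₗ π H) (hπ G)
  refine ⟨s, t, fun x => ?_⟩
  rw [← Submodule.Quotient.mk_eq_zero]
  apply (TensorProduct.quotTensorEquivQuotSMul G m).symm.injective
  have h0 : π G (f (s x) + t (g x) - x) = 0 := by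
    rw [map_sub, map_add, sub_eq_zero]
    have h1 : π G (f (s x)) = fb (π F (s x)) := (LinearMap.baseChange_tmul _ _ _).symm
    have h2 : π H (g x) = gb (π G x) := (LinearMap.baseChange_tmul _ _ _).symm
    have h3 : π F (s x) = sb (π G x) := LinearMap.congr_fun hs x
    have h4 : π G (t (g x)) = tb (π H (g x)) := LinearMap.congr_fun ht (g x)
    rw [h1, h3, h4, h2, hsum]
  rw [map_zero]
  exact (TensorProduct.quotTensorEquivQuotSMul_symm_mk m _).trans h0

/-- Exactness after tensoring, from exactness on the closed fibres. -/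
theorem exact_rTensor [Module.Finite R G] [Module.Projective R G] [Module.Projective R H] (hgf : g ∘ₗ f = 0)
    (hloc : ∀ m : Ideal R, m.IsMaximal → Function.Exact (f.baseChange (R ⧸ m)) (g.baseChange (R ⧸ m)))
    (M : Type u) [AddCommGroup M] [Module R M] : Function.Exact (f.rTensor M) (g.rTensor M) := by
  have h0 : g.rTensor M ∘ₗ f.rTensor M = 0 := by
    rw [← LinearMap.rTensor_comp, hgf, LinearMap.rTensor_zero]
  intro z
  refine ⟨fun hz => ?_, fun ⟨w, hw⟩ => hw ▸ LinearMap.congr_fun h0 w⟩
  by_contra hne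
  let W := LinearMap.range (f.rTensor M)
  let a : Ideal R := Submodule.comap (LinearMap.toSpanSingleton R (G ⊗[R] M) z) W
  have ha : a ≠ ⊤ := fun h => by
    have h1 : (1 : R) ∈ a := h ▸ Submodule.mem_top
    rw [Submodule.mem_comap, LinearMap.toSpanSingleton_apply, one_smul] at h1
    exact hne h1
  obtain ⟨m, hm, ham⟩ := Ideal.exists_le_maximal a ha
  obtain ⟨s, t, hst⟩ := exists_lift_fibre f g hgf m (hloc m hm)
  let v : Module.End R G := f ∘ₗ s + t ∘ₗ g - LinearMap.id
  obtain ⟨p, hpm, -, hpc, hp⟩ := LinearMap.exists_monic_and_natDegree_eq_and_coeff_mem_pow_and_aeval_eq_zero R v m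
    (fun y hy => by obtain ⟨x, rfl⟩ := hy; exact hst x)
  let v' : Module.End R (G ⊗[R] M) := Module.End.rTensorAlgHom R G M v
  have hv : ∀ k : ℕ, (v' ^ k) z - (-1 : R) ^ k • z ∈ W := by
    intro k
    induction k with
    | zero => simp
    | succ k ih =>
      have hstep : ∀ y : G ⊗[R] M, g.rTensor M y = 0 → v' y - (-1 : R) • y ∈ W := fun y hy => by
        refine ⟨s.rTensor M y, ?_⟩
        show _ = v.rTensor M y - (-1 : R) • y
        simp only [v, LinearMap.rTensor_sub, LinearMap.rTensor_add, LinearMap.rTensor_comp, LinearMap.rTensor_id,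
          LinearMap.sub_apply, LinearMap.add_apply, LinearMap.comp_apply, LinearMap.id_apply, hy, map_zero,
          add_zero, neg_smul, one_smul]
        abel
      obtain ⟨w, hw⟩ := ih
      have hw0 : v' (f.rTensor M w) ∈ W := by
        obtain ⟨x, hx⟩ := hstep (f.rTensor M w) (LinearMap.congr_fun h0 w)
        have : v' (f.rTensor M w) = f.rTensor M x + (-1 : R) • f.rTensor M w := by rw [hx]; abel
        rw [this]
        exact W.add_mem ⟨x, rfl⟩ (W.smul_mem _ ⟨w, rfl⟩)
      rw [pow_succ', Module.End.mul_apply, pow_succ, mul_smul,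
        show (v' ^ k) z = f.rTensor M w + (-1 : R) ^ k • z by rw [hw]; abel, map_add, map_smul, add_sub_assoc,
        ← smul_sub]
      exact W.add_mem hw0 (W.smul_mem _ (hstep z hz))
  have he : p.eval (-1) ∈ a := by
    rw [Submodule.mem_comap, LinearMap.toSpanSingleton_apply]
    have h1 : aeval v' p = 0 := by
      show aeval ((Module.End.rTensorAlgHom R G M) v) p = 0
      rw [aeval_algHom_apply, hp, map_zero]
    have h2 : (aeval v' p) z - p.eval (-1) • z ∈ W := by
      rw [aeval_eq_sum_range, eval_eq_sum_range, LinearMap.sum_apply, Finset.sum_smul, ← Finset.sum_sub_distrib]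
      refine W.sum_mem fun k _ => ?_
      rw [LinearMap.smul_apply, mul_smul, ← smul_sub]
      exact W.smul_mem _ (hv k)
    rw [h1, LinearMap.zero_apply, zero_sub] at h2
    simpa using W.neg_mem h2
  have h3 : p.eval (-1) ∈ m := ham he
  rw [eval_eq_sum_range, Finset.sum_range_succ, hpm.coeff_natDegree, one_mul] at h3
  have h4 : ∑ k ∈ Finset.range p.natDegree, p.coeff k * (-1) ^ k ∈ m := m.sum_mem fun k hk => by
    refine m.mul_mem_right _ (Ideal.pow_le_self ?_ (hpc k))
    have := Finset.mem_range.1 hk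
    omega
  have h5 := (m.add_mem_iff_right h4).1 h3
  have h6 := m.mul_mem_right ((-1) ^ p.natDegree) h5
  rw [← mul_pow, neg_one_mul, neg_neg, one_pow] at h6
  exact hm.ne_top ((Ideal.eq_top_iff_one m).2 h6)

open MonoidalCategory in
/-- A complex of finite projective modules exact on the closed fibres at `i` is universally exact at `i`. -/
theorem exactAt_tensor_of_fibres (P : DRing.Cx R) (i : ℤ) [Module.Finite R (P.X i)]
    [Module.Projective R (P.X i)] [Module.Projective R (P.X (i + 1))]
    (h : ∀ m : Ideal R, m.IsMaximal →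
      (((ModuleCat.extendScalars (Ideal.Quotient.mk m)).mapHomologicalComplex (ComplexShape.up ℤ)).obj P).ExactAt i)
    (M : ModuleCat.{u} R) : (DRing.tensorCx P M).ExactAt i := by
  rw [HomologicalComplex.exactAt_iff' (i := i - 1) (j := i) (k := i + 1) _ (by simp) (by simp),
    ShortComplex.ShortExact.moduleCat_exact_iff_function_exact]
  refine exact_rTensor (P.d (i - 1) i).hom (P.d i (i + 1)).hom ?_ (fun m hm => ?_) M
  · exact congrArg ModuleCat.Hom.hom (P.d_comp_d (i - 1) i (i + 1))
  · have h1 := h m hm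
    rw [HomologicalComplex.exactAt_iff' (i := i - 1) (j := i) (k := i + 1) _ (by simp) (by simp),
      ShortComplex.ShortExact.moduleCat_exact_iff_function_exact] at h1
    exact h1

attribute [local instance] HasDerivedCategory.standard

/-- Perfection and amplitude from the closed fibres. -/
theorem torAmp_of_fibres (K : Dual.D R) (P : DRing.Cx R) (b₀ : ℤ) (hPb : DRing.VanishesAbove P b₀)
    (hPf : DRing.TermwiseFiniteFree P) (e : DRing.toD P ≅ K) (a b : ℤ)
    (h : ∀ m : Ideal R, m.IsMaximal → ∀ i : ℤ, (i < a ∨ b < i) →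
      (((ModuleCat.extendScalars (Ideal.Quotient.mk m)).mapHomologicalComplex (ComplexShape.up ℤ)).obj P).ExactAt i) :
    DRing.HasTorAmplitudeIn R a b K ∧ DRing.IsPerfect R K := by
  haveI : ∀ M : ModuleCat.{u} R, DRing.HasLTensor R M := fun M => DCat.hasLTensor M
  have hamp : DRing.HasTorAmplitudeIn R a b K := DCat.flatAmp_of_vanish fun M i hi => by
    rw [DCat.isZero_ltensor_iff M (kflat_of_finiteFree hPb hPf) e i]
    haveI := (hPf i).1
    haveI := (hPf i).2
    haveI := (hPf (i + 1)).2
    exact exactAt_tensor_of_fibres P i (fun m hm => h m hm i hi) M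
  exact ⟨hamp, (perfect_iff K).2 ⟨⟨P, b₀, hPb, hPf, ⟨e⟩⟩, a, b, hamp⟩⟩

lemma exactAt_ext_of_subsingleton {A : Type u} [CommRing A] (φ : R →+* A) [DRing.HasLBaseChange φ]
    {P : DRing.Cx R} (hP : DCat.IsKFlatFor (DCat.modT R) P) {K : Dual.D R} (e : DRing.toD P ≅ K) (i : ℤ)
    (h : Subsingleton (Dual.HD A ((DRing.LBaseChange φ).obj K) i)) :
    (((ModuleCat.extendScalars.{u, u, u} φ).mapHomologicalComplex (ComplexShape.up ℤ)).obj P).ExactAt i := by
  rw [← DCat.isZero_homology_toD_iff]
  exact ((DCat.subsingleton_HD_iff _ i).1 h).of_iso ((DerivedCategory.homologyFunctor (ModuleCat.{u} A) i).mapIso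
    ((DCat.lbaseChangeIso φ hP).symm ≪≫ (DRing.LBaseChange φ).mapIso e))

open MonoidalCategory in
/-- Base change to a quotient is tensoring with the quotient. -/
lemma exactAt_ext_quot_iff (m : Ideal R) (P : DRing.Cx R) (i : ℤ) :
    (((ModuleCat.extendScalars (Ideal.Quotient.mk m)).mapHomologicalComplex (ComplexShape.up ℤ)).obj P).ExactAt i ↔
      (DRing.tensorCx P (ModuleCat.of R (R ⧸ m))).ExactAt i := by
  rw [HomologicalComplex.exactAt_iff, HomologicalComplex.exactAt_iff]
  refine (ShortComplex.exact_map_iff_of_faithful _ (ModuleCat.restrictScalars (Ideal.Quotient.mk m))).symm.trans ?_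
  let ε : tensorRight (ModuleCat.of R (R ⧸ m)) ≅
      ModuleCat.extendScalars (Ideal.Quotient.mk m) ⋙ ModuleCat.restrictScalars (Ideal.Quotient.mk m) :=
    (tensoringRight (ModuleCat.{u} R)).mapIso (DCat.DC.quotIso m).symm ≪≫
      (BraidedCategory.tensorLeftIsoTensorRight _).symm ≪≫ DCat.restrictExtIso (Ideal.Quotient.mk m)
  exact ShortComplex.exact_iff_of_iso ((HomologicalComplex.shortComplexFunctor _ _ i).mapIso
    ((NatIso.mapHomologicalComplex ε.symm (ComplexShape.up ℤ)).app P))

end Groth.Agent.DRingLib
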