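import Groth.Agent.DRingLib.PCGen
import Groth.Agent.DRingLib.PCRes
import Groth.Agent.CAlgML.MLProps
import Mathlib.Algebra.Module.FinitePresentation

/-! Pseudo-coherence over a coherent ring. -/

set_option autoImplicit false
set_option backward.isDefEq.respectTransparency false
set_option backward.defeqAttrib.useBackward true
set_option linter.style.haveILetI false

universe u

open CategoryTheory CategoryTheory.Limits HomologicalComplex CategoryTheory.Pretriangulated

attribute [local instance] HasDerivedCategory.standard

namespace Groth.Agent.DRingLib.PCCoherent17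

open Groth.Agent.DCat

variable {R : Type u} [CommRing R] (hR : ∀ I : Ideal R, I.FG → Module.FinitePresentation R I)

include hR in
theorem fp_submodule {M : Type u} [AddCommGroup M] [Module R M] [Module.FinitePresentation R M]
    (N : Submodule R M) (hN : N.FG) : Module.FinitePresentation R N :=
  CAlgML.finitePresentation_submodule_of_flat_pi (fun A => CAlgML.flat_pi_of_coherent hR A) N hN

include hR in
/-- An extension inside an exact sequence. -/
theorem fp_of_exact {S : ShortComplex (ModuleCat.{u} R)} (hS : S.Exact) [Mono S.f]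
    [Module.FinitePresentation R S.X₁] [Module.FinitePresentation R S.X₃]
    (h : (LinearMap.range S.g.hom).FG) : Module.FinitePresentation R S.X₂ := by
  have := fp_submodule hR _ h
  have hf : Function.Injective S.f.hom := (ModuleCat.mono_iff_injective _).1 inferInstance
  have e : LinearMap.ker S.g.hom.rangeRestrict = LinearMap.range S.f.hom := by
    rw [LinearMap.ker_rangeRestrict]
    exact LinearMap.exact_iff.1 ((ShortComplex.ShortExact.moduleCat_exact_iff_function_exact S).1 hS)
  haveI : Module.FinitePresentation R (LinearMap.ker S.g.hom.rangeRestrict) :=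
    Module.FinitePresentation.of_equiv ((LinearEquiv.ofInjective S.f.hom hf).trans (LinearEquiv.ofEq _ _ e.symm))
  exact Module.finitePresentation_of_ker _ S.g.hom.surjective_rangeRestrict

include hR in
/-- Finite presentation of cohomology passes to the cone of a free cover. -/
theorem homology_cone (b : ℤ) {T : Triangle (Dual.D R)} (hT : T ∈ distinguishedTriangles) (r : ℕ)
    (h1 : T.obj₁ = DRing.toD (freeAt R b r)) [T.obj₃.IsLE (b - 1)] (i : ℤ)
    (hb : Module.FinitePresentation R ((HF R b).obj T.obj₂)) :
    (Module.Finite R ((HF R i).obj T.obj₂) → Module.Finite R ((HF R i).obj T.obj₃)) ∧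
    (Module.FinitePresentation R ((HF R i).obj T.obj₂) → Module.FinitePresentation R ((HF R i).obj T.obj₃)) := by
  by_cases hib : b ≤ i
  · haveI := ModuleCat.subsingleton_of_isZero (DerivedCategory.isZero_of_isLE T.obj₃ (b - 1) i (by omega))
    exact ⟨fun _ => inferInstance, fun _ => inferInstance⟩
  have hz : IsZero ((HF R i).obj T.obj₁) := h1 ▸ isZero_hf_freeAt b r i (by omega)
  haveI : Mono ((HF R i).map T.mor₂) :=
    (DerivedCategory.HomologySequence.mono_homologyMap_mor₂_iff T hT i).2 (hz.eq_of_src _ _)
  let S := ShortComplex.mk ((HF R i).map T.mor₂) (DerivedCategory.HomologySequence.δ T i (i + 1) rfl)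
    (DerivedCategory.HomologySequence.comp_δ T hT i (i + 1) rfl)
  have hS : S.Exact := DerivedCategory.HomologySequence.exact₃ T hT i (i + 1) rfl
  obtain ⟨hfp, hfg⟩ : Module.FinitePresentation R S.X₃ ∧ (LinearMap.range S.g.hom).FG := by
    by_cases h : i + 1 = b
    · obtain ⟨_, _⟩ : Module.Finite R ((HF R (i + 1)).obj T.obj₁) ∧ Module.Free R ((HF R (i + 1)).obj T.obj₁) := by
        rw [h1, h]
        exact finite_free_homology b r
      haveI : Module.FinitePresentation R ((HF R (i + 1)).obj T.obj₂) := by rwa [h]
      haveI : Epi ((HF R (i + 1)).map T.mor₁) :=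
        (DerivedCategory.HomologySequence.epi_homologyMap_mor₁_iff T hT (i + 1)).2
          ((DerivedCategory.isZero_of_isLE T.obj₃ (b - 1) (i + 1) (by omega)).eq_of_tgt _ _)
      refine ⟨Module.finitePresentation_of_projective R ((HF R (i + 1)).obj T.obj₁), ?_⟩
      have e := LinearMap.exact_iff.1 ((ShortComplex.ShortExact.moduleCat_exact_iff_function_exact _).1
        (DerivedCategory.HomologySequence.exact₁ T hT i (i + 1) rfl))
      exact e ▸ Module.FinitePresentation.fg_ker _ ((ModuleCat.epi_iff_surjective _).1 inferInstance)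
    · have hz' : IsZero S.X₃ := by
        show IsZero ((HF R (i + 1)).obj T.obj₁)
        rw [h1]
        exact isZero_hf_freeAt b r (i + 1) h
      haveI := ModuleCat.subsingleton_of_isZero hz'
      exact ⟨inferInstance, IsNoetherian.noetherian _⟩
  haveI := hfp
  exact ⟨fun h => finite_of_exact hS h hfg, fun h => by
    haveI : Module.FinitePresentation R S.X₁ := h
    exact fp_of_exact hR hS hfg⟩

include hR in
/-- **Pseudo-coherence from cohomology.** -/
theorem pc_of_fp_homology {m : ℤ} : ∀ {K : Dual.D R} {b : ℤ}, K.IsLE b →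
    Module.Finite R ((HF R m).obj K) → (∀ i, m < i → Module.FinitePresentation R ((HF R i).obj K)) →
    DRing.IsPseudoCoherent R m K := by
  suffices h : ∀ (k : ℕ) (K : Dual.D R), K.IsLE (m + k) →
      Module.Finite R ((HF R m).obj K) → (∀ i, m < i → Module.FinitePresentation R ((HF R i).obj K)) →
      DRing.IsPseudoCoherent R m K from
    fun {K b} hK => h (b - m).toNat K
      (@DerivedCategory.TStructure.t (ModuleCat.{u} R) _ _ _ |>.isLE_of_le K b _ (by omega))
  intro k
  induction k with
  | zero =>
    intro K hK hm _
    haveI : K.IsLE m := by simpa using hK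
    obtain ⟨r, T, hT, h1, h2, h3⟩ := exists_cover_cone K m hm
    subst h2
    haveI := h3
    exact pc_ext hT (h1 ▸ pc_freeAt m r m) (pc_of_isLE (n := m - 1) (by omega))
  | succ k ih =>
    intro K hK hm h
    let b : ℤ := m + k + 1
    haveI : K.IsLE b := by rwa [show b = m + ((k + 1 : ℕ) : ℤ) by simp only [b]; omega]
    have hb := h b (by simp only [b]; omega)
    obtain ⟨r, T, hT, h1, h2, h3⟩ := exists_cover_cone K b inferInstance
    subst h2
    haveI := h3
    refine pc_ext hT (h1 ▸ pc_freeAt b r m) (ih _ ?_ ((homology_cone hR b hT r h1 m hb).1 hm)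
      fun i hi => (homology_cone hR b hT r h1 i hb).2 (h i hi))
    rwa [show m + (k : ℤ) = b - 1 by simp only [b]; omega]

include hR in
/-- Cohomology of a complex of finite free modules. -/
theorem fp_homology_of_finiteFree {E : DRing.Cx R} (hE : DRing.TermwiseFiniteFree E) (i : ℤ) :
    Module.FinitePresentation R (E.homology i) := by
  haveI := (hE (i - 1)).1
  haveI := (hE i).1
  haveI := (hE i).2
  haveI := (hE (i + 1)).1
  haveI := (hE (i + 1)).2
  haveI := Module.finitePresentation_of_projective R (E.X i)
  haveI := Module.finitePresentation_of_projective R (E.X (i + 1))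
  let g : E.X i →ₗ[R] E.X (i + 1) := (E.d i (i + 1)).hom
  let Z := LinearMap.ker g
  haveI : Module.FinitePresentation R (LinearMap.range g) := fp_submodule hR _ (LinearMap.range_eq_map g ▸ Module.Finite.fg_top.map _)
  have hZ : Z.FG := by
    have := Module.FinitePresentation.fg_ker g.rangeRestrict g.surjective_rangeRestrict
    rwa [LinearMap.ker_rangeRestrict] at this
  let S := E.sc' (i - 1) i (i + 1)
  haveI : Module.FinitePresentation R (LinearMap.ker S.g.hom) := fp_submodule hR Z hZ
  haveI : Module.Finite R S.X₁ := (hE (i - 1)).1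
  let B := LinearMap.range S.moduleCatToCycles
  haveI hq : Module.FinitePresentation R (Z ⧸ B) :=
    Module.finitePresentation_of_surjective B.mkQ B.mkQ_surjective
      (by
        rw [Submodule.ker_mkQ]
        show (LinearMap.range S.moduleCatToCycles).FG
        rw [LinearMap.range_eq_map]
        exact Module.Finite.fg_top.map _)
  let e := ShortComplex.homologyMapIso (E.isoSc' (i - 1) i (i + 1) (by simp) (by simp)) ≪≫ S.moduleCatHomologyIso
  exact Module.FinitePresentation.of_equiv (M := Z ⧸ B) e.toLinearEquiv.symm

include hR in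
theorem fp_homology_of_pc {m : ℤ} {K : Dual.D R} (h : DRing.IsPseudoCoherent R m K) :
    Module.Finite R ((HF R m).obj K) ∧ ∀ i, m < i → Module.FinitePresentation R ((HF R i).obj K) := by
  obtain ⟨E, a, b, α, -, hf, hiso, hepi⟩ := h
  constructor
  · haveI := hepi
    haveI := fp_homology_of_finiteFree hR hf m
    exact finite_of_epi ((HF R m).map α) (finite_of_iso (HQ E m).symm inferInstance)
  · intro i hi
    haveI := hiso i hi
    haveI := fp_homology_of_finiteFree hR hf i
    exact Module.FinitePresentation.of_equiv ((HQ E i).symm ≪≫ asIso ((HF R i).map α)).toLinearEquiv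

include hR in
theorem main (K : Dual.D R) (hb : ∃ b : ℤ, ∀ i : ℤ, b < i → Subsingleton (Dual.HD R K i)) (m : ℤ) :
    (DRing.IsPseudoCoherent R m K ↔
      Module.Finite R (Dual.HD R K m) ∧ ∀ i : ℤ, m < i → Module.FinitePresentation R (Dual.HD R K i)) ∧
      (DRing.IsPseudoCoherent' R K ↔ ∀ i : ℤ, Module.FinitePresentation R (Dual.HD R K i)) := by
  obtain ⟨b, hb⟩ := hb
  haveI hK : K.IsLE b := (isLE_iff_HD K b).2 hb
  refine ⟨⟨fp_homology_of_pc hR, fun h => pc_of_fp_homology hR hK h.1 h.2⟩,
    fun h i => (fp_homology_of_pc hR (pc_of_pc' h (i - 1))).2 i (by omega), fun h => pc'_of_forall fun n =>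
    pc_of_fp_homology hR hK (haveI : Module.FinitePresentation R ((HF R n).obj K) := h n; inferInstance) fun i _ => h i⟩

end Groth.Agent.DRingLib.PCCoherent17
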