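import Groth.Agent.DRingLib.PCRes
import Groth.Agent.S7018
import Mathlib.RingTheory.Flat.EquationalCriterion

/-! Perfect objects: pseudo-coherent of finite tor amplitude. -/

set_option autoImplicit false
set_option backward.isDefEq.respectTransparency false
set_option backward.defeqAttrib.useBackward true
set_option linter.style.haveILetI false

universe u

open CategoryTheory CategoryTheory.Limits HomologicalComplex CategoryTheory.Pretriangulated
open scoped ZeroObject TensorProduct

attribute [local instance] HasDerivedCategory.standard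

namespace Groth.Agent.DRingLib

open Groth.Agent.DCat

variable {R : Type u} [CommRing R]

/-- Perfect objects are pseudo-coherent. -/
theorem pc_of_perfect {K : Dual.D R} (h : DRing.IsPerfect R K) (m : ℤ) : DRing.IsPseudoCoherent R m K := by
  refine devissage (fun K => ∀ m, DRing.IsPseudoCoherent R m K) (fun e h m => pc_iso e (h m))
    (fun T hT h₁ h₂ _ _ m => pc_cone hT (h₁ (m + 1)) (h₂ m)) (fun r h m => pc_retract r (h m)) (fun n m => ?_) h m
  refine ⟨unitShift R n, n, n, 𝟙 _, fun i hi => isZero_single_obj_X _ _ _ _ (by omega), fun i => ?_,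
    apx_of_isIso m (𝟙 _)⟩
  by_cases hi : i = n
  · subst hi
    exact free_of_iso (singleObjXSelf (ComplexShape.up ℤ) i _).symm
      ⟨inferInstanceAs (Module.Finite R R), inferInstanceAs (Module.Free R R)⟩
  · exact free_zero (isZero_single_obj_X _ _ _ _ hi)

theorem pc'_of_perfect {K : Dual.D R} (h : DRing.IsPerfect R K) : DRing.IsPseudoCoherent' R K :=
  pc'_of_forall (pc_of_perfect h)

lemma flat_of_shortExact {M N P : Type u} [AddCommGroup M] [Module R M] [AddCommGroup N] [Module R N]
    [AddCommGroup P] [Module R P] [Module.Flat R N] [Module.Flat R P] {f : M →ₗ[R] N} {g : N →ₗ[R] P}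
    (hf : Function.Injective f) (hg : Function.Surjective g) (hfg : Function.Exact f g) : Module.Flat R M := by
  rw [Module.Flat.iff_rTensor_preserves_injective_linearMap]
  intro A B _ _ _ _ a ha
  have h1 : Function.Injective ((a.rTensor N).comp (f.lTensor A)) :=
    (Module.Flat.rTensor_preserves_injective_linearMap (M := N) a ha).comp
      (lTensor_injective_of_flat_quotient A hf hg hfg)
  rw [LinearMap.rTensor_comp_lTensor, ← LinearMap.lTensor_comp_rTensor, LinearMap.coe_comp] at h1
  exact h1.of_comp

lemma flat_prod {N P : Type u} [AddCommGroup N] [Module R N] [AddCommGroup P] [Module R P] [Module.Flat R N]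
    [Module.Flat R P] : Module.Flat R (N × P) := by
  rw [Module.Flat.iff_rTensor_preserves_injective_linearMap]
  intro A B _ _ _ _ a ha
  rw [injective_iff_map_eq_zero]
  intro x hx
  have e : ∀ y : A ⊗[R] (N × P), TensorProduct.prodRight R R A N P y =
      ((LinearMap.fst R N P).lTensor A y, (LinearMap.snd R N P).lTensor A y) := fun y => by
    induction y using TensorProduct.induction_on with
    | zero =>
      simp only [map_zero]
      rfl
    | tmul a p => simp
    | add y z hy hz => simp [hy, hz]
  apply (TensorProduct.prodRight R R A N P).injective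
  rw [map_zero, e]
  refine Prod.ext ?_ ?_
  · apply Module.Flat.rTensor_preserves_injective_linearMap (M := N) a ha
    rw [← LinearMap.comp_apply, LinearMap.rTensor_comp_lTensor, ← LinearMap.lTensor_comp_rTensor,
      LinearMap.comp_apply, hx, map_zero]
    exact (map_zero _).symm
  · apply Module.Flat.rTensor_preserves_injective_linearMap (M := P) a ha
    rw [← LinearMap.comp_apply, LinearMap.rTensor_comp_lTensor, ← LinearMap.lTensor_comp_rTensor,
      LinearMap.comp_apply, hx, map_zero]
    exact (map_zero _).symm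

lemma flat_cycles {X : DRing.Cx R} {b j₀ : ℤ} (hb : DRing.VanishesAbove X b) (hX : X.Acyclic)
    (hf : ∀ i, j₀ < i → Module.Flat R (X.X i)) (j : ℤ) (hj : j₀ < j) :
    Module.Flat R (LinearMap.ker (X.d j (j + 1)).hom) := by
  suffices h : ∀ (k : ℕ) (j : ℤ), j₀ < j → b - j ≤ k → Module.Flat R (LinearMap.ker (X.d j (j + 1)).hom) from
    h (b - j).toNat j hj (by omega)
  intro k
  induction k with
  | zero =>
    intro j hj hk
    haveI := hf j hj
    have e : LinearMap.ker (X.d j (j + 1)).hom = ⊤ := by
      rw [(hb (j + 1) (by omega)).eq_of_tgt (X.d j (j + 1)) 0]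
      exact LinearMap.ker_zero
    rw [e]
    exact Module.Flat.of_linearEquiv Submodule.topEquiv
  | succ k ih =>
    intro j hj hk
    haveI := ih (j + 1) (by omega) (by omega)
    haveI := hf j hj
    let g : X.X j →ₗ[R] LinearMap.ker (X.d (j + 1) (j + 1 + 1)).hom :=
      (X.d j (j + 1)).hom.codRestrict _ fun x =>
        congrArg (fun g : X.X j ⟶ X.X (j + 1 + 1) => g.hom x) (X.d_comp_d j (j + 1) (j + 1 + 1))
    refine flat_of_shortExact (f := (LinearMap.ker (X.d j (j + 1)).hom).subtype) (g := g)
      (Submodule.injective_subtype _) (fun ⟨z, hz⟩ => ?_) ?_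
    · have hx := hX (j + 1)
      rw [X.exactAt_iff' j (j + 1) (j + 1 + 1) (by simp) (by simp), ShortComplex.moduleCat_exact_iff] at hx
      obtain ⟨x, hx⟩ := hx z hz
      exact ⟨x, Subtype.ext hx⟩
    · rw [LinearMap.exact_iff, Submodule.range_subtype, LinearMap.ker_codRestrict]

lemma finitePresentation_opcycles {E : DRing.Cx R} (hE : DRing.TermwiseFiniteFree E) (m : ℤ) :
    Module.FinitePresentation R (E.opcycles m) := by
  haveI := (hE (m - 1)).1
  haveI := (hE m).1
  haveI := (hE m).2
  haveI := Module.finitePresentation_of_projective R (E.X m)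
  haveI : Epi (E.pOpcycles m) := inferInstance
  refine Module.finitePresentation_of_surjective (E.pOpcycles m).hom ((ModuleCat.epi_iff_surjective _).1 inferInstance) ?_
  have hex : Function.Exact (E.d (m - 1) m).hom (E.pOpcycles m).hom :=
    (ShortComplex.ShortExact.moduleCat_exact_iff_function_exact (ShortComplex.mk _ _ (E.d_pOpcycles (m - 1) m))).1
      (ShortComplex.exact_of_g_is_cokernel _ (E.opcyclesIsCokernel (m - 1) m (by simp)))
  rw [LinearMap.exact_iff.1 hex, LinearMap.range_eq_map]
  exact (Module.Finite.fg_top).map _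

/-- Pseudo-coherent objects of finite tor amplitude are perfect. -/
theorem exists_finiteProjective {K : Dual.D R} {m n : ℤ} (hmn : m ≤ n) (h : DRing.IsPseudoCoherent R (m - 1) K)
    (ht : DRing.HasTorAmplitudeIn R m n K) :
    ∃ E : DRing.Cx R, DRing.VanishesOutside E m n ∧ DRing.TermwiseFiniteProjective E ∧
      Nonempty (DRing.toD E ≅ K) := by
  obtain ⟨F, hF, hFf, ⟨eF⟩⟩ := ht
  obtain ⟨E, b, α, hE, hEf, hα⟩ := exists_eff h
  haveI : CochainComplex.IsStrictlyGE F m := (CochainComplex.isStrictlyGE_iff _ m).2 fun i hi => hF i (Or.inl hi)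
  haveI := isKProjective_of_outside hE (projective_of_free hEf)
  obtain ⟨a, ha⟩ := exists_Q_map (P := E) (L := F) (α ≫ eF.inv)
  have hapx : Apx (m - 1) (DerivedCategory.Q.map a) := by
    rw [ha]
    exact Apx.comp hα (apx_of_isIso _ _)
  have hat : ∀ i, m ≤ i → QuasiIsoAt a i := fun i hi => by
    rw [quasiIsoAt_iff_isIso_homologyMap]
    exact (NatIso.isIso_map_iff (DerivedCategory.homologyFunctorFactors (ModuleCat.{u} R) i) a).1 (hapx.1 i (by omega))
  let E1 := E.truncGE m
  haveI : QuasiIso (CochainComplex.truncGEMap a m) := (CochainComplex.quasiIso_truncGEMap_iff a m).2 hat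
  let q : E1 ⟶ F := CochainComplex.truncGEMap a m ≫ inv (F.πTruncGE m)
  haveI : QuasiIso q := inferInstance
  haveI := isIso_Q_map_of_qis q
  have hlow : ∀ i, i < m → IsZero (E1.X i) := fun i hi => CochainComplex.isZero_of_isStrictlyGE E1 m i hi
  have hhigh : ∀ i, max b m < i → IsZero (E1.X i) := fun i hi =>
    (hE i (Or.inr (by omega))).of_iso (E.truncGEXIso m i (by omega))
  have hflat : Module.Flat R (E.opcycles m) := by
    have hX := hX_acyclic q
    have hff : ∀ i, m - 1 < i → Module.Flat R ((CochainComplex.mappingCone q).X i) := fun i hi => by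
      haveI := hFf i
      haveI := (hEf (i + 1)).2
      haveI : Module.Flat R (E1.X (i + 1)) :=
        Module.Flat.of_linearEquiv (E.truncGEXIso m (i + 1) (by omega)).toLinearEquiv
      haveI : Module.Flat R (ModuleCat.of R (E1.X (i + 1) × F.X i)) := flat_prod
      exact Module.Flat.of_linearEquiv (homotopyCofiber.XIsoBiprod q i (i + 1) (by simp) ≪≫
        ModuleCat.biprodIsoProd (E1.X (i + 1)) (F.X i)).toLinearEquiv
    haveI := flat_cycles (b := max (max b m) n) (fun i hi => ?_) hX hff m (by omega)
    · let X := CochainComplex.mappingCone q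
      let g : X.X (m - 1) →ₗ[R] LinearMap.ker (X.d m (m + 1)).hom :=
        (X.d (m - 1) m).hom.codRestrict _ fun x =>
          congrArg (fun g : X.X (m - 1) ⟶ X.X (m + 1) => g.hom x) (X.d_comp_d (m - 1) m (m + 1))
      have hginj : Function.Injective g := by
        rw [injective_iff_map_eq_zero]
        intro x hx
        have hx' := hX (m - 1)
        rw [X.exactAt_iff' (m - 1 - 1) (m - 1) m (by simp) (by simp), ShortComplex.moduleCat_exact_iff] at hx'
        obtain ⟨y, hy⟩ := hx' x (congrArg Subtype.val hx)
        rw [← hy]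
        have hz : IsZero (X.X (m - 1 - 1)) := by
          refine IsZero.of_iso ?_ (homotopyCofiber.XIsoBiprod q (m - 1 - 1) (m - 1) (by simp) ≪≫
            ModuleCat.biprodIsoProd (E1.X (m - 1)) (F.X (m - 1 - 1)))
          haveI := ModuleCat.subsingleton_of_isZero (hlow (m - 1) (by omega))
          haveI := ModuleCat.subsingleton_of_isZero (hF (m - 1 - 1) (Or.inl (by omega)))
          exact @ModuleCat.isZero_of_subsingleton _ _ _ (inferInstanceAs (Subsingleton (E1.X (m - 1) × F.X (m - 1 - 1))))
        haveI := ModuleCat.subsingleton_of_isZero hz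
        rw [@Subsingleton.elim (X.X (m - 1 - 1)) _ y 0]
        exact map_zero _
      have hgsurj : Function.Surjective g := fun ⟨z, hz⟩ => by
        have hx := hX m
        rw [X.exactAt_iff' (m - 1) m (m + 1) (by simp) (by simp), ShortComplex.moduleCat_exact_iff] at hx
        obtain ⟨x, hx⟩ := hx z hz
        exact ⟨x, Subtype.ext hx⟩
      haveI : Module.Flat R (X.X (m - 1)) := Module.Flat.of_linearEquiv (LinearEquiv.ofBijective g ⟨hginj, hgsurj⟩)
      haveI := ModuleCat.subsingleton_of_isZero (hF (m - 1) (Or.inl (by omega)))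
      let e : X.X (m - 1) ≅ ModuleCat.of R ((E1.X m) × (F.X (m - 1))) :=
        homotopyCofiber.XIsoBiprod q (m - 1) m (by simp) ≪≫ ModuleCat.biprodIsoProd _ _
      haveI : Module.Flat R (E1.X m) := Module.Flat.of_retract
        (e.toLinearEquiv.symm.toLinearMap.comp (LinearMap.inl R _ _)) ((LinearMap.fst R _ _).comp e.toLinearEquiv.toLinearMap)
        (by
          ext x
          exact congrArg Prod.fst (e.toLinearEquiv.apply_symm_apply (x, (0 : F.X (m - 1)))))
      exact Module.Flat.of_linearEquiv (E.truncGEXIsoOpcycles m).toLinearEquiv.symm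
    · refine IsZero.of_iso ?_ (homotopyCofiber.XIsoBiprod q i (i + 1) (by simp) ≪≫
        ModuleCat.biprodIsoProd (E1.X (i + 1)) (F.X i))
      haveI := ModuleCat.subsingleton_of_isZero (hhigh (i + 1) (by omega))
      haveI := ModuleCat.subsingleton_of_isZero (hF i (Or.inr (by omega)))
      exact @ModuleCat.isZero_of_subsingleton _ _ _ (inferInstanceAs (Subsingleton (E1.X (i + 1) × F.X i)))
  have hproj : DRing.TermwiseFiniteProjective E1 := fun i => by
    rcases lt_trichotomy i m with hi | rfl | hi
    · haveI := ModuleCat.subsingleton_of_isZero (hlow i hi)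
      exact ⟨inferInstance, inferInstance⟩
    · haveI := hflat
      haveI := finitePresentation_opcycles hEf i
      haveI : Module.Projective R (E.opcycles i) := Module.Flat.projective_of_finitePresentation
      exact finite_projective_of_iso (E.truncGEXIsoOpcycles i).symm ⟨inferInstance, inferInstance⟩
    · haveI := (hEf i).1
      haveI := (hEf i).2
      exact finite_projective_of_iso (E.truncGEXIso m i hi).symm ⟨inferInstance, inferInstance⟩
  let E2 := E1.truncLE n
  have hex : ∀ i, n < i → E1.ExactAt i := fun i hi => by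
    rw [exactAt_iff_isZero_homology]
    refine IsZero.of_iso ?_ (asIso (homologyMap q i))
    rw [← exactAt_iff_isZero_homology]
    exact ExactAt.of_isZero (hF i (Or.inr hi))
  haveI : CochainComplex.IsLE E1 n := (CochainComplex.isLE_iff _ n).2 hex
  haveI : QuasiIso (E1.ιTruncLE n) := (CochainComplex.quasiIso_ιTruncLE_iff E1 n).2 inferInstance
  haveI := isIso_Q_map_of_qis (E1.ιTruncLE n)
  refine ⟨E2, fun i hi => ?_, fun i => ?_,
    ⟨asIso (DerivedCategory.Q.map (E1.ιTruncLE n)) ≪≫ asIso (DerivedCategory.Q.map q) ≪≫ eF⟩⟩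
  · rcases hi with hi | hi
    · exact (hlow i hi).of_iso (E1.truncLEXIso n i (by omega))
    · exact CochainComplex.isZero_of_isStrictlyLE E2 n i hi
  · rcases lt_trichotomy i n with hi | rfl | hi
    · exact finite_projective_of_iso (E1.truncLEXIso n i hi).symm (hproj i)
    · refine finite_projective_of_iso (E1.truncLEXIsoCycles i ≪≫
        E1.cyclesIsoSc' (i - 1) i (i + 1) (by simp) (by simp) ≪≫
        (E1.sc' (i - 1) i (i + 1)).moduleCatCyclesIso).symm ?_
      exact finite_projective_cycles (fun j hj => hhigh j hj) hproj hex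
    · haveI := ModuleCat.subsingleton_of_isZero (CochainComplex.isZero_of_isStrictlyLE E2 n i hi)
      exact ⟨inferInstance, inferInstance⟩
where
  hX_acyclic {E1 F : DRing.Cx R} (q : E1 ⟶ F) [QuasiIso q] : (CochainComplex.mappingCone q).Acyclic := fun i => by
    haveI := isIso_Q_map_of_qis q
    have hz := (Triangle.isZero₃_iff_isIso₁ _ (DerivedCategory.mappingCone_triangle_distinguished q)).2
      (inferInstanceAs (IsIso (DerivedCategory.Q.map q)))
    rw [exactAt_iff_isZero_homology]
    exact ((HF R i).map_isZero hz).of_iso (HQ _ i).symm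

theorem hasTorAmplitude_of_perfect {K : Dual.D R} (h : DRing.IsPerfect R K) : DRing.HasFiniteTorDimCx R K := by
  obtain ⟨E, a, b, hE, hp, he⟩ := h
  exact ⟨a, b, E, hE, fun i => haveI := (hp i).2; inferInstance, he⟩

lemma torAmplitude_mono {K : Dual.D R} {a b a' b' : ℤ} (h : DRing.HasTorAmplitudeIn R a b K) (ha : a' ≤ a)
    (hb : b ≤ b') : DRing.HasTorAmplitudeIn R a' b' K := by
  obtain ⟨E, hE, hf, he⟩ := h
  exact ⟨E, fun i hi => hE i (by omega), hf, he⟩

theorem perfect_iff (K : Dual.D R) :
    DRing.IsPerfect R K ↔ DRing.IsPseudoCoherent' R K ∧ DRing.HasFiniteTorDimCx R K := by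
  refine ⟨fun h => ⟨pc'_of_perfect h, hasTorAmplitude_of_perfect h⟩, fun ⟨h, a, b, ht⟩ => ?_⟩
  obtain ⟨E, hE, hp, he⟩ := exists_finiteProjective (le_max_left a b) (pc_of_pc' h (a - 1))
    (torAmplitude_mono ht le_rfl (le_max_right a b))
  exact ⟨E, a, max a b, hE, hp, he⟩

end Groth.Agent.DRingLib
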