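import Groth.Agent.CAlgH3.ProjDim
import Groth.Agent.CommAlg6.PdBaseChange
import Groth.Agent.DCat.ProjAmp
import Mathlib.RingTheory.RegularLocalRing.Defs
import Mathlib.RingTheory.LocalProperties.ProjectiveDimension
import Mathlib.RingTheory.KrullDimension.Basic
import Mathlib.Algebra.Homology.DerivedCategory.SingleTriangle
import Mathlib.Algebra.Category.Grp.EnoughInjectives
import Mathlib.Algebra.Category.ModuleCat.EnoughInjectives

/-! Global dimension of regular rings; consequences in `D(R)`. -/

set_option autoImplicit false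
set_option backward.isDefEq.respectTransparency false
set_option backward.defeqAttrib.useBackward true
set_option linter.style.haveILetI false

universe u

open CategoryTheory CategoryTheory.Limits CategoryTheory.Pretriangulated
attribute [local instance] HasDerivedCategory.standard

namespace Groth.Agent.DRingLib

variable {R : Type u} [CommRing R]

theorem injDim_of_regular [IsNoetherianRing R]
    (hreg : ∀ p : PrimeSpectrum R, IsRegularLocalRing (Localization.AtPrime p.asIdeal)) (d : ℕ)
    (hd : ringKrullDim R ≤ d) (N : ModuleCat.{u} R) : HasInjectiveDimensionLT N (d + 1) := by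
  refine CAlgH3.hasInjectiveDimensionLT_of_forall_ideal d N fun I => ?_
  have hpd : HasProjectiveDimensionLE (ModuleCat.of R (R ⧸ I)) d :=
    ((ModuleCat.of R (R ⧸ I)).hasProjectiveDimensionLE_iff_forall_primeSpectrum d).2 fun p => by
      haveI := hreg p
      refine (CommAlg6.pdLE_congr (M := ((ModuleCat.of R (R ⧸ I)).localizedModule p.asIdeal.primeCompl : Type u))
        (Shrink.linearEquiv (Localization.AtPrime p.asIdeal) (LocalizedModule p.asIdeal.primeCompl (R ⧸ I))) d).2 ?_
      refine CAlgH3.pd_mono ?_ (CAlgH3.pd_all (R := Localization.AtPrime p.asIdeal) _)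
      have h1 : ((IsLocalRing.maximalIdeal (Localization.AtPrime p.asIdeal)).spanFinrank : WithBot ℕ∞) ≤ d := by
        rw [IsRegularLocalRing.spanFinrank_maximalIdeal]
        rw [IsLocalization.AtPrime.ringKrullDim_eq_height p.asIdeal (Localization.AtPrime p.asIdeal)]
        exact Ideal.height_le_ringKrullDim_of_isPrime.trans hd
      have : (IsLocalRing.maximalIdeal (Localization.AtPrime p.asIdeal)).spanFinrank ≤ d := by exact_mod_cast h1
      omega
  exact HasProjectiveDimensionLT.subsingleton (ModuleCat.of R (R ⧸ I)) (d + 1) (d + 1) le_rfl N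

/-- Maps from objects in high degrees to modules of small injective dimension vanish. -/
theorem eq_zero_of_injDim : ∀ (j : ℕ) (X : ModuleCat.{u} R), HasInjectiveDimensionLT X (j + 1) →
    ∀ (K : Dual.D R) (s : ℤ), K.IsGE s → (j : ℤ) < s →
      ∀ φ : K ⟶ (DerivedCategory.singleFunctor (ModuleCat.{u} R) 0).obj X, φ = 0 := by
  intro j
  induction j with
  | zero =>
    intro X hX K s hK hs φ
    haveI : Injective X := injective_iff_hasInjectiveDimensionLT_one.2 hX
    let L := DerivedCategory.Q.objPreimage K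
    let e : DerivedCategory.Q.obj L ≅ K := DerivedCategory.Q.objObjPreimageIso K
    have hz : IsZero (L.homology 0) := (DerivedCategory.isZero_of_isGE K s 0 (by omega)).of_iso
      (((DerivedCategory.homologyFunctorFactors (ModuleCat.{u} R) 0).app L).symm ≪≫
        (DerivedCategory.homologyFunctor (ModuleCat.{u} R) 0).mapIso e)
    rw [← cancel_epi e.hom, ← cancel_mono (DCat.Amplitude.singleQIso 0 X).inv, comp_zero, zero_comp]
    exact DCat.Amplitude.to_injective_eq_zero L 0 hz X _
  | succ j ih =>
    intro X hX K s hK hs φ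
    let S : ShortComplex (ModuleCat.{u} R) := ShortComplex.mk (Injective.ι X) (cokernel.π _) (cokernel.condition _)
    have hS : S.ShortExact := { exact := ShortComplex.exact_cokernel _ }
    have h3 : HasInjectiveDimensionLT S.X₃ (j + 1) :=
      (hS.hasInjectiveDimensionLT_X₃_iff j inferInstance).2 hX
    have h2 : HasInjectiveDimensionLT S.X₂ (j + 1) :=
      haveI : HasInjectiveDimensionLT S.X₂ 1 :=
        injective_iff_hasInjectiveDimensionLT_one.1 (inferInstanceAs (Injective (Injective.under X)))
      hasInjectiveDimensionLT_of_ge _ 1 (j + 1) (by omega)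
    have hK1 : (K⟦(1 : ℤ)⟧).IsGE (s - 1) :=
      (DerivedCategory.TStructure.t (C := ModuleCat.{u} R)).isGE_shift K s 1 (s - 1) (by omega)
    have hφ : φ ≫ (DerivedCategory.singleFunctor (ModuleCat.{u} R) 0).map S.f = 0 :=
      ih _ h2 K s hK (by omega) _
    obtain ⟨ν, hν⟩ := Triangle.coyoneda_exact₁ _ hS.singleTriangle_distinguished (φ⟦(1 : ℤ)⟧') (by
      show φ⟦(1 : ℤ)⟧' ≫ ((DerivedCategory.singleFunctor (ModuleCat.{u} R) 0).map S.f)⟦(1 : ℤ)⟧' = 0
      rw [← Functor.map_comp, hφ, Functor.map_zero])
    have hν0 : ν = 0 := ih _ h3 (K⟦(1 : ℤ)⟧) (s - 1) hK1 (by omega) ν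
    apply (shiftFunctor (Dual.D R) (1 : ℤ)).map_injective
    rw [hν, hν0, zero_comp, Functor.map_zero]

/-- Global dimension `≤ d` bounds the projective amplitude. -/
theorem hom_eq_zero [IsNoetherianRing R]
    (hreg : ∀ p : PrimeSpectrum R, IsRegularLocalRing (Localization.AtPrime p.asIdeal)) (d : ℕ)
    (hd : ringKrullDim R ≤ d) (K L : Dual.D R) (s b t : ℤ) [K.IsGE s] [K.IsLE b] [L.IsLE t]
    (hst : t + d < s) (φ : K ⟶ L) : φ = 0 := by
  haveI : K.IsGE (s - d - 1 + 1) :=
    (DerivedCategory.TStructure.t (C := ModuleCat.{u} R)).isGE_of_ge K (s - d - 1 + 1) s (by omega)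
  obtain ⟨P, hP, hPp, ⟨e⟩⟩ := DCat.ProjAmp.exists_rep K (s - d - 1) b fun X ψ => by
    obtain ⟨χ, hχ⟩ := (shiftFunctor (Dual.D R) (-(s - d - 1))).map_surjective
      ((shiftFunctorCompIsoId (Dual.D R) (s - d - 1) (-(s - d - 1)) (by omega)).hom.app K ≫ ψ)
    haveI : (K⟦s - (d : ℤ) - 1⟧).IsGE ((d : ℤ) + 1) :=
      (DerivedCategory.TStructure.t (C := ModuleCat.{u} R)).isGE_shift K s (s - d - 1) _ (by omega)
    rw [eq_zero_of_injDim d X (injDim_of_regular hreg d hd X) _ ((d : ℤ) + 1) inferInstance (by omega) χ,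
      Functor.map_zero] at hχ
    rw [← cancel_epi ((shiftFunctorCompIsoId (Dual.D R) (s - d - 1) (-(s - d - 1)) (by omega)).hom.app K),
      ← hχ, comp_zero]
  exact DCat.ProjAmp.eq_zero_of_rep P (s - d - 1 + 1) b hP hPp e
    (fun i hi => DerivedCategory.isZero_of_isLE L t i (by omega)) φ

end Groth.Agent.DRingLib
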