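import Groth.Agent.DCat.LTensorModule
import Groth.Agent.Tor15.TorDim
import Mathlib.CategoryTheory.Abelian.Projective.Extend

/-! Finite tor dimension of modules as flat amplitude. -/

set_option autoImplicit false
set_option backward.isDefEq.respectTransparency false
set_option backward.defeqAttrib.useBackward true
set_option linter.style.haveILetI false

universe u

open CategoryTheory CategoryTheory.Limits MonoidalCategory
attribute [local instance] HasDerivedCategory.standard

namespace Groth.Agent.DRingLib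

variable {A : Type u} [CommRing A]

lemma exact_rTensor_of_flat_coker {F₂ F₁ F₀ Z : Type u} [AddCommGroup F₂] [Module A F₂] [AddCommGroup F₁]
    [Module A F₁] [AddCommGroup F₀] [Module A F₀] [AddCommGroup Z] [Module A Z] [Module.Flat A Z]
    (a : F₂ →ₗ[A] F₁) (b : F₁ →ₗ[A] F₀) (c : F₀ →ₗ[A] Z) (hc : Function.Surjective c)
    (hab : Function.Exact a b) (hbc : Function.Exact b c) (N : Type u) [AddCommGroup N] [Module A N] :
    Function.Exact (a.rTensor N) (b.rTensor N) := by
  have hr : Function.Exact a b.rangeRestrict := by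
    rw [LinearMap.exact_iff, LinearMap.ker_rangeRestrict]
    exact LinearMap.exact_iff.1 hab
  have h1 := rTensor_exact N hr b.surjective_rangeRestrict
  have hbc' : Function.Exact (LinearMap.range b).subtype c := by
    rw [LinearMap.exact_iff, Submodule.range_subtype]
    exact LinearMap.exact_iff.1 hbc
  have h2 : Function.Injective ((LinearMap.range b).subtype.rTensor N) := by
    rw [← LinearMap.lTensor_inj_iff_rTensor_inj]
    exact DCat.lTensor_injective_of_flat_quotient N (Submodule.injective_subtype _) hc hbc'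
  rw [show b = (LinearMap.range b).subtype ∘ₗ b.rangeRestrict from rfl, LinearMap.rTensor_comp,
    LinearMap.coe_comp]
  exact h1.comp_injective _ h2 (map_zero _)

/-- A module of tor dimension `≤ d` has flat amplitude `[-(d+1), 0]`. -/
theorem amp_of_torDimLE {d : ℕ} (M : Type u) [AddCommGroup M] [Module A M] (h : DRing.HasTorDimLE A d M) :
    DRing.HasTorAmplitudeIn A (-((d + 1 : ℕ) : ℤ)) 0 (Dual.inD A M) := by
  haveI : ∀ N : ModuleCat.{u} A, DRing.HasLTensor A N := fun N => DCat.hasLTensor N
  let Pr := projectiveResolution (ModuleCat.of A M)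
  let P : DRing.Cx A := Pr.cochainComplex
  have hf : ∀ m, Module.Flat A (Pr.complex.X m) := fun m => by
    have : Module.Projective A (Pr.complex.X m) := (IsProjective.iff_projective _).2 (Pr.projective m)
    infer_instance
  have hPf : DRing.TermwiseFlat P := fun i => by
    have : Module.Projective A (P.X i) :=
      (IsProjective.iff_projective _).2 (inferInstanceAs (Projective (Pr.cochainComplex.X i)))
    infer_instance
  have hPb : DRing.VanishesAbove P 0 := fun i hi => CochainComplex.isZero_of_isStrictlyLE Pr.cochainComplex 0 i hi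
  let e : DRing.toD P ≅ Dual.inD A M := asIso (DerivedCategory.Q.map Pr.π') ≪≫
    ((DerivedCategory.singleFunctorIsoCompQ (ModuleCat.{u} A) 0).app (ModuleCat.of A M)).symm
  refine DCat.flatAmp_of_vanish fun N i hi => ?_
  rw [DCat.isZero_ltensor_iff N (DCat.isKFlatFor_of_vanishesAbove P 0 hPb hPf) e i]
  obtain hi | hi := hi
  swap
  · exact HomologicalComplex.ExactAt.of_isZero ((tensorRight N).map_isZero (hPb i hi))
  obtain ⟨m, hm, rfl⟩ : ∃ m : ℕ, d ≤ m ∧ i = -((m + 2 : ℕ) : ℤ) := ⟨(-i - 2).toNat, by omega, by omega⟩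
  let dd : ∀ k, Pr.complex.X (k + 1) →ₗ[A] Pr.complex.X k := fun k => (Pr.complex.d (k + 1) k).hom
  let q : Pr.complex.X 0 →ₗ[A] M := (Pr.π.f 0).hom
  have hd : ∀ k, LinearMap.range (dd (k + 1)) = LinearMap.ker (dd k) := fun k =>
    (Pr.exact_succ k).moduleCat_range_eq_ker
  haveI := hf
  haveI : Module.Flat A (LinearMap.range (dd m)) := Tor15.flat_range h (fun k => Pr.complex.X k) dd q
    ((ModuleCat.epi_iff_surjective (Pr.π.f 0)).1 inferInstance)
    ((ShortComplex.exact_of_g_is_cokernel (ShortComplex.mk _ _ Pr.complex_d_comp_π_f_zero)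
      Pr.isColimitCokernelCofork).moduleCat_range_eq_ker) hd m hm
  have key : Function.Exact ((dd (m + 2)).rTensor N) ((dd (m + 1)).rTensor N) :=
    exact_rTensor_of_flat_coker (dd (m + 2)) (dd (m + 1)) (dd m).rangeRestrict (dd m).surjective_rangeRestrict
      (LinearMap.exact_iff.2 (hd (m + 1)).symm)
      (LinearMap.exact_iff.2 (by rw [LinearMap.ker_rangeRestrict, hd])) N
  have hS : ((Pr.complex.sc' (m + 3) (m + 2) (m + 1)).map (tensorRight N)).Exact := by
    rw [ShortComplex.ShortExact.moduleCat_exact_iff_function_exact]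
    exact key
  rw [HomologicalComplex.exactAt_iff' (i := -((m + 3 : ℕ) : ℤ)) (j := -((m + 2 : ℕ) : ℤ))
    (k := -((m + 1 : ℕ) : ℤ)) _ (by simp; omega) (by simp; omega)]
  refine (ShortComplex.exact_iff_of_iso ((tensorRight N).mapShortComplex.mapIso
    (ShortComplex.isoMk (S₁ := Pr.cochainComplex.sc' (-((m + 3 : ℕ) : ℤ)) (-((m + 2 : ℕ) : ℤ)) (-((m + 1 : ℕ) : ℤ)))
      (S₂ := Pr.complex.sc' (m + 3) (m + 2) (m + 1))
      (Pr.cochainComplexXIso _ (m + 3)) (Pr.cochainComplexXIso _ (m + 2)) (Pr.cochainComplexXIso _ (m + 1))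
      ?_ ?_))).2 hS
  · show _ ≫ Pr.complex.d (m + 3) (m + 2) = Pr.cochainComplex.d _ _ ≫ _
    rw [Pr.cochainComplex_d _ _ (m + 3) (m + 2)]
    simp
  · show _ ≫ Pr.complex.d (m + 2) (m + 1) = Pr.cochainComplex.d _ _ ≫ _
    rw [Pr.cochainComplex_d _ _ (m + 2) (m + 1)]
    simp

end Groth.Agent.DRingLib
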