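import Groth.Agent.DCat.DTenAmp
import Groth.Agent.DCat.RHomCxProj
import Mathlib.RingTheory.Flat.Basic
import Mathlib.CategoryTheory.Triangulated.Triangulated

/-! Pseudo-coherent objects of the derived category of modules. -/

set_option autoImplicit false
set_option backward.isDefEq.respectTransparency false
set_option backward.defeqAttrib.useBackward true
set_option linter.style.haveILetI false

universe u

open CategoryTheory CategoryTheory.Limits HomologicalComplex CategoryTheory.Pretriangulated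
open scoped ZeroObject

attribute [local instance] HasDerivedCategory.standard

namespace Groth.Agent.DRingLib

open Groth.Agent.DCat

variable {R : Type u} [CommRing R]

/-- The cohomology functor. -/
noncomputable abbrev HF (R : Type u) [CommRing R] (i : ℤ) : Dual.D R ⥤ ModuleCat.{u} R :=
  DerivedCategory.homologyFunctor (ModuleCat.{u} R) i

/-- The cohomology of a complex, in the derived category. -/
noncomputable abbrev HQ (K : DRing.Cx R) (i : ℤ) :
    (HF R i).obj (DerivedCategory.Q.obj K) ≅ K.homology i :=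
  (DerivedCategory.homologyFunctorFactors (ModuleCat.{u} R) i).app K

lemma isLE_iff_HD (K : Dual.D R) (b : ℤ) : K.IsLE b ↔ ∀ i, b < i → Subsingleton (Dual.HD R K i) := by
  rw [DerivedCategory.isLE_iff]
  exact ⟨fun h i hi => ModuleCat.subsingleton_of_isZero (h i hi),
    fun h i hi => @ModuleCat.isZero_of_subsingleton _ _ _ (h i hi)⟩

lemma isGE_iff_HD (K : Dual.D R) (a : ℤ) : K.IsGE a ↔ ∀ i, i < a → Subsingleton (Dual.HD R K i) := by
  rw [DerivedCategory.isGE_iff]
  exact ⟨fun h i hi => ModuleCat.subsingleton_of_isZero (h i hi),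
    fun h i hi => @ModuleCat.isZero_of_subsingleton _ _ _ (h i hi)⟩

lemma finite_of_epi {M N : ModuleCat.{u} R} (f : M ⟶ N) [Epi f] (h : Module.Finite R M) : Module.Finite R N :=
  haveI := h
  Module.Finite.of_surjective f.hom ((ModuleCat.epi_iff_surjective f).1 inferInstance)

lemma finite_of_iso {M N : ModuleCat.{u} R} (e : M ≅ N) (h : Module.Finite R M) : Module.Finite R N :=
  finite_of_epi e.hom h

/-- A morphism inducing isomorphisms above `m` and an epimorphism in degree `m`. -/
def Apx (m : ℤ) {K L : Dual.D R} (f : K ⟶ L) : Prop :=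
  (∀ i, m < i → IsIso ((HF R i).map f)) ∧ Epi ((HF R m).map f)

lemma Apx.mono {m m' : ℤ} {K L : Dual.D R} {f : K ⟶ L} (h : Apx m f) (hm : m ≤ m') : Apx m' f := by
  refine ⟨fun i hi => h.1 i (by omega), ?_⟩
  rcases hm.lt_or_eq with hm | rfl
  · haveI := h.1 m' hm
    infer_instance
  · exact h.2

lemma apx_iff_isLE (m : ℤ) (T : Triangle (Dual.D R)) (hT : T ∈ distinguishedTriangles) :
    Apx m T.mor₁ ↔ T.obj₃.IsLE (m - 1) := by
  rw [DerivedCategory.isLE_iff]
  constructor
  · intro h i hi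
    have hz : (HF R i).map T.mor₂ = 0 := by
      rcases eq_or_lt_of_le (show m ≤ i by omega) with rfl | hi'
      · exact (DerivedCategory.HomologySequence.epi_homologyMap_mor₁_iff T hT m).1 h.2
      · exact (DerivedCategory.HomologySequence.epi_homologyMap_mor₁_iff T hT i).1 (by haveI := h.1 i hi'; infer_instance)
    haveI : Mono ((HF R (i + 1)).map T.mor₁) := by haveI := h.1 (i + 1) (by omega); infer_instance
    have hd := (DerivedCategory.HomologySequence.mono_homologyMap_mor₁_iff T hT i (i + 1) rfl).1 inferInstance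
    exact (DerivedCategory.HomologySequence.exact₃ T hT i (i + 1) rfl).isZero_of_both_zeros hz hd
  · intro h
    have he : ∀ i, m ≤ i → Epi ((HF R i).map T.mor₁) := fun i hi =>
      (DerivedCategory.HomologySequence.epi_homologyMap_mor₁_iff T hT i).2 ((h i (by omega)).eq_of_tgt _ _)
    refine ⟨fun i hi => ?_, he m le_rfl⟩
    haveI := he i (by omega)
    haveI : Mono ((HF R i).map T.mor₁) :=
      (DerivedCategory.HomologySequence.mono_homologyMap_mor₁_iff T hT (i - 1) i (by omega)).2
        ((h (i - 1) (by omega)).eq_of_src _ _)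
    exact isIso_of_mono_of_epi _

lemma apx_of_isIso (m : ℤ) {K L : Dual.D R} (f : K ⟶ L) [IsIso f] : Apx m f :=
  ⟨fun _ _ => inferInstance, inferInstance⟩

lemma Apx.comp {m : ℤ} {K L M : Dual.D R} {f : K ⟶ L} {g : L ⟶ M} (hf : Apx m f) (hg : Apx m g) :
    Apx m (f ≫ g) := by
  refine ⟨fun i hi => ?_, ?_⟩ <;> rw [Functor.map_comp]
  · haveI := hf.1 i hi
    haveI := hg.1 i hi
    infer_instance
  · haveI := hf.2
    haveI := hg.2
    infer_instance

lemma isLE_shift' (K : Dual.D R) (b n b' : ℤ) [K.IsLE b] (h : n + b' = b) : (K⟦n⟧).IsLE b' :=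
  DerivedCategory.TStructure.t.isLE_shift K b n b' h

/-- Lifting from bounded above complexes of projectives. -/
lemma exists_Q_map {P L : DRing.Cx R} [P.IsKProjective] (α : DerivedCategory.Q.obj P ⟶ DerivedCategory.Q.obj L) :
    ∃ f : P ⟶ L, DerivedCategory.Q.map f = α := by
  obtain ⟨f', hf⟩ := (CochainComplex.IsKProjective.Qh_map_bijective P _).2
    ((DerivedCategory.quotientCompQhIso (ModuleCat.{u} R)).hom.app _ ≫ α ≫
      (DerivedCategory.quotientCompQhIso (ModuleCat.{u} R)).inv.app L)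
  obtain ⟨f, rfl⟩ := (HomotopyCategory.quotient _ (ComplexShape.up ℤ)).map_surjective f'
  refine ⟨f, ?_⟩
  rw [← cancel_epi ((DerivedCategory.quotientCompQhIso (ModuleCat.{u} R)).hom.app P)]
  refine ((DerivedCategory.quotientCompQhIso (ModuleCat.{u} R)).hom.naturality f).symm.trans ?_
  exact (congrArg (· ≫ _) hf).trans (by simp)

lemma isKProjective_of_outside {P : DRing.Cx R} {a b : ℤ} (hP : DRing.VanishesOutside P a b)
    (hp : ∀ i, Module.Projective R (P.X i)) : P.IsKProjective :=
  isKProjective_of_vanishesAbove P b (fun i hi => hP i (Or.inr hi)) hp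

/-- Maps from projectives in degrees `≥ a` to objects in degrees `< a` vanish. -/
lemma hom_eq_zero_of_isLE {P : DRing.Cx R} {a b : ℤ} (hP : DRing.VanishesOutside P a b)
    (hp : ∀ i, Module.Projective R (P.X i)) {C : Dual.D R} (n : ℤ) (hn : n < a) [C.IsLE n]
    (x : DerivedCategory.Q.obj P ⟶ C) : x = 0 := by
  haveI := isKProjective_of_outside hP hp
  obtain ⟨L, hL, ⟨e⟩⟩ := C.exists_iso_Q_obj_of_isLE n
  obtain ⟨f, hf⟩ := exists_Q_map (x ≫ e.hom)
  have : f = 0 := by
    ext1 i
    by_cases hi : i < a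
    · exact (hP i (Or.inl hi)).eq_of_src _ _
    · exact ((CochainComplex.isStrictlyLE_iff L n).1 hL i (by omega)).eq_of_tgt _ _
  rw [← cancel_mono e.hom, ← hf, this, Functor.map_zero, zero_comp]

lemma free_zero {X : ModuleCat.{u} R} (h : IsZero X) : Module.Finite R X ∧ Module.Free R X :=
  haveI := ModuleCat.subsingleton_of_isZero h
  ⟨inferInstance, inferInstance⟩

lemma free_of_iso {X Y : ModuleCat.{u} R} (e : X ≅ Y) (h : Module.Finite R X ∧ Module.Free R X) :
    Module.Finite R Y ∧ Module.Free R Y :=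
  haveI := h.1
  haveI := h.2
  ⟨Module.Finite.equiv e.toLinearEquiv, Module.Free.of_equiv e.toLinearEquiv⟩

lemma projective_of_free {E : DRing.Cx R} (hE : DRing.TermwiseFiniteFree E) (i : ℤ) : Module.Projective R (E.X i) :=
  haveI := (hE i).2
  inferInstance

/-- The part in degrees `≥ m` of a bounded above complex of finite free modules. -/
lemma exists_sigma (E : DRing.Cx R) (hE : DRing.TermwiseFiniteFree E) (b : ℤ) (hb : DRing.VanishesAbove E b) (m : ℤ) :
    ∃ (P : DRing.Cx R) (ι : P ⟶ E), DRing.VanishesOutside P m b ∧ DRing.TermwiseFiniteFree P ∧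
      Apx m (DerivedCategory.Q.map ι) := by
  let e := ComplexShape.embeddingUpIntGE m
  let P := E.stupidTrunc e
  have hlt : ∀ n, n < m → IsZero (P.X n) := fun n hn => isZero_stupidTrunc_X E e n fun j hj => by
    simp [e, ComplexShape.embeddingUpIntGE] at hj
    omega
  let ι₀ : ∀ n, P.X n ⟶ E.X n := fun n => if h : m ≤ n then
    (E.stupidTruncXIso e (i := (n - m).toNat) (by simp [e, ComplexShape.embeddingUpIntGE]; omega)).hom else 0
  let ι : P ⟶ E :=
    { f := ι₀
      comm' := fun p q hpq => by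
        simp only [ComplexShape.up_Rel] at hpq
        by_cases hp : m ≤ p
        · have hq : m ≤ q := by omega
          simp only [ι₀, dif_pos hp, dif_pos hq, P, HomologicalComplex.stupidTrunc]
          rw [(E.restriction e).extend_d_eq e (i := (p - m).toNat) (j := (q - m).toNat)
            (by simp [e, ComplexShape.embeddingUpIntGE]; omega) (by simp [e, ComplexShape.embeddingUpIntGE]; omega)]
          simp [stupidTruncXIso]
          exact d_eqToHom E (by simp [e, ComplexShape.embeddingUpIntGE]; omega)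
            (by simp [e, ComplexShape.embeddingUpIntGE]; omega) _ _
        · exact (hlt p (by omega)).eq_of_src _ _ }
  have hιiso : ∀ n, m ≤ n → IsIso (ι.f n) := fun n hn => by
    simp only [ι, ι₀, dif_pos hn]
    infer_instance
  haveI : Mono ι := mono_of_mono_f _ fun n => by
    by_cases hn : m ≤ n
    · haveI := hιiso n hn
      infer_instance
    · exact ⟨fun g g' _ => (hlt n (by omega)).eq_of_tgt g g'⟩
  let S := ShortComplex.mk ι (cokernel.π ι) (cokernel.condition ι)
  have hS : S.ShortExact := { exact := ShortComplex.exact_cokernel _ }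
  refine ⟨P, ι, fun n hn => ?_, fun n => ?_, ?_⟩
  · rcases hn with hn | hn
    · exact hlt n hn
    · by_cases h : m ≤ n
      · haveI := hιiso n h
        exact (hb n hn).of_iso (asIso (ι.f n))
      · exact hlt n (by omega)
  · by_cases h : m ≤ n
    · haveI := hιiso n h
      exact free_of_iso (asIso (ι.f n)).symm (hE n)
    · exact free_zero (hlt n (by omega))
  · refine (apx_iff_isLE m _ (DerivedCategory.triangleOfSES_distinguished hS)).2
      (isLE_Q_of_vanishesAbove fun n hn => ?_)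
    haveI : IsIso ((HomologicalComplex.eval _ (ComplexShape.up ℤ) n).map ι) := hιiso n (by omega)
    exact IsZero.of_iso (isZero_cokernel_of_epi ((HomologicalComplex.eval _ (ComplexShape.up ℤ) n).map ι))
      (PreservesCokernel.iso (HomologicalComplex.eval _ (ComplexShape.up ℤ) n) ι)

lemma pc_iff (m : ℤ) (K : Dual.D R) : DRing.IsPseudoCoherent R m K ↔
    ∃ (E : DRing.Cx R) (a b : ℤ) (α : DRing.toD E ⟶ K), DRing.VanishesOutside E a b ∧
      DRing.TermwiseFiniteFree E ∧ Apx m α := Iff.rfl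

lemma pc_iso {m : ℤ} {K L : Dual.D R} (e : K ≅ L) (h : DRing.IsPseudoCoherent R m K) :
    DRing.IsPseudoCoherent R m L := by
  obtain ⟨E, a, b, α, hE, hf, hα⟩ := h
  exact ⟨E, a, b, α ≫ e.hom, hE, hf, Apx.comp hα (apx_of_isIso m e.hom)⟩

lemma pc_mono {m m' : ℤ} (hm : m ≤ m') {K : Dual.D R} (h : DRing.IsPseudoCoherent R m K) :
    DRing.IsPseudoCoherent R m' K := by
  obtain ⟨E, a, b, α, hE, hf, hα⟩ := h
  exact ⟨E, a, b, α, hE, hf, Apx.mono hα hm⟩

lemma pc_of_isLE {m n : ℤ} (hn : n < m) {K : Dual.D R} [K.IsLE n] : DRing.IsPseudoCoherent R m K := by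
  refine ⟨0, 0, 0, 0, fun i _ => (HomologicalComplex.eval _ _ i).map_isZero (isZero_zero _),
    fun i => free_zero ((HomologicalComplex.eval _ _ i).map_isZero (isZero_zero _)), fun i hi => ?_, ?_⟩
  · have h1 := DerivedCategory.isZero_of_isLE K n i (by omega)
    have h2 : IsZero ((HF R i).obj (DRing.toD (0 : DRing.Cx R))) :=
      Functor.map_isZero _ (DerivedCategory.Q.map_isZero (isZero_zero _))
    exact ⟨0, h2.eq_of_src _ _, h1.eq_of_src _ _⟩
  · exact ⟨fun g g' _ => (DerivedCategory.isZero_of_isLE K n m hn).eq_of_src g g'⟩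

lemma exists_eff {m : ℤ} {K : Dual.D R} (h : DRing.IsPseudoCoherent R m K) :
    ∃ (E : DRing.Cx R) (b : ℤ) (α : DRing.toD E ⟶ K), DRing.VanishesOutside E m b ∧
      DRing.TermwiseFiniteFree E ∧ Apx m α := by
  obtain ⟨E, a, b, α, hE, hf, hα⟩ := h
  obtain ⟨P, ι, hP, hPf, hι⟩ := exists_sigma E hf b (fun i hi => hE i (Or.inr hi)) m
  exact ⟨P, b, DerivedCategory.Q.map ι ≫ α, hP, hPf, Apx.comp hι hα⟩

lemma pc_of_pc' {K : Dual.D R} (h : DRing.IsPseudoCoherent' R K) (m : ℤ) : DRing.IsPseudoCoherent R m K := by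
  obtain ⟨E, b, hb, hf, ⟨e⟩⟩ := h
  obtain ⟨P, ι, hP, hPf, hι⟩ := exists_sigma E hf b hb m
  exact ⟨P, m, b, DerivedCategory.Q.map ι ≫ e.hom, hP, hPf, Apx.comp hι (apx_of_isIso m e.hom)⟩

lemma finite_free_shift {E : DRing.Cx R} {a b : ℤ} (hE : DRing.VanishesOutside E a b)
    (hf : DRing.TermwiseFiniteFree E) (n : ℤ) :
    DRing.VanishesOutside (E⟦n⟧) (a - n) (b - n) ∧ DRing.TermwiseFiniteFree (E⟦n⟧) :=
  ⟨fun i hi => (hE (i + n) (by omega)).of_iso (E.shiftFunctorObjXIso n i (i + n) rfl),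
    fun i => free_of_iso (E.shiftFunctorObjXIso n i (i + n) rfl).symm (hf (i + n))⟩

lemma pc_shift {m : ℤ} {K : Dual.D R} (h : DRing.IsPseudoCoherent R m K) (n m' : ℤ) (hm : n + m' = m) :
    DRing.IsPseudoCoherent R m' (K⟦n⟧) := by
  obtain ⟨E, a, b, α, hE, hf, hα⟩ := h
  obtain ⟨C, g, w, hT⟩ := distinguished_cocone_triangle α
  haveI : C.IsLE (m - 1) := (apx_iff_isLE m _ hT).1 hα
  have hT' := Triangle.shift_distinguished _ hT n
  haveI : (C⟦n⟧).IsLE (m' - 1) := isLE_shift' C (m - 1) n (m' - 1) (by omega)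
  exact ⟨E⟦n⟧, a - n, b - n, (DerivedCategory.Q.commShiftIso n).hom.app E ≫ _, (finite_free_shift hE hf n).1,
    (finite_free_shift hE hf n).2, Apx.comp (apx_of_isIso m' _) ((apx_iff_isLE m' _ hT').2 (isLE_shift' C (m - 1) n (m' - 1) (by omega)))⟩

lemma pc_shift_iff {m : ℤ} {K : Dual.D R} (n m' : ℤ) (hm : n + m' = m) :
    DRing.IsPseudoCoherent R m' (K⟦n⟧) ↔ DRing.IsPseudoCoherent R m K :=
  ⟨fun h => pc_iso ((shiftFunctorCompIsoId (Dual.D R) n (-n) (by omega)).app K) (pc_shift h (-n) m (by omega)),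
    fun h => pc_shift h n m' hm⟩

lemma finite_free_mappingCone {P Q : DRing.Cx R} (φ : P ⟶ Q) {a b a' b' : ℤ} (hP : DRing.VanishesOutside P a b)
    (hPf : DRing.TermwiseFiniteFree P) (hQ : DRing.VanishesOutside Q a' b') (hQf : DRing.TermwiseFiniteFree Q) :
    DRing.VanishesOutside (CochainComplex.mappingCone φ) (min (a - 1) a') (max (b - 1) b') ∧
      DRing.TermwiseFiniteFree (CochainComplex.mappingCone φ) := by
  have e : ∀ i : ℤ, Nonempty ((CochainComplex.mappingCone φ).X i ≅ ModuleCat.of R (P.X (i + 1) × Q.X i)) :=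
    fun i => ⟨(homotopyCofiber.XIsoBiprod φ i (i + 1) (by simp)) ≪≫ ModuleCat.biprodIsoProd _ _⟩
  refine ⟨fun i hi => ?_, fun i => ?_⟩
  · obtain ⟨e⟩ := e i
    haveI := ModuleCat.subsingleton_of_isZero (hP (i + 1) (by omega))
    haveI := ModuleCat.subsingleton_of_isZero (hQ i (by omega))
    exact IsZero.of_iso (@ModuleCat.isZero_of_subsingleton _ _ _ (inferInstanceAs (Subsingleton (P.X (i + 1) × Q.X i)))) e
  · obtain ⟨e⟩ := e i
    haveI := (hPf (i + 1)).1
    haveI := (hPf (i + 1)).2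
    haveI := (hQf i).1
    haveI := (hQf i).2
    exact free_of_iso e.symm ⟨inferInstanceAs (Module.Finite R (P.X (i + 1) × Q.X i)),
      inferInstanceAs (Module.Free R (P.X (i + 1) × Q.X i))⟩

/-- The third object of a triangle. -/
theorem pc_cone {T : Triangle (Dual.D R)} (hT : T ∈ distinguishedTriangles) {m : ℤ}
    (h₁ : DRing.IsPseudoCoherent R (m + 1) T.obj₁) (h₂ : DRing.IsPseudoCoherent R m T.obj₂) :
    DRing.IsPseudoCoherent R m T.obj₃ := by
  obtain ⟨P, b, α, hP, hPf, hα⟩ := exists_eff h₁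
  obtain ⟨Q, a', b', β, hQ, hQf, hβ⟩ := h₂
  obtain ⟨C₂, g₂, w₂, hT₂⟩ := distinguished_cocone_triangle β
  haveI : C₂.IsLE (m - 1) := (apx_iff_isLE m _ hT₂).1 hβ
  obtain ⟨ψ', hψ'⟩ := Triangle.coyoneda_exact₂ _ hT₂ (α ≫ T.mor₁)
    (hom_eq_zero_of_isLE (C := C₂) hP (projective_of_free hPf) (m - 1) (by omega) _)
  haveI := isKProjective_of_outside hP (projective_of_free hPf)
  obtain ⟨ψ, rfl⟩ := exists_Q_map ψ'
  obtain ⟨N, v, w, hN⟩ := distinguished_cocone_triangle (α ≫ T.mor₁)
  obtain ⟨C₁, g₁, w₁, hT₁⟩ := distinguished_cocone_triangle α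
  haveI hC₁ : C₁.IsLE m := by
    have := (apx_iff_isLE (m + 1) _ hT₁).1 hα
    rwa [add_sub_cancel_right] at this
  let O₁ := Triangulated.someOctahedron (rfl : DerivedCategory.Q.map ψ ≫ β = _)
    (DerivedCategory.mappingCone_triangle_distinguished ψ) hT₂
    (show Triangle.mk (DerivedCategory.Q.map ψ ≫ β) v w ∈ distinguishedTriangles from by
      have h := hN
      rw [show α ≫ T.mor₁ = DerivedCategory.Q.map ψ ≫ β from hψ'] at h
      exact h)
  let O₂ := Triangulated.someOctahedron (rfl : α ≫ T.mor₁ = _) hT₁ hT hN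
  have a₁ : Apx m O₁.m₁ := (apx_iff_isLE m _ O₁.mem).2 (by assumption)
  have hO₂ := rot_of_distTriang _ O₂.mem
  have a₂ : Apx m O₂.m₃ := (apx_iff_isLE m _ hO₂).2 (isLE_shift' C₁ m 1 (m - 1) (by omega))
  obtain ⟨hR, hRf⟩ := finite_free_mappingCone ψ hP hPf hQ hQf
  exact ⟨_, _, _, O₁.m₁ ≫ O₂.m₃, hR, hRf, Apx.comp a₁ a₂⟩

/-- The middle object of a triangle. -/
theorem pc_ext {T : Triangle (Dual.D R)} (hT : T ∈ distinguishedTriangles) {m : ℤ}
    (h₁ : DRing.IsPseudoCoherent R m T.obj₁) (h₃ : DRing.IsPseudoCoherent R m T.obj₃) :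
    DRing.IsPseudoCoherent R m T.obj₂ :=
  pc_cone (inv_rot_of_distTriang _ hT) (pc_shift h₃ (-1) (m + 1) (by omega)) h₁

/-- The first object of a triangle. -/
theorem pc_fibre {T : Triangle (Dual.D R)} (hT : T ∈ distinguishedTriangles) {m : ℤ}
    (h₂ : DRing.IsPseudoCoherent R (m + 1) T.obj₂) (h₃ : DRing.IsPseudoCoherent R m T.obj₃) :
    DRing.IsPseudoCoherent R (m + 1) T.obj₁ :=
  (pc_shift_iff 1 m (by omega)).1 (pc_cone (rot_of_distTriang _ hT) h₂ h₃)

lemma finite_homology_of_finite_cycles {P : DRing.Cx R} (i : ℤ)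
    (h : Module.Finite R (LinearMap.ker (P.d i (i + 1)).hom)) : Module.Finite R (P.homology i) := by
  have hsc : Module.Finite R (LinearMap.ker (P.sc' (i - 1) i (i + 1)).g.hom) := h
  have h1 : Module.Finite R ((P.sc' (i - 1) i (i + 1)).cycles) :=
    finite_of_iso (P.sc' (i - 1) i (i + 1)).moduleCatCyclesIso.symm hsc
  exact finite_of_iso (P.homologyIsoSc' (i - 1) i (i + 1) (by simp) (by simp)).symm
    (finite_of_epi (P.sc' (i - 1) i (i + 1)).homologyπ h1)

/-- Cycles in degrees where a bounded above complex of finite projectives is exact above. -/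
theorem finite_projective_cycles {P : DRing.Cx R} {b m : ℤ} (hb : DRing.VanishesAbove P b)
    (hP : DRing.TermwiseFiniteProjective P) (hex : ∀ i, m < i → P.ExactAt i) :
    Module.Finite R (LinearMap.ker (P.d m (m + 1)).hom) ∧ Module.Projective R (LinearMap.ker (P.d m (m + 1)).hom) := by
  suffices h : ∀ (k : ℕ) (j : ℤ), m ≤ j → b - j ≤ k →
      Module.Finite R (LinearMap.ker (P.d j (j + 1)).hom) ∧ Module.Projective R (LinearMap.ker (P.d j (j + 1)).hom) from
    h (b - m).toNat m le_rfl (by omega)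
  intro k
  induction k with
  | zero =>
    intro j _ hj
    haveI := (hP j).1
    haveI := (hP j).2
    have e : LinearMap.ker (P.d j (j + 1)).hom = ⊤ := by
      rw [(hb (j + 1) (by omega)).eq_of_tgt (P.d j (j + 1)) 0]
      exact LinearMap.ker_zero
    rw [e]
    exact ⟨inferInstance, Module.Projective.of_equiv Submodule.topEquiv.symm⟩
  | succ k ih =>
    intro j hmj hj
    obtain ⟨h1, h2⟩ := ih (j + 1) (by omega) (by omega)
    haveI := (hP j).1
    haveI := (hP j).2
    let f : P.X j →ₗ[R] LinearMap.ker (P.d (j + 1) (j + 1 + 1)).hom :=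
      (P.d j (j + 1)).hom.codRestrict _ fun x =>
        congrArg (fun g : P.X j ⟶ P.X (j + 1 + 1) => g.hom x) (P.d_comp_d j (j + 1) (j + 1 + 1))
    have hf : Function.Surjective f := fun ⟨z, hz⟩ => by
      have hx := hex (j + 1) (by omega)
      rw [P.exactAt_iff' j (j + 1) (j + 1 + 1) (by simp) (by simp), ShortComplex.moduleCat_exact_iff] at hx
      obtain ⟨x, hx⟩ := hx z hz
      exact ⟨x, Subtype.ext hx⟩
    obtain ⟨s, hs⟩ := Module.projective_lifting_property f LinearMap.id hf
    have hker : LinearMap.ker (P.d j (j + 1)).hom = LinearMap.ker f := (LinearMap.ker_codRestrict _ _ _).symm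
    let r : P.X j →ₗ[R] LinearMap.ker f := (LinearMap.id - s ∘ₗ f).codRestrict _ fun x => by
      have := congrArg (fun l => l (f x)) hs
      simp only [LinearMap.comp_apply, LinearMap.id_apply] at this
      simp [this]
    have hr : r ∘ₗ (LinearMap.ker f).subtype = LinearMap.id := by
      ext ⟨x, hx⟩
      simp [r, LinearMap.mem_ker.1 hx]
    rw [hker]
    exact ⟨Module.Finite.of_surjective r fun y => ⟨y.1, congrArg (fun l => l y) hr⟩,
      Module.Projective.of_split (LinearMap.ker f).subtype r hr⟩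

/-- Top cohomology of a pseudo-coherent object. -/
theorem finite_top {K : Dual.D R} {m : ℤ} (h : DRing.IsPseudoCoherent R m K) [K.IsLE m] :
    Module.Finite R ((HF R m).obj K) := by
  obtain ⟨E, a, b, α, hE, hf, hα⟩ := h
  haveI := hα.2
  refine finite_of_epi ((HF R m).map α) (finite_of_iso (HQ E m).symm (finite_homology_of_finite_cycles m ?_))
  refine (finite_projective_cycles (fun i hi => hE i (Or.inr hi))
    (fun i => ⟨(hf i).1, projective_of_free hf i⟩) fun i hi => ?_).1
  rw [HomologicalComplex.exactAt_iff_isZero_homology]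
  haveI := hα.1 i hi
  exact IsZero.of_iso (DerivedCategory.isZero_of_isLE K m i hi) ((HQ E i).symm ≪≫ asIso ((HF R i).map α))

/-- A finite free module in a single degree. -/
noncomputable abbrev freeAt (R : Type u) [CommRing R] (b : ℤ) (r : ℕ) : DRing.Cx R :=
  (HomologicalComplex.single (ModuleCat.{u} R) (ComplexShape.up ℤ) b).obj (ModuleCat.of R (Fin r → R))

lemma freeAt_finiteFree (b : ℤ) (r : ℕ) :
    DRing.VanishesOutside (freeAt R b r) b b ∧ DRing.TermwiseFiniteFree (freeAt R b r) := by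
  refine ⟨fun i hi => isZero_single_obj_X _ _ _ _ (by omega), fun i => ?_⟩
  by_cases hi : i = b
  · subst hi
    exact free_of_iso (singleObjXSelf (ComplexShape.up ℤ) i _).symm ⟨inferInstance, inferInstance⟩
  · exact free_zero (isZero_single_obj_X _ _ _ _ hi)

lemma pc_freeAt (b : ℤ) (r : ℕ) (m : ℤ) : DRing.IsPseudoCoherent R m (DRing.toD (freeAt R b r)) :=
  ⟨freeAt R b r, b, b, 𝟙 _, (freeAt_finiteFree b r).1, (freeAt_finiteFree b r).2, apx_of_isIso m (𝟙 _)⟩

/-- A free cover of a finite cohomology module. -/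
theorem exists_cover (K : Dual.D R) (b : ℤ) (h : Module.Finite R ((HF R b).obj K)) :
    ∃ (r : ℕ) (g : DRing.toD (freeAt R b r) ⟶ K), Epi ((HF R b).map g) := by
  haveI := h
  obtain ⟨L, ⟨e⟩⟩ : ∃ L, Nonempty (DerivedCategory.Q.obj L ≅ K) := ⟨_, ⟨DerivedCategory.Q.objObjPreimageIso K⟩⟩
  haveI := finite_of_iso ((HF R b).mapIso e.symm ≪≫ HQ L b) h
  obtain ⟨r, p, hp⟩ := Module.Finite.exists_fin' R (L.homology b)
  haveI : Projective (ModuleCat.of R (Fin r → R)) := (IsProjective.iff_projective (Fin r → R)).1 inferInstance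
  haveI : Epi (ModuleCat.ofHom p) := (ModuleCat.epi_iff_surjective _).2 hp
  let z := Projective.factorThru (ModuleCat.ofHom p) (L.homologyπ b)
  let f : freeAt R b r ⟶ L := mkHomFromSingle (z ≫ L.iCycles b) fun k _ => by simp
  refine ⟨r, DerivedCategory.Q.map f ≫ e.hom, ?_⟩
  have hf : Epi (homologyMap f b) := by
    refine @epi_of_epi _ _ _ _ _ ((freeAt R b r).homologyπ b) _ ?_
    rw [homologyπ_naturality]
    haveI : IsIso ((freeAt R b r).iCycles b) :=
      (freeAt R b r).isIso_iCycles b (b + 1) (by simp) (single_obj_d _ _ _ _ _)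
    have hc : (singleObjXSelf (ComplexShape.up ℤ) b (ModuleCat.of R (Fin r → R))).inv ≫
        inv ((freeAt R b r).iCycles b) ≫ cyclesMap f b = z := by
      rw [← cancel_mono (L.iCycles b)]
      simp [f]
    exact epi_of_epi_fac (show ((singleObjXSelf (ComplexShape.up ℤ) b (ModuleCat.of R (Fin r → R))).inv ≫
        inv ((freeAt R b r).iCycles b)) ≫ cyclesMap f b ≫ L.homologyπ b = ModuleCat.ofHom p by
      rw [Category.assoc, reassoc_of% hc]
      exact Projective.factorThru_comp _ _)
  haveI : Epi ((HF R b).map (DerivedCategory.Q.map f)) := by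
    haveI := hf
    have := NatIso.naturality_2 (DerivedCategory.homologyFunctorFactors (ModuleCat.{u} R) b) f
    dsimp at this
    rw [← this]
    infer_instance
  rw [Functor.map_comp]
  infer_instance

lemma retract_cone_isLE {K X C : Dual.D R} (r : Retract K X) {g : X ⟶ C} {w : C ⟶ X⟦(1 : ℤ)⟧}
    (hT : Triangle.mk (𝟙 X - r.r ≫ r.i) g w ∈ distinguishedTriangles) (b : ℤ) [K.IsLE b] : C.IsLE b := by
  have := (apx_iff_isLE (b + 1) _ hT).1 ?_
  · rwa [add_sub_cancel_right] at this
  have hiso : ∀ i, b < i → IsIso ((HF R i).map (𝟙 X - r.r ≫ r.i)) := fun i hi => by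
    rw [Functor.map_sub, CategoryTheory.Functor.map_id, Functor.map_comp,
      (DerivedCategory.isZero_of_isLE K b i hi).eq_of_tgt ((HF R i).map r.r) 0, zero_comp, sub_zero]
    infer_instance
  refine ⟨fun i hi => hiso i (by omega), ?_⟩
  haveI := hiso (b + 1) (by omega)
  exact (inferInstance : Epi ((HF R (b + 1)).map (𝟙 X - r.r ≫ r.i)))

/-- Retracts of pseudo-coherent objects. -/
theorem pc_retract {m : ℤ} {K X : Dual.D R} (r : Retract K X) (hX : DRing.IsPseudoCoherent R m X) :
    DRing.IsPseudoCoherent R m K := by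
  obtain ⟨E, a, c, α, hE, hf, hα⟩ := hX
  let b := max c m
  haveI hXle : X.IsLE b := by
    rw [DerivedCategory.isLE_iff]
    intro i hi
    haveI := hα.1 i (by omega)
    refine IsZero.of_iso ?_ ((asIso ((HF R i).map α)).symm ≪≫ HQ E i)
    rw [← HomologicalComplex.exactAt_iff_isZero_homology]
    exact ExactAt.of_isZero (hE i (Or.inr (by omega)))
  haveI hKle : K.IsLE b := by
    rw [DerivedCategory.isLE_iff]
    intro i hi
    rw [IsZero.iff_id_eq_zero, ← (HF R i).map_id, ← r.retract, Functor.map_comp,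
      (DerivedCategory.isZero_of_isLE X b i hi).eq_of_tgt ((HF R i).map r.i) 0, zero_comp]
  suffices h : ∀ (k : ℕ) (K X : Dual.D R), Retract K X → DRing.IsPseudoCoherent R m X → K.IsLE (m - 1 + k) →
      DRing.IsPseudoCoherent R m K from h (b - m + 1).toNat K X r ⟨E, a, c, α, hE, hf, hα⟩ (by
        rw [show m - 1 + ((b - m + 1).toNat : ℤ) = b by omega]
        exact hKle)
  intro k
  induction k with
  | zero =>
    intro K X _ _ hK
    haveI := hK
    exact pc_of_isLE (n := m - 1 + ((0 : ℕ) : ℤ)) (by omega)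
  | succ k ih =>
    intro K X r hX hK
    haveI := hK
    let b : ℤ := m - 1 + ((k + 1 : ℕ) : ℤ)
    have hb : m ≤ b := by simp only [b]; omega
    obtain ⟨C, g, w, hT⟩ := distinguished_cocone_triangle (𝟙 X - r.r ≫ r.i)
    have hC : DRing.IsPseudoCoherent R m C := pc_cone hT (pc_mono (by omega) hX) hX
    haveI hCle : C.IsLE b := retract_cone_isLE r hT b
    obtain ⟨r', hr'⟩ := Triangle.yoneda_exact₂ _ hT r.r (show (𝟙 X - r.r ≫ r.i) ≫ r.r = 0 by
      simp [Preadditive.sub_comp])
    haveI : Epi ((HF R b).map r.r) := (⟨(HF R b).map r.i, by rw [← Functor.map_comp, r.retract, CategoryTheory.Functor.map_id]⟩ :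
      SplitEpi ((HF R b).map r.r)).epi
    have hKfin : Module.Finite R ((HF R b).obj K) := by
      haveI : Epi ((HF R b).map r') := epi_of_epi_fac (show (HF R b).map g ≫ (HF R b).map r' = (HF R b).map r.r by
        rw [← Functor.map_comp]; exact congrArg (HF R b).map hr'.symm)
      exact finite_of_epi ((HF R b).map r') (finite_top (K := C) (pc_mono hb hC))
    obtain ⟨n, φ, hφ⟩ := exists_cover K b hKfin
    obtain ⟨K', gK, wK, hTK⟩ := distinguished_cocone_triangle φ
    obtain ⟨X', gX, wX, hTX⟩ := distinguished_cocone_triangle (φ ≫ r.i)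
    obtain ⟨u, hu1, hu2⟩ := complete_distinguished_triangle_morphism _ _ hTK hTX (𝟙 _) r.i (by simp)
    obtain ⟨v, hv1, hv2⟩ := complete_distinguished_triangle_morphism _ _ hTX hTK (𝟙 _) r.r (by simp [Category.assoc, r.retract])
    let τ : Triangle.mk φ gK wK ⟶ Triangle.mk φ gK wK :=
      { hom₁ := 𝟙 _
        hom₂ := 𝟙 _
        hom₃ := u ≫ v
        comm₁ := by simp
        comm₂ := by
          dsimp at hu1 hv1 ⊢
          rw [reassoc_of% hu1, hv1, ← Category.assoc, r.retract]
        comm₃ := by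
          dsimp at hu2 hv2 ⊢
          simp only [Category.assoc] at hu2 hv2 ⊢
          rw [← hv2]
          simpa using hu2 }
    haveI : IsIso (u ≫ v) := isIso₃_of_isIso₁₂ τ hTK hTK inferInstance inferInstance
    have hK' : DRing.IsPseudoCoherent R m K' := by
      refine ih K' X' ⟨u, v ≫ inv (u ≫ v), by rw [← Category.assoc, IsIso.hom_inv_id]⟩
        (pc_cone hTX (pc_freeAt b n (m + 1)) hX) ?_
      rw [show m - 1 + (k : ℤ) = b - 1 by simp only [b]; omega]
      refine (apx_iff_isLE b _ hTK).1 ⟨fun i hi => ?_, hφ⟩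
      refine ⟨0, IsZero.eq_of_src (IsZero.of_iso ?_ (HQ _ i)) _ _, (DerivedCategory.isZero_of_isLE K b i hi).eq_of_src _ _⟩
      rw [← HomologicalComplex.exactAt_iff_isZero_homology]
      exact ExactAt.of_isZero (isZero_single_obj_X _ _ _ _ (by omega))
    exact pc_ext hTK (pc_freeAt b n m) hK'

lemma pc_biprod_iff {m : ℤ} {K L : Dual.D R} [HasBinaryBiproduct K L] :
    DRing.IsPseudoCoherent R m (K ⊞ L) ↔ DRing.IsPseudoCoherent R m K ∧ DRing.IsPseudoCoherent R m L :=
  ⟨fun h => ⟨pc_retract ⟨biprod.inl, biprod.fst, biprod.inl_fst⟩ h, pc_retract ⟨biprod.inr, biprod.snd, biprod.inr_snd⟩ h⟩,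
    fun h => pc_ext (binaryBiproductTriangle_distinguished K L) h.1 h.2⟩

end Groth.Agent.DRingLib
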