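import Groth.Agent.DRingLib.KoszulFibre17
import Groth.Agent.DCat.FlatPull
import Mathlib.RingTheory.Localization.BaseChange

/-! Spreading out from a localisation: ideals, modules, exact base change. -/

set_option autoImplicit false
set_option backward.isDefEq.respectTransparency false
set_option backward.defeqAttrib.useBackward true
set_option linter.style.haveILetI false

universe u

open CategoryTheory CategoryTheory.Limits HomologicalComplex RingTheory.Sequence TensorProduct

namespace Groth.Agent.DRingLib.KS17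

variable {S T : Type u} [CommRing S] [CommRing T]

theorem preservesHomology_ext {φ : S →+* T} (hφ : φ.Flat) :
    (ModuleCat.extendScalars.{u, u, u} φ).PreservesHomology := by
  haveI : PreservesColimitsOfSize.{0, 0} (ModuleCat.extendScalars.{u, u, u} φ) :=
    (ModuleCat.extendRestrictScalarsAdj φ).leftAdjoint_preservesColimits
  haveI : (ModuleCat.extendScalars.{u, u, u} φ).PreservesMonomorphisms :=
    ⟨fun g _ => DCat.FlatPull.mono_extendScalars_of_flat φ hφ g⟩
  exact Functor.preservesHomology_of_preservesMonos_and_cokernels _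

variable (M : Submonoid S) (φ : S →+* T)

theorem isLocalization_toAlgebra [Algebra S T] [IsLocalization M T] :
    @IsLocalization S _ M T _ (algebraMap S T).toAlgebra := by
  refine @IsLocalization'.mk S _ M T _ (algebraMap S T).toAlgebra ?_
  exact (isLocalization_iff_isLocalizationMap M T).1 ‹_›

/-- The localisation functor. -/
noncomputable abbrev F {S T : Type u} [CommRing S] [CommRing T] (φ : S →+* T) :
    ModuleCat.{u} S ⥤ ModuleCat.{u} T := ModuleCat.extendScalars.{u, u, u} φ

variable (hloc : @IsLocalization S _ M T _ φ.toAlgebra)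

/-- A module killed by an element invertible in `T` becomes zero. -/
theorem isZero_of_killed (N : ModuleCat.{u} S) (t : S) (ht : IsUnit (φ t)) (h : ∀ n : N, t • n = 0) :
    IsZero ((F φ).obj N) := by
  letI := φ.toAlgebra
  refine @ModuleCat.isZero_of_subsingleton _ _ _ ?_
  refine ⟨fun a b => ?_⟩
  suffices ∀ z : TensorProduct S T N, z = 0 from (this a).trans (this b).symm
  intro z
  induction z using TensorProduct.induction_on with
  | zero => rfl
  | tmul x n =>
    obtain ⟨v, hv⟩ := ht
    have hx : x = t • (x * (↑v⁻¹ : T)) := by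
      rw [Algebra.smul_def]
      show x = φ t * _
      rw [← hv, mul_left_comm, Units.mul_inv, mul_one]
    rw [hx, TensorProduct.smul_tmul, h, TensorProduct.tmul_zero]
  | add a b ha hb => rw [ha, hb, add_zero]

include hloc in
/-- Conversely. -/
theorem exists_killer (N : ModuleCat.{u} S) [Module.Finite S N] (h : IsZero ((F φ).obj N)) :
    ∃ t ∈ M, ∀ n : N, t • n = 0 := by
  classical
  letI := φ.toAlgebra
  haveI := hloc
  haveI : IsLocalizedModule M (TensorProduct.mk S T N 1) :=
    (isLocalizedModule_iff_isBaseChange M T _).2 (TensorProduct.isBaseChange S N T)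
  haveI : Subsingleton (TensorProduct S T N) := ModuleCat.subsingleton_of_isZero h
  obtain ⟨s, hs⟩ := Module.Finite.fg_top (R := S) (M := N)
  have hk : ∀ n : N, ∃ t : M, t • n = 0 := fun n =>
    (IsLocalizedModule.eq_zero_iff M (TensorProduct.mk S T N 1)).1 (Subsingleton.elim _ _)
  choose t ht using hk
  refine ⟨∏ n ∈ s, (t n : S), Submonoid.prod_mem M fun n _ => (t n).2, fun n => ?_⟩
  have hn : n ∈ Submodule.span S (s : Set N) := hs ▸ Submodule.mem_top
  induction hn using Submodule.span_induction with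
  | mem x hx =>
    rw [← Finset.prod_erase_mul s _ hx, mul_smul]
    exact (congrArg _ (ht x)).trans (smul_zero _)
  | zero => rw [smul_zero]
  | add x y _ _ hx hy => rw [smul_add, hx, hy, add_zero]
  | smul r x _ hx => rw [smul_comm, hx, smul_zero]

include hloc in
/-- An isomorphism over `T` comes from a morphism, up to a unit. -/
theorem exists_map_isIso (N₁ N₂ : ModuleCat.{u} S) [Module.FinitePresentation S N₁]
    (e : (F φ).obj N₁ ≅ (F φ).obj N₂) : ∃ a : N₁ ⟶ N₂, IsIso ((F φ).map a) := by
  letI := φ.toAlgebra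
  haveI := hloc
  haveI : IsLocalizedModule M (TensorProduct.mk S T N₂ 1) :=
    (isLocalizedModule_iff_isBaseChange M T _).2 (TensorProduct.isBaseChange S N₂ T)
  let g : N₁ →ₗ[S] TensorProduct S T N₂ :=
    ((ModuleCat.extendRestrictScalarsAdj.{u, u, u} φ).homEquiv N₁ _ e.hom).hom
  obtain ⟨a, s, has⟩ := Module.FinitePresentation.exists_lift_of_isLocalizedModule M (TensorProduct.mk S T N₂ 1) g
  obtain ⟨v, hv⟩ := IsLocalization.map_units T s
  refine ⟨ModuleCat.ofHom a, ?_⟩
  have key : (F φ).map (ModuleCat.ofHom a) = (v : T) • e.hom := by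
    refine ModuleCat.ExtendScalars.hom_ext fun n => ?_
    refine (LinearMap.baseChange_tmul a 1 n).trans ((LinearMap.congr_fun has n).trans ?_)
    show (s : S) • g n = _
    rw [← algebraMap_smul T (s : S) (g n), ← hv]
    rfl
  suffices h : IsIso ((v : T) • e.hom) from key.symm ▸ h
  refine ⟨(↑v⁻¹ : T) • e.inv, ?_, ?_⟩
  · rw [Linear.comp_smul, Linear.smul_comp, smul_smul, Units.inv_mul, one_smul, e.hom_inv_id]
  · rw [Linear.comp_smul, Linear.smul_comp, smul_smul, Units.mul_inv, one_smul, e.inv_hom_id]

include hloc in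
/-- A morphism invertible over `T` is invertible over any localisation where a suitable element is a unit. -/
theorem exists_killer_map [IsNoetherianRing S] {N₁ N₂ : ModuleCat.{u} S} [Module.Finite S N₁] [Module.Finite S N₂]
    (hflat : φ.Flat) (a : N₁ ⟶ N₂) [IsIso ((F φ).map a)] :
    ∃ t ∈ M, ∀ (U : Type u) [CommRing U] (ψ : S →+* U), ψ.Flat → IsUnit (ψ t) →
      IsIso ((F ψ).map a) := by
  haveI := preservesHomology_ext hflat
  haveI := Functor.PreservesHomology.preservesKernel (F φ) a
  haveI := Functor.PreservesHomology.preservesCokernel (F φ) a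
  haveI : Module.Finite S (kernel a : ModuleCat.{u} S) :=
    Module.Finite.of_injective (kernel.ι a).hom ((ModuleCat.mono_iff_injective _).1 inferInstance)
  haveI : Module.Finite S (cokernel a : ModuleCat.{u} S) :=
    Module.Finite.of_surjective (cokernel.π a).hom ((ModuleCat.epi_iff_surjective _).1 inferInstance)
  have h1 : IsZero ((F φ).obj (kernel a)) :=
    (isZero_kernel_of_mono ((F φ).map a)).of_iso (PreservesKernel.iso (F φ) a)
  have h2 : IsZero ((F φ).obj (cokernel a)) :=
    (isZero_cokernel_of_epi ((F φ).map a)).of_iso (PreservesCokernel.iso (F φ) a)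
  obtain ⟨t₁, ht₁, hk₁⟩ := exists_killer M φ hloc (kernel a) h1
  obtain ⟨t₂, ht₂, hk₂⟩ := exists_killer M φ hloc (cokernel a) h2
  refine ⟨t₁ * t₂, mul_mem ht₁ ht₂, fun U _ ψ hU hu => ?_⟩
  rw [map_mul, IsUnit.mul_iff] at hu
  haveI := preservesHomology_ext hU
  haveI := Functor.PreservesHomology.preservesKernel (F ψ) a
  haveI := Functor.PreservesHomology.preservesCokernel (F ψ) a
  haveI : Mono ((F ψ).map a) := Preadditive.mono_of_kernel_zero
    (((isZero_of_killed ψ _ t₁ hu.1 hk₁).of_iso (PreservesKernel.iso (F ψ) a).symm).eq_of_src _ _)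
  haveI : Epi ((F ψ).map a) := Preadditive.epi_of_cokernel_zero
    (((isZero_of_killed ψ _ t₂ hu.2 hk₂).of_iso (PreservesCokernel.iso (F ψ) a).symm).eq_of_tgt _ _)
  exact isIso_of_mono_of_epi _

/-- Base change of a cyclic module. -/
theorem nonempty_quot_iso (I : Ideal S) :
    Nonempty ((F φ).obj (ModuleCat.of S (S ⧸ I)) ≅ ModuleCat.of T (T ⧸ I.map φ)) := by
  letI := φ.toAlgebra
  let e : (T ⧸ I.map φ) ≃ₗ[T] TensorProduct S T (S ⧸ I) :=
    (Algebra.TensorProduct.quotIdealMapEquivTensorQuot T I).toLinearEquiv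
  exact ⟨LinearEquiv.toModuleIso
    { (e.symm.toAddEquiv : ((F φ).obj (ModuleCat.of S (S ⧸ I)) : Type u) ≃+ (T ⧸ I.map φ)) with
      map_smul' := fun c z => e.symm.map_smul c z }⟩

/-- Colon ideals of a sequence regular at a prime are killed by one element. -/
theorem exists_colon_bound [IsNoetherianRing S] (q : Ideal S) [q.IsPrime] (L : List S)
    (hreg : IsWeaklyRegular (Localization.AtPrime q) (L.map (algebraMap S (Localization.AtPrime q)))) :
    ∃ t : S, t ∉ q ∧ ∀ (i : ℕ) (hi : i < L.length) (z : S),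
      L[i] * z ∈ Ideal.ofList (L.take i) → t * z ∈ Ideal.ofList (L.take i) := by
  classical
  rw [LCI15.isWeaklyRegular_iff_colon] at hreg
  have hK : ∀ i : Fin L.length, ∀ z : S, L[(i : ℕ)] * z ∈ Ideal.ofList (L.take i) →
      ∃ t : S, t ∉ q ∧ t * z ∈ Ideal.ofList (L.take i) := by
    intro i z hz
    have := hreg i (by simp) (algebraMap S (Localization.AtPrime q) z) (by
      rw [List.getElem_map, ← map_mul, ← List.map_take, ← Ideal.map_ofList]
      exact Ideal.mem_map_of_mem _ hz)
    rw [← List.map_take, ← Ideal.map_ofList,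
      IsLocalization.algebraMap_mem_map_algebraMap_iff q.primeCompl] at this
    exact this
  choose gen hgen using fun i : Fin L.length => (IsNoetherian.noetherian (R := S)
    (Submodule.comap (LinearMap.mulLeft S L[(i : ℕ)]) (Ideal.ofList (L.take i))) : Submodule.FG _)
  have hg : ∀ (i : Fin L.length) (z : S), z ∈ gen i → L[(i : ℕ)] * z ∈ Ideal.ofList (L.take i) := fun i z hz =>
    (hgen i).le (Submodule.subset_span hz)
  choose! t ht htz using fun (i : Fin L.length) (z : S) (hz : z ∈ gen i) => hK i z (hg i z hz)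
  refine ⟨∏ i, ∏ z ∈ gen i, t i z, fun h => ?_, fun i hi z hz => ?_⟩
  · obtain ⟨i, -, h⟩ := Ideal.IsPrime.prod_mem_iff.1 h
    obtain ⟨z, hz, h⟩ := Ideal.IsPrime.prod_mem_iff.1 h
    exact ht i z hz h
  · have hz' : z ∈ Submodule.span S (gen ⟨i, hi⟩ : Set S) := (hgen ⟨i, hi⟩).ge hz
    induction hz' using Submodule.span_induction with
    | mem w hw =>
      rw [← Finset.prod_erase_mul _ _ (Finset.mem_univ (⟨i, hi⟩ : Fin L.length)), mul_assoc,
        ← Finset.prod_erase_mul _ _ hw, mul_assoc]
      exact Ideal.mul_mem_left _ _ (Ideal.mul_mem_left _ _ (htz ⟨i, hi⟩ w hw))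
    | zero => simp
    | add x y hx hy h1 h2 =>
      rw [mul_add]
      exact add_mem (h1 ((hgen ⟨i, hi⟩).le hx)) (h2 ((hgen ⟨i, hi⟩).le hy))
    | smul c x hx h1 =>
      rw [smul_eq_mul, mul_left_comm]
      exact Ideal.mul_mem_left _ c (h1 ((hgen ⟨i, hi⟩).le hx))

/-- Regularity in a localisation from the bound on colon ideals. -/
theorem isWeaklyRegular_map [Algebra S T] (L : List S) (t : S) (ht : IsUnit (algebraMap S T t))
    (h : ∀ (i : ℕ) (hi : i < L.length) (z : S), L[i] * z ∈ Ideal.ofList (L.take i) → t * z ∈ Ideal.ofList (L.take i))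
    (M : Submonoid S) [IsLocalization M T] : IsWeaklyRegular T (L.map (algebraMap S T)) := by
  rw [LCI15.isWeaklyRegular_iff_colon]
  intro i hi z hz
  rw [List.length_map] at hi
  rw [List.getElem_map] at hz
  rw [← List.map_take, ← Ideal.map_ofList] at hz ⊢
  obtain ⟨r, w, rfl⟩ := IsLocalization.exists_mk'_eq M z
  rw [IsLocalization.mul_mk'_eq_mk'_of_mul, IsLocalization.mk'_mem_map_algebraMap_iff] at hz
  obtain ⟨v, hv, hvr⟩ := hz
  have h1 := Ideal.mem_map_of_mem (algebraMap S T) (h i hi (v * r) (by rwa [mul_left_comm]))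
  rw [map_mul, Ideal.unit_mul_mem_iff_mem _ ht, map_mul,
    Ideal.unit_mul_mem_iff_mem _ (IsLocalization.map_units T ⟨v, hv⟩)] at h1
  rw [← IsLocalization.mk'_spec T r w] at h1
  exact (Ideal.mul_unit_mem_iff_mem _ (IsLocalization.map_units T w)).1 h1

end Groth.Agent.DRingLib.KS17
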