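import Groth.Agent.DRingLib.PerfTerms
import Groth.Agent.DCat.LTensorModule
import Mathlib.CategoryTheory.Abelian.Projective.Dimension

/-! Tor amplitude from terms or cohomology; an induction principle along the cohomology objects. -/

set_option autoImplicit false
set_option backward.isDefEq.respectTransparency false
set_option backward.defeqAttrib.useBackward true
set_option linter.style.haveILetI false

universe u

open CategoryTheory CategoryTheory.Limits CategoryTheory.Pretriangulated HomologicalComplex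
open Groth.Agent.DCat
open scoped ZeroObject

attribute [local instance] HasDerivedCategory.standard

namespace Groth.Agent.DRingLib

variable {R : Type u} [CommRing R]

/-- A property closed under isomorphisms, zero objects and extensions holds for a cohomologically
bounded object once it holds for all its cohomology objects (placed in their degrees). -/
theorem homology_induction (P : Dual.D R → Prop) (hiso : ∀ {K L : Dual.D R}, (K ≅ L) → P K → P L)
    (hzero : ∀ {K : Dual.D R}, IsZero K → P K)
    (hext : ∀ {T : Triangle (Dual.D R)}, T ∈ distinguishedTriangles → P T.obj₁ → P T.obj₃ → P T.obj₂)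
    {K : Dual.D R} {a b : ℤ} (hG : K.IsGE a) (hL : K.IsLE b)
    (h : ∀ i, P ((DerivedCategory.singleFunctor (ModuleCat.{u} R) i).obj ((HF R i).obj K))) : P K := by
  suffices h' : ∀ (k : ℕ) (a : ℤ) (K : Dual.D R), K.IsGE a → K.IsLE (a - 1 + k) →
      (∀ i, P ((DerivedCategory.singleFunctor (ModuleCat.{u} R) i).obj ((HF R i).obj K))) → P K from
    h' (b - a + 1).toNat a K hG
      (@DerivedCategory.TStructure.t (ModuleCat.{u} R) _ _ _ |>.isLE_of_le K b _ (by omega)) h
  clear hG hL h K a b
  intro k
  induction k with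
  | zero =>
    intro a K hG hK _
    haveI := hK
    haveI := hG
    exact hzero ((IsZero.iff_id_eq_zero _).2
      ((@DerivedCategory.TStructure.t (ModuleCat.{u} R) _ _ _).zero (𝟙 K) (a - 1 + ((0 : ℕ) : ℤ)) a (by omega)))
  | succ k ih =>
    intro a K hG hK h
    haveI := hK
    haveI := hG
    let b : ℤ := a + k
    let t := @DerivedCategory.TStructure.t (ModuleCat.{u} R) _ _ _
    have hT := t.triangleLTGE_distinguished b K
    haveI h1 : ((t.truncLT b).obj K).IsLE (b - 1) := t.isLE_truncLT_obj K b (b - 1) (by omega)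
    haveI h3 : ((t.truncGE b).obj K).IsGE b := t.isGE_truncGE_obj K b b (by omega)
    haveI h3' : ((t.truncGE b).obj K).IsLE b := by
      rw [DerivedCategory.isLE_iff]
      intro j hj
      haveI : Epi ((HF R j).map ((t.truncGEπ b).app K)) :=
        (DerivedCategory.HomologySequence.epi_homologyMap_mor₂_iff _ hT j (j + 1) rfl).2
          ((DerivedCategory.isZero_of_isLE ((t.truncLT b).obj K) (b - 1) (j + 1) (by omega)).eq_of_tgt _ _)
      exact IsZero.of_epi ((HF R j).map ((t.truncGEπ b).app K))
        (DerivedCategory.isZero_of_isLE K (a - 1 + ((k + 1 : ℕ) : ℤ)) j (by omega))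
    haveI hlow : ∀ i, i < b → IsIso ((HF R i).map ((Triangulated.TStructure.triangleLTGE t b).obj K).mor₁) :=
      fun i hi => by
        haveI : (Triangulated.TStructure.triangleLTGE t b).obj K |>.obj₃.IsGE b := h3
        exact homology_iso_of_isGE₃ hT b i hi
    refine hext hT (ih a _ ?_ ?_ fun i => ?_) ?_
    · show ((t.truncLT b).obj K).IsGE a
      rw [DerivedCategory.isGE_iff]
      intro i hi
      haveI := hlow i (by omega)
      exact (DerivedCategory.isZero_of_isGE K a i hi).of_iso
        (asIso ((HF R i).map ((Triangulated.TStructure.triangleLTGE t b).obj K).mor₁))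
    · show ((t.truncLT b).obj K).IsLE _
      exact t.isLE_of_le _ (b - 1) _ (by omega)
    · by_cases hi : i < b
      · haveI := hlow i hi
        exact hiso ((DerivedCategory.singleFunctor (ModuleCat.{u} R) i).mapIso
          (asIso ((HF R i).map ((Triangulated.TStructure.triangleLTGE t b).obj K).mor₁)).symm) (h i)
      · have hz := DerivedCategory.isZero_of_isLE ((t.truncLT b).obj K) (b - 1) i (by omega)
        exact hzero ((DerivedCategory.singleFunctor (ModuleCat.{u} R) i).map_isZero hz)
    · haveI : Epi ((HF R b).map ((t.truncGEπ b).app K)) :=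
        (DerivedCategory.HomologySequence.epi_homologyMap_mor₂_iff _ hT b (b + 1) rfl).2
          ((DerivedCategory.isZero_of_isLE ((t.truncLT b).obj K) (b - 1) (b + 1) (by omega)).eq_of_tgt _ _)
      haveI : Mono ((HF R b).map ((t.truncGEπ b).app K)) :=
        (DerivedCategory.HomologySequence.mono_homologyMap_mor₂_iff _ hT b).2
          ((DerivedCategory.isZero_of_isLE ((t.truncLT b).obj K) (b - 1) b (by omega)).eq_of_src _ _)
      haveI := isIso_of_mono_of_epi ((HF R b).map ((t.truncGEπ b).app K))
      obtain ⟨M, ⟨eM⟩⟩ := DerivedCategory.exists_iso_singleFunctor_obj_of_isGE_of_isLE ((t.truncGE b).obj K) b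
      let e' : ((t.truncGE b).obj K) ≅ DerivedCategory.Q.obj
          ((HomologicalComplex.single (ModuleCat.{u} R) (ComplexShape.up ℤ) b).obj M) :=
        eM ≪≫ (DerivedCategory.singleFunctorIsoCompQ (ModuleCat.{u} R) b).app M
      let eH : M ≅ (HF R b).obj K :=
        (singleObjHomologySelfIso (ComplexShape.up ℤ) b M).symm ≪≫ (HQ _ b).symm ≪≫ (HF R b).mapIso e'.symm ≪≫
          (asIso ((HF R b).map ((t.truncGEπ b).app K))).symm
      exact hiso ((DerivedCategory.singleFunctor (ModuleCat.{u} R) b).mapIso eH.symm ≪≫ eM.symm) (h b)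

theorem amp_of_iso {a b : ℤ} {K L : Dual.D R} (e : K ≅ L) (h : DRing.HasTorAmplitudeIn R a b K) :
    DRing.HasTorAmplitudeIn R a b L := by
  obtain ⟨E, h1, h2, ⟨e'⟩⟩ := h
  exact ⟨E, h1, h2, ⟨e' ≪≫ e⟩⟩

theorem amp_of_isZero {a b : ℤ} {K : Dual.D R} (h : IsZero K) : DRing.HasTorAmplitudeIn R a b K :=
  ⟨0, fun i _ => (HomologicalComplex.eval _ _ i).map_isZero (isZero_zero _),
    fun i => by
      haveI : Subsingleton ((0 : DRing.Cx R).X i) :=
        ModuleCat.subsingleton_of_isZero ((HomologicalComplex.eval _ _ i).map_isZero (isZero_zero _))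
      infer_instance,
    ⟨(DerivedCategory.Q.map_isZero (isZero_zero _)).iso h⟩⟩

theorem amp_mono {a b a' b' : ℤ} {K : Dual.D R} (h : DRing.HasTorAmplitudeIn R a b K) (ha : a' ≤ a) (hb : b ≤ b') :
    DRing.HasTorAmplitudeIn R a' b' K := by
  obtain ⟨E, h1, h2, e⟩ := h
  exact ⟨E, fun i hi => h1 i (by omega), h2, e⟩

theorem amp_shift' {a b : ℤ} {K : Dual.D R} (h : DRing.HasTorAmplitudeIn R a b K) (n : ℤ) :
    DRing.HasTorAmplitudeIn R (a - n) (b - n) (K⟦n⟧) := by
  obtain ⟨E, hE, hf, ⟨e⟩⟩ := h
  exact ⟨E⟦n⟧, fun i hi => hE (i + n) (by omega), fun i => hf (i + n),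
    ⟨(DerivedCategory.Q.commShiftIso n).app E ≪≫ (shiftFunctor (Dual.D R) n).mapIso e⟩⟩

theorem amp_retract [∀ M : ModuleCat.{u} R, DRing.HasLTensor R M] {a b : ℤ} {K L : Dual.D R} (r : Retract K L)
    (h : DRing.HasTorAmplitudeIn R a b L) : DRing.HasTorAmplitudeIn R a b K :=
  flatAmp_of_vanish fun A i hi => by
    let r' := (r.map (DRing.LTensor R A)).map (HF R i)
    haveI : Epi r'.r := ⟨fun g g' e => by
      have := congrArg (fun t => r'.i ≫ t) e
      simpa only [← Category.assoc, r'.retract, Category.id_comp] using this⟩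
    exact IsZero.of_epi r'.r (vanish_of_flatAmp h A hi)

theorem amp_ext [∀ M : ModuleCat.{u} R, DRing.HasLTensor R M] {a b : ℤ} {T : Triangle (Dual.D R)}
    (hT : T ∈ distinguishedTriangles) (h₁ : DRing.HasTorAmplitudeIn R a b T.obj₁)
    (h₃ : DRing.HasTorAmplitudeIn R a b T.obj₃) : DRing.HasTorAmplitudeIn R a b T.obj₂ :=
  flatAmp_of_vanish fun A i hi => (ltensor_vanish hT A).2.1 i (vanish_of_flatAmp h₁ A hi) (vanish_of_flatAmp h₃ A hi)

theorem amp_single {a b n : ℤ} {X : ModuleCat.{u} R}
    (h : DRing.HasTorAmplitudeIn R (a - n) (b - n) (Dual.inD R X)) :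
    DRing.HasTorAmplitudeIn R a b (DerivedCategory.Q.obj
      ((HomologicalComplex.single (ModuleCat.{u} R) (ComplexShape.up ℤ) n).obj X)) :=
  amp_of_iso (singleIso n X) (amp_mono (amp_shift' h (-n)) (by omega) (by omega))

theorem amp_of_terms [∀ M : ModuleCat.{u} R, DRing.HasLTensor R M] {a b : ℤ} (K : DRing.Cx R) {c d : ℤ}
    (hcd : DRing.VanishesOutside K c d)
    (h : ∀ i, DRing.HasTorAmplitudeIn R (a - i) (b - i) (Dual.inD R (K.X i))) :
    DRing.HasTorAmplitudeIn R a b (DRing.toD K) :=
  bounded_induction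
    (fun E : DRing.Cx R => (∀ i, DRing.HasTorAmplitudeIn R (a - i) (b - i) (Dual.inD R (E.X i))) →
      DRing.HasTorAmplitudeIn R a b (DRing.toD E))
    (fun _ => True)
    (fun E hE _ => amp_of_isZero (DerivedCategory.Q.map_isZero hE))
    (fun _ _ => trivial) (fun _ _ _ _ => trivial)
    (fun n X _ hX => amp_single (amp_of_iso ((DerivedCategory.singleFunctor (ModuleCat.{u} R) 0).mapIso
      (singleObjXSelf (ComplexShape.up ℤ) n X)) (hX n)))
    (fun S hS h₁ h₃ hX => by
      refine amp_ext (DerivedCategory.triangleOfSES_distinguished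
        (shortExact_of_degreewise_shortExact _ fun k => ((hS k).some).shortExact)) ?_ ?_
      · exact h₁ fun i => amp_retract
          ((⟨S.f.f i, (hS i).some.r, (hS i).some.f_r⟩ : Retract _ _).map (DerivedCategory.singleFunctor (ModuleCat.{u} R) 0)) (hX i)
      · exact h₃ fun i => amp_retract
          ((⟨(hS i).some.s, S.g.f i, (hS i).some.s_g⟩ : Retract _ _).map (DerivedCategory.singleFunctor (ModuleCat.{u} R) 0)) (hX i))
    c (d + 1 - c).toNat K (fun n hn => hcd n (Or.inl hn)) (fun n hn => hcd n (Or.inr (by omega))) (fun _ => trivial) h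

theorem amp_of_homology [∀ M : ModuleCat.{u} R, DRing.HasLTensor R M] {a b : ℤ} {K : Dual.D R} {c d : ℤ}
    (hG : K.IsGE c) (hL : K.IsLE d)
    (h : ∀ i, DRing.HasTorAmplitudeIn R (a - i) (b - i) (Dual.inD R (Dual.HD R K i))) :
    DRing.HasTorAmplitudeIn R a b K :=
  homology_induction (DRing.HasTorAmplitudeIn R a b) amp_of_iso amp_of_isZero amp_ext hG hL fun i =>
    amp_of_iso ((DerivedCategory.singleFunctorIsoCompQ (ModuleCat.{u} R) i).app ((HF R i).obj K)).symm
      (amp_single (h i))

theorem isGE_of_subsingleton {K : Dual.D R} {c : ℤ} (h : ∀ i < c, Subsingleton (Dual.HD R K i)) : K.IsGE c := by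
  rw [DerivedCategory.isGE_iff]
  exact fun i hi => (subsingleton_HD_iff K i).1 (h i hi)

theorem isLE_of_subsingleton {K : Dual.D R} {d : ℤ} (h : ∀ i, d < i → Subsingleton (Dual.HD R K i)) : K.IsLE d := by
  rw [DerivedCategory.isLE_iff]
  exact fun i hi => (subsingleton_HD_iff K i).1 (h i hi)

theorem amp_of_pdim [∀ M : ModuleCat.{u} R, DRing.HasLTensor R M] : ∀ (d : ℕ) (X : ModuleCat.{u} R),
    HasProjectiveDimensionLT X (d + 1) → DRing.HasTorAmplitudeIn R (-(d : ℤ)) 0 (Dual.inD R X) := by
  intro d
  induction d with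
  | zero =>
    intro X hX
    haveI : Projective X := projective_iff_hasProjectiveDimensionLT_one.2 hX
    haveI : Module.Projective R X := (IsProjective.iff_projective X).2 inferInstance
    haveI : Module.Flat R X := Module.Flat.of_projective
    refine ⟨(HomologicalComplex.single (ModuleCat.{u} R) (ComplexShape.up ℤ) 0).obj X,
      fun i hi => isZero_single_obj_X _ _ _ _ (by omega), fun i => ?_,
      ⟨((DerivedCategory.singleFunctorIsoCompQ (ModuleCat.{u} R) 0).app X).symm⟩⟩
    by_cases hi : i = 0
    · subst hi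
      exact Module.Flat.of_linearEquiv (singleObjXSelf (ComplexShape.up ℤ) 0 X).toLinearEquiv
    · haveI := ModuleCat.subsingleton_of_isZero (isZero_single_obj_X (ComplexShape.up ℤ) 0 X i hi)
      infer_instance
  | succ d ih =>
    intro X hX
    let P := Projective.over X
    let S := ShortComplex.mk (kernel.ι (Projective.π X)) (Projective.π X) (kernel.condition _)
    have hS : S.ShortExact :=
      { exact := ShortComplex.exact_of_f_is_kernel _ (kernelIsKernel _) }
    haveI : HasProjectiveDimensionLT S.X₃ (d + 1 + 1) := hX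
    haveI : Projective S.X₂ := inferInstanceAs (Projective (Projective.over X))
    haveI hP1 : HasProjectiveDimensionLT S.X₂ 1 := projective_iff_hasProjectiveDimensionLT_one.1 inferInstance
    have hK : HasProjectiveDimensionLT S.X₁ (d + 1) :=
      hS.hasProjectiveDimensionLT_X₁ (d + 1) (hasProjectiveDimensionLT_of_ge S.X₂ 1 (d + 1) (by omega)) hX
    have hP : DRing.HasTorAmplitudeIn R (-(d : ℤ)) 0 (Dual.inD R S.X₂) :=
      ih _ (hasProjectiveDimensionLT_of_ge S.X₂ 1 (d + 1) (by omega))
    exact flatAmp_of_vanish fun A i hi => (ltensor_vanish hS.singleTriangle_distinguished A).1 i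
      (vanish_of_flatAmp hP A (by omega)) (vanish_of_flatAmp (ih _ hK) A (by omega))

end Groth.Agent.DRingLib
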