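import Groth.Agent.DRingLib.AmpTerms
import Groth.Agent.DRingLib.PCPerf
import Groth.Agent.DRingLib.PCDescent
import Mathlib.Algebra.Category.ModuleCat.Descent
import Mathlib.RingTheory.Flat.FaithfullyFlat.Basic
import Mathlib.RingTheory.Localization.Away.Basic

/-! Descent of finiteness conditions on complexes along jointly faithful flat ring maps. -/

set_option autoImplicit false
set_option backward.isDefEq.respectTransparency false
set_option backward.defeqAttrib.useBackward true
set_option linter.style.haveILetI false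

universe u

open CategoryTheory CategoryTheory.Limits CategoryTheory.Pretriangulated HomologicalComplex MonoidalCategory
open Groth.Agent.DCat

attribute [local instance] HasDerivedCategory.standard

namespace Groth.Agent.DRingLib

namespace Descent

variable {A : Type u} [CommRing A] {ι : Type} {B : ι → Type u} [∀ i, CommRing (B i)] (φ : ∀ i, A →+* B i)

/-- The base change functor. -/
noncomputable abbrev bc (i : ι) : ModuleCat.{u} A ⥤ ModuleCat.{u} (B i) :=
  ModuleCat.extendScalars.{u, u, u} (φ i)

/-- The family detects zero modules. -/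
def Faithful : Prop := ∀ M : ModuleCat.{u} A, (∀ i, IsZero ((bc φ i).obj M)) → IsZero M

variable {φ} (hfaith : Faithful φ)

include hfaith

lemma finite_descend [Finite ι] (M : ModuleCat.{u} A) (h : ∀ i, Module.Finite (B i) ((bc φ i).obj M)) :
    Module.Finite A M := by
  classical
  haveI := Fintype.ofFinite ι
  choose S hS using fun i => (h i).fg_top
  have key : ∀ (i : ι) (x : (bc φ i).obj M), ∃ T : Finset M, ∀ N : Submodule A M, (T : Set M) ⊆ N →
      ((bc φ i).map (ModuleCat.ofHom N.mkQ)).hom x = 0 := by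
    intro i x
    induction x using TensorProduct.induction_on with
    | zero => exact ⟨∅, fun N _ => map_zero _⟩
    | tmul s m =>
      refine ⟨{m}, fun N hN => ?_⟩
      erw [ModuleCat.ExtendScalars.map_tmul]
      have : N.mkQ m = 0 := (Submodule.Quotient.mk_eq_zero N).2 (hN (by simp))
      erw [this, TensorProduct.tmul_zero]
    | add x y hx hy =>
      obtain ⟨T, hT⟩ := hx
      obtain ⟨U, hU⟩ := hy
      refine ⟨T ∪ U, fun N hN => ?_⟩
      erw [map_add, hT N (fun a ha => hN (by simp at ha ⊢; exact Or.inl ha)),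
        hU N (fun a ha => hN (by simp at ha ⊢; exact Or.inr ha)), add_zero]
  choose T hT using key
  let U : Finset M := Finset.univ.biUnion fun i => (S i).biUnion (T i)
  let N : Submodule A M := Submodule.span A (U : Set M)
  suffices h0 : N = ⊤ from ⟨U, h0⟩
  rw [← Submodule.Quotient.subsingleton_iff]
  refine @ModuleCat.subsingleton_of_isZero A _ (ModuleCat.of A (M ⧸ N)) (hfaith _ fun i => ?_)
  let f : ModuleCat.of A M ⟶ ModuleCat.of A (M ⧸ N) := ModuleCat.ofHom N.mkQ
  haveI : Epi f := (ModuleCat.epi_iff_surjective _).2 N.mkQ_surjective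
  haveI : PreservesColimitsOfSize.{0, 0} (bc φ i) :=
    (ModuleCat.extendRestrictScalarsAdj.{u, u, u} (φ i)).leftAdjoint_preservesColimits
  have hker : LinearMap.ker ((bc φ i).map f).hom = ⊤ := top_le_iff.1 ((hS i).symm.le.trans
    (Submodule.span_le.2 fun x hx => hT i x N fun a ha => Submodule.subset_span (by
      simp only [U, Finset.coe_biUnion, Set.mem_iUnion]
      exact ⟨i, by simp, x, hx, ha⟩)))
  have hz : (bc φ i).map f = 0 := ModuleCat.hom_ext (LinearMap.ker_eq_top.1 hker)
  exact (IsZero.iff_id_eq_zero _).2 ((cancel_epi ((bc φ i).map f)).1 (by simp [hz]))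

variable (hflat : ∀ i, (φ i).Flat)
include hflat

omit hfaith in
lemma isExact (i : ι) : PreservesFiniteLimits (bc φ i) :=
  ModuleCat.preservesFiniteLimits_extendScalars_of_flat (hflat i)

omit hfaith in
lemma nonempty_HF_iso (i : ι) (P : DRing.Cx A) (j : ℤ) :
    Nonempty ((HF (B i) j).obj (DRing.toD (((bc φ i).mapHomologicalComplex (ComplexShape.up ℤ)).obj P)) ≅
      (bc φ i).obj ((HF A j).obj (DRing.toD P))) := by
  haveI := isExact hflat i
  haveI : PreservesFiniteColimits (bc φ i) :=
    haveI : PreservesColimitsOfSize.{0, 0} (bc φ i) :=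
      (ModuleCat.extendRestrictScalarsAdj.{u, u, u} (φ i)).leftAdjoint_preservesColimits
    inferInstance
  exact ⟨HQ _ j ≪≫ (P.sc j).mapHomologyIso (bc φ i) ≪≫ ((bc φ i).mapIso (HQ P j)).symm⟩

lemma isLE_descend (P : DRing.Cx A) (b : ℤ)
    (h : ∀ i, (DRing.toD (((bc φ i).mapHomologicalComplex (ComplexShape.up ℤ)).obj P)).IsLE b) :
    (DRing.toD P).IsLE b :=
  (DerivedCategory.isLE_iff _ b).2 fun j hj => hfaith _ fun i =>
    haveI := h i
    (DerivedCategory.isZero_of_isLE _ b j hj).of_iso (nonempty_HF_iso hflat i P j).some.symm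

theorem pc_descend [Finite ι] (m : ℤ) : ∀ (n : ℕ) (b : ℤ) (P : DRing.Cx A), (DRing.toD P).IsLE b → b < m + n →
    (∀ i, DRing.IsPseudoCoherent (B i) m (DRing.toD (((bc φ i).mapHomologicalComplex (ComplexShape.up ℤ)).obj P))) →
    DRing.IsPseudoCoherent A m (DRing.toD P) := by
  intro n
  induction n with
  | zero =>
    intro b P hP hb _
    haveI := hP
    exact pc_of_isLE (n := b) (by omega)
  | succ n ih =>
    intro b P hP hb h
    haveI := hP
    by_cases hbm : b < m
    · exact pc_of_isLE (n := b) hbm
    have hfin : Module.Finite A ((HF A b).obj (DRing.toD P)) := finite_descend hfaith _ fun i => by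
      haveI := isExact hflat i
      haveI : (DRing.toD (((bc φ i).mapHomologicalComplex (ComplexShape.up ℤ)).obj P)).IsLE b :=
        (DerivedCategory.isLE_iff _ b).2 fun j hj =>
          ((bc φ i).map_isZero (DerivedCategory.isZero_of_isLE (DRing.toD P) b j hj)).of_iso
            (nonempty_HF_iso hflat i P j).some
      exact finite_of_iso (nonempty_HF_iso hflat i P b).some (finite_top (m := b) (pc_mono (by omega) (h i)))
    obtain ⟨r, g, hg⟩ := exists_cover (DRing.toD P) b hfin
    obtain ⟨hFv, hFf⟩ := freeAt_finiteFree (R := A) b r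
    haveI := isKProjective_of_outside hFv (projective_of_free hFf)
    obtain ⟨ψ, rfl⟩ := exists_Q_map g
    have hC : (DRing.toD (CochainComplex.mappingCone ψ)).IsLE (b - 1) :=
      (apx_iff_isLE b _ (DerivedCategory.mappingCone_triangle_distinguished ψ)).1 ⟨fun i hi =>
        ⟨0, (isZero_hf_freeAt b r i (by omega)).eq_of_src _ _,
          (DerivedCategory.isZero_of_isLE (DRing.toD P) b i hi).eq_of_src _ _⟩, hg⟩
    have hCpc := ih (b - 1) _ hC (by omega) fun i => by
      let G := (bc φ i).mapHomologicalComplex (ComplexShape.up ℤ)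
      have h1 : DRing.IsPseudoCoherent (B i) (m + 1) (DRing.toD (G.obj (freeAt A b r))) :=
        ⟨_, b, b, 𝟙 _, fun j hj => (bc φ i).map_isZero (hFv j hj), finiteFree_ext (φ i) hFf, apx_of_isIso _ (𝟙 _)⟩
      haveI : (bc φ i).Additive := inferInstance
      exact pc_iso (DerivedCategory.Q.mapIso (CochainComplex.mappingCone.mapHomologicalComplexIso ψ (bc φ i)).symm)
        (pc_cone (DerivedCategory.mappingCone_triangle_distinguished (G.map ψ)) h1 (h i))
    exact pc_ext (DerivedCategory.mappingCone_triangle_distinguished ψ) (pc_freeAt b r m) hCpc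

theorem pc_descend_all [Finite ι] (m : ℤ) (P : DRing.Cx A)
    (h : ∀ i, DRing.IsPseudoCoherent (B i) m (DRing.toD (((bc φ i).mapHomologicalComplex (ComplexShape.up ℤ)).obj P))) :
    DRing.IsPseudoCoherent A m (DRing.toD P) := by
  choose E b α hE hEf hα using fun i => exists_eff (h i)
  obtain ⟨c, hc⟩ := (Set.finite_range b).bddAbove
  let c' := max c m
  have hle : (DRing.toD P).IsLE c' := isLE_descend hfaith hflat P c' fun i =>
    (DerivedCategory.isLE_iff _ c').2 fun j hj => by
      haveI := (hα i).1 j (by omega)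
      have hb : b i ≤ c := hc ⟨i, rfl⟩
      exact IsZero.of_iso (((exactAt_iff_isZero_homology _ _).1 (ExactAt.of_isZero (hE i j (Or.inr (by omega))))).of_iso
        (HQ (E i) j)) (asIso ((HF (B i) j).map (α i))).symm
  exact pc_descend hfaith hflat m (c' + 1 - m).toNat c' P hle (by omega) h

theorem pc'_descend [Finite ι] (P : DRing.Cx A)
    (h : ∀ i, DRing.IsPseudoCoherent' (B i) (DRing.toD (((bc φ i).mapHomologicalComplex (ComplexShape.up ℤ)).obj P))) :
    DRing.IsPseudoCoherent' A (DRing.toD P) :=
  pc'_of_forall fun m => pc_descend_all hfaith hflat m P fun i => pc_of_pc' (h i) m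

theorem amp_descend (P : DRing.Cx A) (a b : ℤ)
    (h : ∀ i, DRing.HasTorAmplitudeIn (B i) a b (DRing.toD (((bc φ i).mapHomologicalComplex (ComplexShape.up ℤ)).obj P))) :
    DRing.HasTorAmplitudeIn A a b (DRing.toD P) := by
  haveI : ∀ M : ModuleCat.{u} A, DRing.HasLTensor A M := fun M => DCat.hasLTensor M
  obtain ⟨Q, c, hQ, -, hc, -⟩ := DCat.exists_kflat P
  haveI := hc
  have eQ : DRing.toD Q ≅ DRing.toD P := asIso (DerivedCategory.Q.map c)
  refine flatAmp_of_vanish fun N j hj => ?_
  rw [isZero_ltensor_iff N hQ eQ j, exactAt_iff_isZero_homology]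
  refine hfaith _ fun i => ?_
  haveI : ∀ M : ModuleCat.{u} (B i), DRing.HasLTensor (B i) M := fun M => DCat.hasLTensor M
  haveI := DCat.hasLBaseChange (φ i)
  haveI := isExact hflat i
  let G := (bc φ i).mapHomologicalComplex (ComplexShape.up ℤ)
  haveI : IsIso (DerivedCategory.Q.map (G.map c)) := by
    haveI : PreservesColimitsOfSize.{0, 0} (bc φ i) :=
      (ModuleCat.extendRestrictScalarsAdj.{u, u, u} (φ i)).leftAdjoint_preservesColimits
    haveI : QuasiIso (G.map c) := inferInstance
    exact (DerivedCategory.isIso_Q_map_iff_quasiIso _ _).2 ‹_›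
  have hv := vanish_of_flatAmp (amp_of_iso
    ((asIso (DerivedCategory.Q.map (G.map c))).symm ≪≫ (DCat.lbaseChangeIso (φ i) hQ).symm ≪≫
      (DRing.LBaseChange (φ i)).mapIso eQ) (h i)) ((bc φ i).obj N) hj
  rw [DCat.isZero_ltensor_base_iff (φ i) hQ eQ] at hv
  let C := (ModuleCat.restrictScalars (φ i)).obj (ModuleCat.of (B i) (B i))
  haveI : PreservesFiniteLimits (tensorLeft C) := ModuleCat.preservesFiniteLimits_tensorLeft_of_ringHomFlat (hflat i)
  let e : tensorRight N ⋙ tensorLeft C ≅ tensorRight (C ⊗ N) :=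
    NatIso.ofComponents (fun X => (α_ C X N).symm ≪≫ whiskerRightIso (β_ C X) N ≪≫ α_ X C N) (fun {X Y} g => by
      dsimp
      rw [associator_inv_naturality_middle_assoc, ← comp_whiskerRight_assoc, BraidedCategory.braiding_naturality_right,
        comp_whiskerRight_assoc, associator_naturality_left]
      simp)
  let eC : C ⊗ N ≅ (ModuleCat.restrictScalars (φ i)).obj ((bc φ i).obj N) := Iso.refl _
  have h1 : (((tensorRight N ⋙ tensorLeft C).mapHomologicalComplex (ComplexShape.up ℤ)).obj Q).ExactAt j :=
    hv.of_iso ((NatIso.mapHomologicalComplex (e ≪≫ (MonoidalCategory.tensoringRight (ModuleCat.{u} A)).mapIso eC) _).app Q).symm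
  have h2 : IsZero ((tensorLeft C).obj ((DRing.tensorCx Q N).homology j)) :=
    ((exactAt_iff_isZero_homology _ _).1 h1).of_iso (((DRing.tensorCx Q N).sc j).mapHomologyIso (tensorLeft C)).symm
  haveI h3 := ModuleCat.subsingleton_of_isZero h2
  exact @ModuleCat.isZero_of_subsingleton (B i) _ ((bc φ i).obj ((DRing.tensorCx Q N).homology j)) h3

theorem perfect_descend [Finite ι] (P : DRing.Cx A)
    (h : ∀ i, DRing.IsPerfect (B i) (DRing.toD (((bc φ i).mapHomologicalComplex (ComplexShape.up ℤ)).obj P))) :
    DRing.IsPerfect A (DRing.toD P) := by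
  choose a b hab using fun i => hasTorAmplitude_of_perfect (h i)
  obtain ⟨a₀, ha⟩ := (Set.finite_range a).bddBelow
  obtain ⟨b₀, hb⟩ := (Set.finite_range b).bddAbove
  exact (perfect_iff _).2 ⟨pc'_descend hfaith hflat P fun i => pc'_of_perfect (h i), a₀, b₀,
    amp_descend hfaith hflat P a₀ b₀ fun i => amp_mono (hab i) (ha ⟨i, rfl⟩) (hb ⟨i, rfl⟩)⟩

end Descent

namespace Descent

variable {A : Type u} [CommRing A]

/-- A faithfully flat map is faithful. -/
lemma faithful_of_faithfullyFlat (R' : Type u) [CommRing R'] [Algebra A R'] [Module.FaithfullyFlat A R'] :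
    Faithful (fun _ : Unit => algebraMap A R') := fun M h => by
  let e : ((ModuleCat.restrictScalars (algebraMap A R')).obj (ModuleCat.of R' R')) ≃ₗ[A] R' :=
    { AddEquiv.refl R' with map_smul' := fun a x => (Algebra.smul_def a (show R' from x)).symm }
  haveI : Subsingleton (TensorProduct A ((ModuleCat.restrictScalars (algebraMap A R')).obj (ModuleCat.of R' R')) M) :=
    ModuleCat.subsingleton_of_isZero (h ())
  haveI : Subsingleton (TensorProduct A R' M) :=
    (TensorProduct.congr e (LinearEquiv.refl A M)).symm.toEquiv.subsingleton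
  haveI : Subsingleton M := (Module.FaithfullyFlat.subsingleton_tensorProduct_iff_right A R').1 ‹_›
  exact ModuleCat.isZero_of_subsingleton M

/-- Principal localizations covering the spectrum are faithful. -/
lemma faithful_of_away {r : ℕ} (f : Fin r → A) (hf : Ideal.span (Set.range f) = ⊤) :
    Faithful (fun i => algebraMap A (Localization.Away (f i))) := fun M h => by
  refine @ModuleCat.isZero_of_subsingleton A _ M (subsingleton_of_forall_eq 0 fun x => ?_)
  have key : ∀ i, ∃ n : ℕ, f i ^ n • x = 0 := fun i => by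
    let L := Localization.Away (f i)
    let e : ((ModuleCat.restrictScalars (algebraMap A L)).obj (ModuleCat.of L L)) ≃ₗ[A] L :=
      { AddEquiv.refl L with map_smul' := fun a x => (Algebra.smul_def a (show L from x)).symm }
    haveI : Subsingleton (TensorProduct A ((ModuleCat.restrictScalars (algebraMap A L)).obj (ModuleCat.of L L)) M) :=
      ModuleCat.subsingleton_of_isZero (h i)
    haveI : Subsingleton (TensorProduct A L M) :=
      (TensorProduct.congr e (LinearEquiv.refl A M)).symm.toEquiv.subsingleton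
    obtain ⟨⟨c, n, rfl⟩, hc⟩ := (IsLocalizedModule.eq_zero_iff (Submonoid.powers (f i)) (TensorProduct.mk A L M 1)).1
      (Subsingleton.elim (TensorProduct.mk A L M 1 x) 0)
    exact ⟨n, hc⟩
  choose n hn using key
  let J : Ideal A := LinearMap.ker (LinearMap.toSpanSingleton A M x)
  have htop : J.radical = ⊤ := top_le_iff.1 (hf.symm.le.trans
    (Ideal.span_le.2 (by rintro _ ⟨i, rfl⟩; exact ⟨n i, hn i⟩)))
  have h1 : (1 : A) ∈ J := by rw [Ideal.radical_eq_top.1 htop]; trivial
  simpa [J] using h1

end Descent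

end Groth.Agent.DRingLib
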