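import Groth.Agent.DRingLib.AmpTerms
import Groth.Agent.S6965

/-! Finite injective dimension from terms or cohomology. -/

set_option autoImplicit false
set_option backward.isDefEq.respectTransparency false
set_option backward.defeqAttrib.useBackward true
set_option linter.style.haveILetI false

universe u

open CategoryTheory CategoryTheory.Limits CategoryTheory.Pretriangulated HomologicalComplex
open Groth.Agent.DCat
open scoped ZeroObject

attribute [local instance] HasDerivedCategory.standard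

namespace Groth.Agent.DRingLib

variable {R : Type u} [CommRing R]

lemma injDim_iff (K : Dual.D R) : DRing.HasFiniteInjDim R K ↔ ∃ a b : ℤ,
    ∀ (N : Type u) [AddCommGroup N] [Module R N] (i : ℤ), (i < a ∨ b < i) →
      ∀ f : Dual.inD R N ⟶ K⟦i⟧, f = 0 := by
  refine exists_congr fun a => exists_congr fun b => ((S6965.result R K a b).out 0 1).trans ?_
  exact ⟨fun h N _ _ i hi f => @Subsingleton.elim _ (h N i hi) f 0,
    fun h N _ _ i hi => subsingleton_of_forall_eq 0 (h N i hi)⟩

theorem injDim_of_iso {K L : Dual.D R} (e : K ≅ L) (h : DRing.HasFiniteInjDim R K) : DRing.HasFiniteInjDim R L := by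
  obtain ⟨a, b, E, h1, h2, ⟨e'⟩⟩ := h
  exact ⟨a, b, E, h1, h2, ⟨e' ≪≫ e⟩⟩

theorem injDim_of_isZero {K : Dual.D R} (h : IsZero K) : DRing.HasFiniteInjDim R K :=
  (injDim_iff K).2 ⟨0, 0, fun _ _ _ i _ f => ((shiftFunctor (Dual.D R) i).map_isZero h).eq_of_tgt f 0⟩

theorem injDim_retract {K L : Dual.D R} (r : Retract K L) (h : DRing.HasFiniteInjDim R L) :
    DRing.HasFiniteInjDim R K := by
  obtain ⟨a, b, h⟩ := (injDim_iff L).1 h
  refine (injDim_iff K).2 ⟨a, b, fun N _ _ i hi f => ?_⟩
  have := h N i hi (f ≫ (r.map (shiftFunctor (Dual.D R) i)).i)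
  simpa [← Functor.map_comp] using congrArg (fun t => t ≫ (r.map (shiftFunctor (Dual.D R) i)).r) this

theorem injDim_ext {T : Triangle (Dual.D R)} (hT : T ∈ distinguishedTriangles)
    (h₁ : DRing.HasFiniteInjDim R T.obj₁) (h₃ : DRing.HasFiniteInjDim R T.obj₃) :
    DRing.HasFiniteInjDim R T.obj₂ := by
  obtain ⟨a, b, h₁⟩ := (injDim_iff _).1 h₁
  obtain ⟨c, d, h₃⟩ := (injDim_iff _).1 h₃
  refine (injDim_iff _).2 ⟨min a c, max b d, fun N _ _ i hi f => ?_⟩
  have hT' := Triangle.shift_distinguished T hT i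
  obtain ⟨g, hg⟩ := Triangle.coyoneda_exact₂ ((Triangle.shiftFunctor _ i).obj T) hT' f (h₃ N i (by omega) _)
  rw [hg, h₁ N i (by omega) g]
  simp

theorem injDim_shift {K : Dual.D R} (h : DRing.HasFiniteInjDim R K) (n : ℤ) : DRing.HasFiniteInjDim R (K⟦n⟧) := by
  obtain ⟨a, b, E, hE, hf, ⟨e⟩⟩ := h
  exact ⟨a - n, b - n, E⟦n⟧, fun i hi => hE (i + n) (by omega), fun i => hf (i + n),
    ⟨(DerivedCategory.Q.commShiftIso n).app E ≪≫ (shiftFunctor (Dual.D R) n).mapIso e⟩⟩

theorem injDim_of_homology {K : Dual.D R} {a b : ℤ} (hG : K.IsGE a) (hL : K.IsLE b)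
    (h : ∀ i, DRing.HasFiniteInjDim R (Dual.inD R (Dual.HD R K i))) : DRing.HasFiniteInjDim R K :=
  homology_induction (DRing.HasFiniteInjDim R) injDim_of_iso injDim_of_isZero injDim_ext hG hL fun i =>
    injDim_of_iso (singleIso i _ ≪≫ ((DerivedCategory.singleFunctorIsoCompQ (ModuleCat.{u} R) i).app ((HF R i).obj K)).symm)
      (injDim_shift (h i) (-i))

theorem injDim_of_terms (K : DRing.Cx R) {a b : ℤ} (hab : DRing.VanishesOutside K a b)
    (h : ∀ i, DRing.HasFiniteInjDim R (Dual.inD R (K.X i))) : DRing.HasFiniteInjDim R (DRing.toD K) :=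
  bounded_induction
    (fun E : DRing.Cx R => (∀ i, DRing.HasFiniteInjDim R (Dual.inD R (E.X i))) → DRing.HasFiniteInjDim R (DRing.toD E))
    (fun _ => True)
    (fun E hE _ => injDim_of_isZero (DerivedCategory.Q.map_isZero hE))
    (fun _ _ => trivial) (fun _ _ _ _ => trivial)
    (fun n X _ hX => injDim_of_iso (singleIso n X) (injDim_shift (injDim_of_iso
      ((DerivedCategory.singleFunctor (ModuleCat.{u} R) 0).mapIso (singleObjXSelf (ComplexShape.up ℤ) n X)) (hX n)) (-n)))
    (fun S hS h₁ h₃ hX => by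
      refine injDim_ext (DerivedCategory.triangleOfSES_distinguished
        (shortExact_of_degreewise_shortExact _ fun k => ((hS k).some).shortExact)) ?_ ?_
      · exact h₁ fun i => injDim_retract
          ((⟨S.f.f i, (hS i).some.r, (hS i).some.f_r⟩ : Retract _ _).map (DerivedCategory.singleFunctor (ModuleCat.{u} R) 0)) (hX i)
      · exact h₃ fun i => injDim_retract
          ((⟨(hS i).some.s, S.g.f i, (hS i).some.s_g⟩ : Retract _ _).map (DerivedCategory.singleFunctor (ModuleCat.{u} R) 0)) (hX i))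
    a (b + 1 - a).toNat K (fun n hn => hab n (Or.inl hn)) (fun n hn => hab n (Or.inr (by omega))) (fun _ => trivial) h

end Groth.Agent.DRingLib
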