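import Groth.Agent.DRingLib.LiftCx
import Groth.Agent.DRingLib.PCDescent
import Mathlib.Algebra.Category.ModuleCat.Projective
import Mathlib.Algebra.Category.ModuleCat.Biproducts
import Mathlib.LinearAlgebra.TensorProduct.Quotient

/-! Lifting complexes modulo an ideal. -/

set_option autoImplicit false
set_option backward.isDefEq.respectTransparency false
set_option backward.defeqAttrib.useBackward true
set_option linter.style.haveILetI false

universe u

open CategoryTheory CategoryTheory.Limits HomologicalComplex TensorProduct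
attribute [local instance] HasDerivedCategory.standard

namespace Groth.Agent.DRingLib

variable {R : Type u} [CommRing R] (I : Ideal R)

/-- Reduction modulo `I`. -/
noncomputable abbrev redF : ModuleCat.{u} R ⥤ ModuleCat.{u} (R ⧸ I) :=
  ModuleCat.extendScalars.{u, u, u} (Ideal.Quotient.mk I)

lemma unit_surjective (M : ModuleCat.{u} R) :
    Function.Surjective ((ModuleCat.extendRestrictScalarsAdj.{u, u, u} (Ideal.Quotient.mk I)).unit.app M).hom := by
  intro z
  induction z using TensorProduct.induction_on with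
  | zero => exact ⟨0, map_zero _⟩
  | tmul a x =>
    obtain ⟨r, rfl⟩ := Ideal.Quotient.mk_surjective a
    refine ⟨r • x, ?_⟩
    show (1 : R ⧸ I) ⊗ₜ[R] (r • x) = Ideal.Quotient.mk I r ⊗ₜ[R] x
    exact (TensorProduct.smul_tmul r (1 : R ⧸ I) x).symm.trans
      (congrArg (TensorProduct.tmul R · x) (show Ideal.Quotient.mk I r * 1 = Ideal.Quotient.mk I r from mul_one _))
  | add a b ha hb =>
    obtain ⟨u, hu⟩ := ha
    obtain ⟨v, hv⟩ := hb
    exact ⟨u + v, (map_add _ _ _).trans (congrArg₂ (· + ·) hu hv)⟩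

lemma sub_mem_of_tmul_eq {M : ModuleCat.{u} R} {x y : M}
    (h : (1 : R ⧸ I) ⊗ₜ[R] x = (1 : R ⧸ I) ⊗ₜ[R] y) : x - y ∈ I • (⊤ : Submodule R M) := by
  have h1 := congrArg (TensorProduct.quotTensorEquivQuotSMul M I) h
  rw [← (Ideal.Quotient.mk I).map_one, TensorProduct.quotTensorEquivQuotSMul_mk_tmul,
    TensorProduct.quotTensorEquivQuotSMul_mk_tmul, one_smul, one_smul] at h1
  exact (Submodule.Quotient.eq _).1 h1

/-- An `R/I`-linear identification with the tensor product gives one with `redF`. -/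
noncomputable def redIso (M : ModuleCat.{u} R) {N : ModuleCat.{u} (R ⧸ I)}
    (e : TensorProduct R (R ⧸ I) M ≃ₗ[R ⧸ I] N) : (redF I).obj M ≅ N :=
  LinearEquiv.toModuleIso
    { (e.toAddEquiv : ((redF I).obj M : Type u) ≃+ N) with
      map_smul' := fun a z => e.map_smul a z }

theorem liftData (Pc : ObjectProperty (ModuleCat.{u} R)) [Pc.IsClosedUnderIsomorphisms]
    (h1 : ∀ X : ModuleCat.{u} R, Pc X → Module.Projective R X)
    (h2 : ∀ X Y : ModuleCat.{u} R, Pc X → Pc (ModuleCat.of R (X × Y)) → Pc Y)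
    (h3 : ∀ (X Y : ModuleCat.{u} R) (f : X ⟶ Y), Pc X → Pc Y →
      LinearMap.range f.hom ⊔ I • (⊤ : Submodule R Y) = ⊤ → Function.Surjective f.hom) :
    LiftData (redF I) Pc where
  proj := fun {X} hX => (IsProjective.iff_projective (R := R) X).1 (h1 X hX)
  projF := fun {X} hX => (ModuleCat.extendRestrictScalarsAdj.{u, u, u} (Ideal.Quotient.mk I)).map_projective X
    ((IsProjective.iff_projective (R := R) X).1 (h1 X hX))
  full := fun {X Y} hX g => by
    let adj := ModuleCat.extendRestrictScalarsAdj.{u, u, u} (Ideal.Quotient.mk I)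
    haveI : Epi (adj.unit.app Y) := (ModuleCat.epi_iff_surjective _).2 (unit_surjective I Y)
    refine ⟨Projective.factorThru (adj.homEquiv X ((redF I).obj Y) g) (adj.unit.app Y), ?_⟩
    apply (adj.homEquiv X ((redF I).obj Y)).injective
    rw [Adjunction.homEquiv_unit, Adjunction.homEquiv_unit]
    refine (adj.unit.naturality _).symm.trans ?_
    exact (Projective.factorThru_comp (adj.homEquiv X ((redF I).obj Y) g) (adj.unit.app Y)).trans
      (adj.homEquiv_unit _ _ _)
  surj := fun {X Y} f hX hY hf => by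
    refine (ModuleCat.epi_iff_surjective f).2 (h3 X Y f hX hY (eq_top_iff.2 fun y _ => ?_))
    obtain ⟨z, hz⟩ := (ModuleCat.epi_iff_surjective _).1 hf
      (((ModuleCat.extendRestrictScalarsAdj.{u, u, u} (Ideal.Quotient.mk I)).unit.app Y).hom y)
    obtain ⟨x, rfl⟩ := unit_surjective I X z
    have h : (1 : R ⧸ I) ⊗ₜ[R] (f.hom x) = (1 : R ⧸ I) ⊗ₜ[R] y := hz
    refine Submodule.mem_sup.2 ⟨f.hom x, LinearMap.mem_range_self _ x, y - f.hom x,
      sub_mem_of_tmul_eq I h.symm, by abel⟩
  cancel := fun {X Y} hX hXY => h2 X Y hX (Pc.prop_of_iso (ModuleCat.biprodIsoProd X Y) hXY)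

/-- A bounded above complex of projectives has flat terms. -/
lemma termwiseFlat_of_projective {E : DRing.Cx R} (h : ∀ i, Module.Projective R (E.X i)) :
    DRing.TermwiseFlat E := fun i => by
  haveI := h i
  infer_instance

/-- Lifting a complex representing the derived reduction of `K`. -/
theorem exists_lift_mod [DRing.HasLBaseChange (Ideal.Quotient.mk I)]
    {Pc : ObjectProperty (ModuleCat.{u} R)} [Pc.IsClosedUnderIsomorphisms] (D : LiftData (redF I) Pc)
    (hsum : ∀ {X Y : ModuleCat.{u} R}, Pc X → Pc Y → Pc (X ⊞ Y)) (K : Dual.D R)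
    (Q : DRing.Cx R) (c : ℤ) (hQc : DRing.VanishesAbove Q c) (hQ : ∀ i, Pc (Q.X i)) (eQ : DRing.toD Q ≅ K)
    (E : DRing.Cx (R ⧸ I)) (b : ℤ) (hEb : DRing.VanishesAbove E b) (hl : ∀ i, Lifts (redF I) Pc (E.X i))
    (hE : DRing.toD E ≅ (DRing.LBaseChange (Ideal.Quotient.mk I)).obj K) :
    ∃ (P : DRing.Cx R) (b' : ℤ), DRing.VanishesAbove P b' ∧ (∀ i, Pc (P.X i)) ∧
      Nonempty (DRing.toD P ≅ K) ∧
      Nonempty ((((redF I).mapHomologicalComplex (ComplexShape.up ℤ)).obj P) ≅ E) := by
  let G := (redF I).mapHomologicalComplex (ComplexShape.up ℤ)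
  have hQf : DCat.IsKFlatFor (DCat.modT R) Q := DCat.isKFlatFor_of_vanishesAbove Q c hQc
    (termwiseFlat_of_projective fun i => (IsProjective.iff_projective (R := R) _).2 (D.proj (hQ i)))
  haveI := isKProjective_of_bound (G.obj Q) c (fun i hi => (redF I).map_isZero (hQc i hi))
    fun i => D.projF (hQ i)
  let θ : DerivedCategory.Q.obj (G.obj Q) ≅ DerivedCategory.Q.obj E :=
    (DCat.lbaseChangeIso (Ideal.Quotient.mk I) hQf).symm ≪≫
      (DRing.LBaseChange (Ideal.Quotient.mk I)).mapIso eQ ≪≫ hE.symm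
  obtain ⟨α, hα⟩ := exists_Q_map θ.hom
  haveI : QuasiIso α := (DerivedCategory.isIso_Q_map_iff_quasiIso (C := ModuleCat.{u} (R ⧸ I)) α).1 (by
    rw [hα]; infer_instance)
  obtain ⟨P, b', γ, hPb, hγ, hP, hPE⟩ := exists_lift D hsum Q c hQc hQ E b hEb hl α
  haveI := hγ
  exact ⟨P, b', hPb, hP, ⟨(asIso (DerivedCategory.Q.map γ)).symm ≪≫ eQ⟩, hPE⟩

end Groth.Agent.DRingLib
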