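import Groth.Agent.DRingLib.FibreExact
import Groth.Agent.DRingLib.LiftMod
import Groth.Agent.KZeroLib.KoszulPoint
import Groth.Agent.CommAlg6.KoszulFree
import Groth.Agent.CAlgSmall.InjModMaxFP
import Groth.Agent.LCI15.Conormal
import Mathlib.Algebra.Homology.DerivedCategory.FullyFaithful
import Mathlib.RingTheory.EssentialFiniteness

/-! Perfect complexes with Koszul fibre, and complexes exact outside degree zero. -/

set_option autoImplicit false
set_option backward.isDefEq.respectTransparency false
set_option backward.defeqAttrib.useBackward true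
set_option linter.style.haveILetI false

universe u

open CategoryTheory CategoryTheory.Limits HomologicalComplex RingTheory.Sequence TensorProduct
attribute [local instance] HasDerivedCategory.standard

namespace Groth.Agent.DRingLib.KF17

variable {A : Type u} [CommRing A]

theorem koszul_bounds (l : List A) (i : ℤ) :
    (Module.Free A ((Koszul.koszul A l).X i) ∧ Module.Finite A ((Koszul.koszul A l).X i)) ∧
      (i < -(l.length : ℤ) ∨ 0 < i → Subsingleton ((Koszul.koszul A l).X i)) := by
  rw [CommAlg6.KoszulFree.koszul_eq]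
  exact ⟨CommAlg6.KoszulFree.free_finite_X l i, Misc15.Koszul.subsingleton_X (ModuleCat.of A A) l i⟩

/-- In the top degree, cohomology is a quotient of the term. -/
theorem exists_topQuot (X : DRing.Cx A) (hX : IsZero (X.X 1)) :
    ∃ q : X.X 0 →ₗ[A] X.homology 0, Function.Surjective q ∧
      LinearMap.ker q = LinearMap.range (X.d (-1) 0).hom := by
  let S := X.sc' (-1) 0 1
  haveI := ModuleCat.subsingleton_of_isZero hX
  have hk : ∀ x : X.X 0, S.g.hom x = 0 := fun x => @Subsingleton.elim _ ‹_› _ _
  let eH : X.homology 0 ≅ _ :=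
    ShortComplex.homologyMapIso (X.isoSc' (-1) 0 1 (by simp) (by simp)) ≪≫ S.moduleCatHomologyIso
  let q₀ : X.X 0 →ₗ[A] LinearMap.ker S.g.hom := LinearMap.codRestrict _ LinearMap.id fun x => hk x
  have hq : Function.Surjective ((LinearMap.range S.moduleCatToCycles).mkQ ∘ₗ q₀) :=
    (Submodule.mkQ_surjective _).comp fun z => ⟨z.1, Subtype.ext rfl⟩
  refine ⟨eH.toLinearEquiv.symm.toLinearMap ∘ₗ ((LinearMap.range S.moduleCatToCycles).mkQ ∘ₗ q₀),
    eH.toLinearEquiv.symm.surjective.comp hq, ?_⟩
  ext x
  rw [LinearMap.mem_ker, LinearMap.comp_apply, LinearEquiv.coe_coe, LinearEquiv.map_eq_zero_iff]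
  refine (Submodule.Quotient.mk_eq_zero _).trans ⟨?_, ?_⟩
  · rintro ⟨y, hy⟩
    exact ⟨y, congrArg Subtype.val hy⟩
  · rintro ⟨y, hy⟩
    exact ⟨y, Subtype.ext hy⟩

theorem nonempty_HF_of_iso {K : Dual.D A} (X : DRing.Cx A) (e : DRing.toD X ≅ K) (i : ℤ) :
    Nonempty (X.homology i ≅ (HF A i).obj K) :=
  ⟨(HQ X i).symm ≪≫ (HF A i).mapIso e⟩

/-- An object with cohomology in degree zero only is that cohomology. -/
theorem nonempty_iso_single (X : DRing.Cx A) (h : ∀ i, i ≠ 0 → X.ExactAt i) :
    Nonempty (DerivedCategory.Q.obj X ≅ (DerivedCategory.singleFunctor (ModuleCat.{u} A) 0).obj (X.homology 0)) := by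
  have hz : ∀ i, i ≠ 0 → IsZero ((HF A i).obj (DerivedCategory.Q.obj X)) := fun i hi =>
    (DCat.isZero_homology_toD_iff X i).2 (h i hi)
  haveI : (DerivedCategory.Q.obj X).IsLE 0 := (DerivedCategory.isLE_iff _ _).2 fun i hi => hz i (by omega)
  haveI : (DerivedCategory.Q.obj X).IsGE 0 := (DerivedCategory.isGE_iff _ _).2 fun i hi => hz i (by omega)
  obtain ⟨Y, ⟨e⟩⟩ := DerivedCategory.exists_iso_singleFunctor_obj_of_isGE_of_isLE (DerivedCategory.Q.obj X) 0
  exact ⟨e ≪≫ (DerivedCategory.singleFunctor (ModuleCat.{u} A) 0).mapIso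
    (((DerivedCategory.singleFunctorCompHomologyFunctorIso (ModuleCat.{u} A) 0).app Y).symm ≪≫
      (HF A 0).mapIso e.symm ≪≫ HQ X 0)⟩

variable {R : Type u} [CommRing R] [IsLocalRing R] [IsLocalRing A] [Algebra R A] [IsLocalHom (algebraMap R A)]

/-- Exactness modulo the maximal ideal of the base gives exactness, with flat cokernel. -/
theorem exact_of_fibre (hA : CAlgX.IsEssFinitePresentation R A) {L M N : Type u}
    [AddCommGroup L] [Module A L] [Module.Finite A L] [AddCommGroup M] [Module A M] [Module.FinitePresentation A M]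
    [Module R M] [IsScalarTower R A M]
    [AddCommGroup N] [Module A N] [Module.FinitePresentation A N] [Module R N] [IsScalarTower R A N]
    [Module.Flat R N] (f : L →ₗ[A] M) (g : M →ₗ[A] N) (hfg : g ∘ₗ f = 0)
    (h : ∀ x, g x ∈ (IsLocalRing.maximalIdeal R).map (algebraMap R A) • (⊤ : Submodule A N) →
      x ∈ LinearMap.range f ⊔ (IsLocalRing.maximalIdeal R).map (algebraMap R A) • (⊤ : Submodule A M)) :
    (∀ x, g x = 0 → x ∈ LinearMap.range f) ∧ Module.Flat R (N ⧸ LinearMap.range g) := by
  let W := LinearMap.range f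
  have hW : W ≤ LinearMap.ker g := LinearMap.range_le_ker_iff.2 hfg
  haveI : Module.FinitePresentation A (M ⧸ W) :=
    Module.finitePresentation_of_surjective W.mkQ (Submodule.mkQ_surjective W)
      (by rw [Submodule.ker_mkQ, show W = (⊤ : Submodule A L).map f from LinearMap.range_eq_map f]; exact Module.Finite.fg_top.map f)
  have hr : LinearMap.range (W.liftQ g hW) = LinearMap.range g := Submodule.range_liftQ _ _ _
  have := CAlgSmall.InjModMaxFP.main hA (W.liftQ g hW) fun x hx => by
    obtain ⟨x, rfl⟩ := Submodule.mkQ_surjective W x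
    obtain ⟨a, ha, b, hb, rfl⟩ := Submodule.mem_sup.1 (h x hx)
    rw [map_add, show W.mkQ a = 0 from (Submodule.Quotient.mk_eq_zero W).2 ha, zero_add]
    exact Submodule.smul_top_le_comap_smul_top _ W.mkQ hb
  rw [hr] at this
  refine ⟨fun x hx => ?_, this.2⟩
  exact (Submodule.Quotient.mk_eq_zero W).1 (this.1 (hx.trans (map_zero _).symm))

/-- A sequence with regular fibre is regular, with flat quotient. -/
theorem regular_of_fibre (hA : CAlgX.IsEssFinitePresentation R A) [Module.Flat R A] (fs : List A)
    (hreg : IsWeaklyRegular (A ⧸ (IsLocalRing.maximalIdeal R).map (algebraMap R A))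
      (fs.map (Ideal.Quotient.mk ((IsLocalRing.maximalIdeal R).map (algebraMap R A))))) :
    IsWeaklyRegular A fs ∧ Module.Flat R (A ⧸ Ideal.ofList fs) := by
  set J := (IsLocalRing.maximalIdeal R).map (algebraMap R A) with hJ
  rw [LCI15.isWeaklyRegular_iff_colon] at hreg ⊢
  have key : ∀ i, i ≤ fs.length → Module.Flat R (A ⧸ Ideal.ofList (fs.take i)) ∧
      ∀ (hi : i < fs.length) (z : A), fs[i] * z ∈ Ideal.ofList (fs.take i) → z ∈ Ideal.ofList (fs.take i) := by
    have step : ∀ i, Module.Flat R (A ⧸ Ideal.ofList (fs.take i)) → ∀ hi : i < fs.length,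
        (∀ z : A, fs[i] * z ∈ Ideal.ofList (fs.take i) → z ∈ Ideal.ofList (fs.take i)) ∧
          Module.Flat R (A ⧸ Ideal.ofList (fs.take (i + 1))) := by
      intro i hf hi
      let I := Ideal.ofList (fs.take i)
      haveI := hf
      haveI : Module.FinitePresentation A (A ⧸ I) :=
        Module.finitePresentation_of_surjective I.mkQ (Submodule.mkQ_surjective _)
          (by rw [Submodule.ker_mkQ]; exact Submodule.fg_span (List.finite_toSet _))
      let u : (A ⧸ I) →ₗ[A] (A ⧸ I) := fs[i] • LinearMap.id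
      have hu := CAlgSmall.InjModMaxFP.main hA u fun x hx => by
        obtain ⟨x, rfl⟩ := Submodule.mkQ_surjective I x
        have hmem : ∀ y : A, I.mkQ y ∈ J • (⊤ : Submodule A (A ⧸ I)) ↔ y ∈ I ⊔ J := fun y => by
          rw [show J • (⊤ : Submodule A (A ⧸ I)) = (J • (⊤ : Submodule A A)).map I.mkQ by
              rw [Submodule.map_smul'', Submodule.map_top, Submodule.range_mkQ], ← Submodule.mem_comap,
            Submodule.comap_map_mkQ, smul_eq_mul, Ideal.mul_top]
        change I.mkQ (fs[i] * x) ∈ _ at hx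
        rw [hmem] at hx ⊢
        have h2 := hreg i (by simpa using hi) (Ideal.Quotient.mk J x) (by
          rw [List.getElem_map, ← map_mul, ← List.map_take, ← Ideal.map_ofList]
          obtain ⟨a, ha, b, hb, hab⟩ := Submodule.mem_sup.1 hx
          rw [← hab, map_add, Ideal.Quotient.eq_zero_iff_mem.2 hb, add_zero]
          exact Ideal.mem_map_of_mem _ ha)
        rw [← List.map_take, ← Ideal.map_ofList, Ideal.mem_map_iff_of_surjective _ Ideal.Quotient.mk_surjective] at h2
        obtain ⟨a, ha, hax⟩ := h2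
        have := Submodule.add_mem_sup ha (Ideal.Quotient.eq.1 hax.symm)
        rwa [add_sub_cancel] at this
      refine ⟨fun z hz => ?_, ?_⟩
      · exact (Submodule.Quotient.mk_eq_zero I).1 (hu.1 (((Submodule.Quotient.mk_eq_zero I).2 hz : u (I.mkQ z) = 0).trans (map_zero u).symm))
      · let φ := (LinearMap.range u).mkQ ∘ₗ I.mkQ
        have hker : LinearMap.ker φ = Ideal.ofList (fs.take (i + 1)) := by
          rw [LinearMap.ker_comp, Submodule.ker_mkQ]
          have hr : LinearMap.range u = Submodule.map I.mkQ (Ideal.span {fs[i]} : Submodule A A) := by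
            ext y
            constructor
            · rintro ⟨x, rfl⟩
              obtain ⟨x, rfl⟩ := Submodule.mkQ_surjective I x
              exact ⟨fs[i] * x, Ideal.mul_mem_right _ _ (Ideal.mem_span_singleton_self _), rfl⟩
            · rintro ⟨x, hx, rfl⟩
              obtain ⟨c, rfl⟩ := Ideal.mem_span_singleton'.1 hx
              exact ⟨I.mkQ c, show I.mkQ (fs[i] * c) = _ by rw [mul_comm]⟩
          rw [hr, Submodule.comap_map_mkQ, List.take_succ_eq_append_getElem hi, Ideal.ofList_append,
            Ideal.ofList_singleton]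
        haveI := hu.2
        exact Module.Flat.of_linearEquiv (((Submodule.quotEquivOfEq _ _ hker.symm).trans
          (φ.quotKerEquivOfSurjective ((Submodule.mkQ_surjective _).comp (Submodule.mkQ_surjective _)))).restrictScalars R)
    intro i
    induction i with
    | zero =>
      intro _
      have h0 : Module.Flat R (A ⧸ Ideal.ofList (fs.take 0)) :=
        Module.Flat.of_linearEquiv
          ((Submodule.quotEquivOfEqBot (Ideal.ofList (fs.take 0)) (by simp)).restrictScalars R)
      exact ⟨h0, fun hi => (step 0 h0 hi).1⟩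
    | succ i ih =>
      intro hi
      have h0 := (step i (ih (by omega)).1 (by omega)).2
      exact ⟨h0, fun hi' => (step (i + 1) h0 hi').1⟩
  refine ⟨fun i hi => (key i hi.le).2 hi, ?_⟩
  have := (key fs.length le_rfl).1
  rwa [List.take_length] at this

/-- A surjection onto a flat module, injective modulo the maximal ideal of the base, is injective. -/
theorem eq_ofList_of_flat (hA : CAlgX.IsEssFinitePresentation R A) (I : Ideal A) (hI : I.FG)
    [Module.Flat R (A ⧸ I)] (fs : List A) (hfs : Ideal.ofList fs ≤ I)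
    (h : I ≤ Ideal.ofList fs ⊔ (IsLocalRing.maximalIdeal R).map (algebraMap R A)) : Ideal.ofList fs = I := by
  haveI : Module.FinitePresentation A (A ⧸ I) :=
    Module.finitePresentation_of_surjective I.mkQ (Submodule.mkQ_surjective _) (by rw [Submodule.ker_mkQ]; exact hI)
  haveI : Module.FinitePresentation A (A ⧸ Ideal.ofList fs) :=
    Module.finitePresentation_of_surjective (Ideal.ofList fs).mkQ (Submodule.mkQ_surjective _)
      (by rw [Submodule.ker_mkQ]; exact Submodule.fg_span (List.finite_toSet _))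
  set J := (IsLocalRing.maximalIdeal R).map (algebraMap R A)
  have hmem : ∀ (K : Ideal A) (y : A), K.mkQ y ∈ J • (⊤ : Submodule A (A ⧸ K)) ↔ y ∈ K ⊔ J := fun K y => by
    rw [show J • (⊤ : Submodule A (A ⧸ K)) = (J • (⊤ : Submodule A A)).map K.mkQ by
        rw [Submodule.map_smul'', Submodule.map_top, Submodule.range_mkQ], ← Submodule.mem_comap,
      Submodule.comap_map_mkQ, smul_eq_mul, Ideal.mul_top]
  have hu := CAlgSmall.InjModMaxFP.main hA (Submodule.factor hfs) fun x hx => by
    obtain ⟨x, rfl⟩ := Submodule.mkQ_surjective _ x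
    change I.mkQ x ∈ _ at hx
    rw [hmem] at hx ⊢
    exact sup_le h le_sup_right hx
  refine le_antisymm hfs fun x hx => (Submodule.Quotient.mk_eq_zero (Ideal.ofList fs)).1 (hu.1 ?_)
  rw [map_zero]
  exact (Submodule.Quotient.mk_eq_zero I).2 hx

omit [IsLocalRing A] [IsLocalHom (algebraMap R A)] in
theorem isNoetherianRing_fibre (hA : CAlgX.IsEssFinitePresentation R A) :
    IsNoetherianRing (A ⧸ (IsLocalRing.maximalIdeal R).map (algebraMap R A)) := by
  obtain ⟨S₀, _, _, _, _, M, hfp, hloc⟩ := hA
  haveI := hfp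
  haveI : Algebra.EssFiniteType S₀ A := Algebra.EssFiniteType.of_isLocalization A M
  haveI : Algebra.EssFiniteType R A := Algebra.EssFiniteType.comp R S₀ A
  set J := (IsLocalRing.maximalIdeal R).map (algebraMap R A)
  haveI : Algebra.EssFiniteType R (A ⧸ J) := Algebra.EssFiniteType.comp R A (A ⧸ J)
  letI : Algebra (R ⧸ IsLocalRing.maximalIdeal R) (A ⧸ J) :=
    (Ideal.quotientMap J (algebraMap R A) Ideal.le_comap_map).toAlgebra
  haveI : IsScalarTower R (R ⧸ IsLocalRing.maximalIdeal R) (A ⧸ J) := IsScalarTower.of_algebraMap_eq fun _ => rfl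
  haveI : Algebra.EssFiniteType (R ⧸ IsLocalRing.maximalIdeal R) (A ⧸ J) :=
    Algebra.EssFiniteType.of_comp R _ _
  letI : Field (R ⧸ IsLocalRing.maximalIdeal R) := Ideal.Quotient.field _
  exact Algebra.EssFiniteType.isNoetherianRing (R ⧸ IsLocalRing.maximalIdeal R) (A ⧸ J)

end Groth.Agent.DRingLib.KF17
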