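import Groth.Agent.DRingLib.PCBase
import Groth.Agent.DerCompLib.Koszul
import Groth.Agent.DCat.ModGen
import Groth.Prelude.Def_Koszul
import Mathlib.Algebra.Homology.ShortComplex.Linear

/-!
# Maps out of Koszul complexes in `D(A)`
-/

set_option autoImplicit false
set_option backward.isDefEq.respectTransparency false
set_option backward.defeqAttrib.useBackward true
set_option linter.style.haveILetI false
set_option linter.unusedSectionVars false

universe u

open CategoryTheory CategoryTheory.Limits HomologicalComplex CategoryTheory.Pretriangulated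

attribute [local instance] HasDerivedCategory.standard

namespace Groth.Agent.DRingLib.KosHom

variable {A : Type u} [CommRing A]

/-- The Koszul object. -/
noncomputable abbrev K (l : List A) : Dual.D A := DerivedCategory.Q.obj (Koszul.koszul A l)

/-- The homology functor. -/
noncomputable abbrev H (A : Type u) [CommRing A] (i : ℤ) : Dual.D A ⥤ ModuleCat.{u} A :=
  DerivedCategory.homologyFunctor (ModuleCat.{u} A) i

local notation "𝕥" => (DerivedCategory.TStructure.t : CategoryTheory.Triangulated.TStructure (Dual.D A))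

theorem map_smul_id (f : A) (M : Dual.D A) (i : ℤ) : (H A i).map (f • 𝟙 M) = f • 𝟙 ((H A i).obj M) := by
  let C := DerivedCategory.Q.objPreimage M
  let e : DerivedCategory.Q.obj C ≅ M := DerivedCategory.Q.objObjPreimageIso M
  let η := DerivedCategory.homologyFunctorFactors (ModuleCat.{u} A) i
  have h1 : f • 𝟙 M = e.inv ≫ DerivedCategory.Q.map (f • 𝟙 C) ≫ e.hom := by
    rw [Functor.map_smul, CategoryTheory.Functor.map_id, Linear.smul_comp, Linear.comp_smul, Category.id_comp,
      Iso.inv_hom_id]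
  have h2 : (H A i).map (DerivedCategory.Q.map (f • 𝟙 C)) = f • 𝟙 _ := by
    have hn := η.hom.naturality (f • 𝟙 C)
    dsimp at hn
    rw [← cancel_mono (η.hom.app C), hn, Linear.smul_comp, Category.id_comp]
    rw [show homologyMap (f • 𝟙 C) i = f • 𝟙 (C.homology i) from by
      rw [← homologyMap_id C i]
      exact ShortComplex.homologyMap_smul ((shortComplexFunctor (ModuleCat.{u} A) _ i).map (𝟙 C)) f]
    rw [Linear.comp_smul, Category.comp_id]
  rw [h1, Functor.map_comp, Functor.map_comp, h2, Linear.smul_comp, Linear.comp_smul, Category.id_comp,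
    ← Functor.map_comp, Iso.inv_hom_id, CategoryTheory.Functor.map_id]

theorem map_smul {M N : Dual.D A} (f : A) (φ : M ⟶ N) (i : ℤ) : (H A i).map (f • φ) = f • (H A i).map φ := by
  rw [← Category.id_comp φ, ← Linear.smul_comp, Functor.map_comp, map_smul_id, Linear.smul_comp, Category.id_comp,
    Category.id_comp]

/-- The triangle of a Koszul step. -/
theorem exists_triangle (f : A) (l : List A) : ∃ (ι : K l ⟶ K (f :: l)) (δ : K (f :: l) ⟶ (K l)⟦(1 : ℤ)⟧),
    Triangle.mk (f • 𝟙 (K l)) ι δ ∈ distTriang (Dual.D A) := by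
  let T := DerCompLib.smulTri f (Koszul.koszul A l)
  have hT : T ∈ distTriang _ :=
      (DerivedCategory.mem_distTriang_iff _).2 ⟨_, _, f • 𝟙 _, ⟨Iso.refl _⟩⟩
  have h1 : T.mor₁ = f • 𝟙 (K l) := DerCompLib.smulTri_mor₁ f
  refine ⟨T.mor₂, T.mor₃, ?_⟩
  rw [← h1]
  exact hT

theorem isLE_K : ∀ l : List A, (K l).IsLE 0
  | [] => (inferInstance : ((DerivedCategory.singleFunctor (ModuleCat.{u} A) 0).obj (ModuleCat.of A A)).IsLE 0)
  | f :: l => by
    obtain ⟨ι, δ, hT⟩ := exists_triangle f l
    haveI := isLE_K l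
    haveI : ((K l)⟦(1 : ℤ)⟧).IsLE (-1) := (𝕥).isLE_shift (K l) 0 1 (-1) (by ring)
    exact (𝕥).isLE₂ _ (rot_of_distTriang _ hT) 0 (isLE_K l)
      ((𝕥).isLE_of_le ((K l)⟦(1 : ℤ)⟧) (-1) 0 (by omega))

/-- Maps out of `A` are detected on homology. -/
theorem eq_zero_of_homology {M : Dual.D A} (x : K ([] : List A) ⟶ M) (hx : (H A 0).map x = 0) : x = 0 := by
  have hnone : ∀ (Y : Dual.D A), Y.IsLE (-1) → ∀ y : K ([] : List A) ⟶ Y, y = 0 := fun Y hY y => by
    haveI := hY
    exact hom_eq_zero_of_isLE (P := Koszul.koszul A ([] : List A)) (a := 0) (b := 0)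
      (fun i hi => isZero_single_obj_X (ComplexShape.up ℤ) 0 _ i (by omega))
      (projective_of_free (E := Koszul.koszul A ([] : List A)) fun i => by
        by_cases hi : i = 0
        · subst hi
          exact free_of_iso (X := ModuleCat.of A A) (singleObjXSelf (ComplexShape.up ℤ) 0 _).symm
            ⟨Module.Finite.self A, Module.Free.self A⟩
        · exact free_zero (isZero_single_obj_X _ _ _ _ hi))
      (-1) (by omega) y
  -- truncate above
  let M' := ((𝕥).truncGE 0).obj M
  have hT := (𝕥).triangleLTGE_distinguished 0 M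
  suffices h : x ≫ ((𝕥).truncGEπ 0).app M = 0 by
    obtain ⟨z, hz⟩ := Triangle.coyoneda_exact₂ _ hT x h
    rw [hz, hnone _ ((𝕥).isLE_truncLT_obj _ _ _ (by omega)) z, zero_comp]
  generalize hy : x ≫ ((𝕥).truncGEπ 0).app M = y
  have hy0 : (H A 0).map y = 0 := by rw [← hy, Functor.map_comp, hx, zero_comp]
  have hT' := (𝕥).triangleLTGE_distinguished 1 M'
  haveI : (K ([] : List A)).IsLE 0 := isLE_K _
  obtain ⟨z, hz⟩ := Triangle.coyoneda_exact₂ _ hT' y ((𝕥).zero _ 0 1 (by omega))
  let W := ((𝕥).truncLT 1).obj M'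
  haveI : W.IsLE 0 := (𝕥).isLE_truncLT_obj _ _ _ (by omega)
  haveI : W.IsGE 0 := inferInstance
  obtain ⟨N, ⟨e⟩⟩ := DerivedCategory.exists_iso_singleFunctor_obj_of_isGE_of_isLE W 0
  have hm : Mono ((H A 0).map (((𝕥).triangleLTGE 1).obj M').mor₁) :=
    (DerivedCategory.HomologySequence.mono_homologyMap_mor₁_iff _ hT' (-1) 0 (by omega)).2
      ((DerivedCategory.isZero_of_isGE (((𝕥).truncGE 1).obj M') 1 (-1) (by omega)).eq_of_src _ _)
  have hz0 : (H A 0).map z = 0 := by
    rw [← cancel_mono ((H A 0).map (((𝕥).triangleLTGE 1).obj M').mor₁), zero_comp, ← Functor.map_comp, ← hz, hy0]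
  have h0 : z = 0 := by
    rw [← cancel_mono e.hom, zero_comp]
    obtain ⟨g, hg⟩ := (DerivedCategory.singleFunctor (ModuleCat.{u} A) 0).map_surjective
      (show (DerivedCategory.singleFunctor (ModuleCat.{u} A) 0).obj (ModuleCat.of A A) ⟶ _ from z ≫ e.hom)
    have hg0 : (H A 0).map ((DerivedCategory.singleFunctor (ModuleCat.{u} A) 0).map g) = 0 := by
      rw [hg]
      exact (Functor.map_comp _ _ _).trans (by rw [hz0]; exact zero_comp)
    have : g = 0 := by
      let η := DerivedCategory.singleFunctorCompHomologyFunctorIso (ModuleCat.{u} A) 0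
      have h1 : η.hom.app _ ≫ g = 0 :=
        (η.hom.naturality g).symm.trans ((congrArg (· ≫ η.hom.app _) hg0).trans zero_comp)
      exact (cancel_epi (η.hom.app (ModuleCat.of A A))).1 (h1.trans comp_zero.symm)
    exact hg.symm.trans ((congrArg _ this).trans (Functor.map_zero _ _ _))
  rw [hz, h0, zero_comp]

/-- No maps into low degrees. -/
theorem noMaps : ∀ (l : List A) (M : Dual.D A) (c : ℤ), M.IsLE c → c < -(l.length : ℤ) → ∀ φ : K l ⟶ M, φ = 0
  | [], M, c, hM, hc, φ => by
    haveI := hM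
    refine eq_zero_of_homology φ ((DerivedCategory.isZero_of_isLE M c 0 (by simpa using hc)).eq_of_tgt _ _)
  | f :: l, M, c, hM, hc, φ => by
    obtain ⟨ι, δ, hT⟩ := exists_triangle f l
    simp only [List.length_cons, Nat.cast_add, Nat.cast_one] at hc
    obtain ⟨χ, hχ⟩ := Triangle.yoneda_exact₂ _ (rot_of_distTriang _ hT) φ (noMaps l M c hM (by omega) _)
    suffices χ = 0 by rw [hχ, this, comp_zero]
    haveI := hM
    let e := shiftFunctorCompIsoId (Dual.D A) (-1 : ℤ) 1 (by omega)
    obtain ⟨y, hy⟩ := (shiftFunctor (Dual.D A) (1 : ℤ)).map_surjective (χ ≫ e.inv.app M)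
    rw [noMaps l (M⟦(-1 : ℤ)⟧) (c + 1) ((𝕥).isLE_shift M c (-1) (c + 1) (by ring)) (by omega) y,
      Functor.map_zero] at hy
    rw [← cancel_mono (e.inv.app M), zero_comp]
    exact hy.symm

/-- Maps into the bottom degree die after a map killing the bottom cohomology. -/
theorem comp_eq_zero : ∀ (l : List A) {M E : Dual.D A} (g : M ⟶ E), M.IsLE (-(l.length : ℤ)) →
    (H A (-(l.length : ℤ))).map g = 0 → ∀ φ : K l ⟶ M, φ ≫ g = 0
  | [], M, E, g, hM, hg, φ => eq_zero_of_homology _ (by
      rw [Functor.map_comp]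
      have hg' : (H A 0).map g = 0 := by
        have h0 : -(([] : List A).length : ℤ) = 0 := by simp
        rw [h0] at hg
        exact hg
      rw [hg', comp_zero])
  | f :: l, M, E, g, hM, hg, φ => by
    obtain ⟨ι, δ, hT⟩ := exists_triangle f l
    have hlen : -(((f :: l).length : ℕ) : ℤ) = -((l.length : ℤ) + 1) := by simp
    rw [hlen] at hM hg
    obtain ⟨χ, hχ⟩ := Triangle.yoneda_exact₂ _ (rot_of_distTriang _ hT) φ
      (noMaps l M _ hM (by omega) _)
    suffices χ ≫ g = 0 by rw [hχ, Category.assoc, this, comp_zero]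
    haveI := hM
    let e := shiftFunctorCompIsoId (Dual.D A) (-1 : ℤ) 1 (by omega)
    obtain ⟨y, hy⟩ := (shiftFunctor (Dual.D A) (1 : ℤ)).map_surjective (χ ≫ e.inv.app M)
    have h0 : y ≫ g⟦(-1 : ℤ)⟧' = 0 := by
      refine comp_eq_zero l (g⟦(-1 : ℤ)⟧') ((𝕥).isLE_shift M (-((l.length : ℤ) + 1)) (-1) (-(l.length : ℤ)) (by ring)) ?_ y
      rw [← cancel_epi ((((DerivedCategory.homologyFunctor (ModuleCat.{u} A) 0).shiftIso (-1 : ℤ)
        (-(l.length : ℤ)) (-((l.length : ℤ) + 1)) (by ring))).inv.app M), comp_zero]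
      have := (((DerivedCategory.homologyFunctor (ModuleCat.{u} A) 0).shiftIso (-1 : ℤ)
        (-(l.length : ℤ)) (-((l.length : ℤ) + 1)) (by ring))).inv.naturality g
      refine this.symm.trans ?_
      rw [show ((DerivedCategory.homologyFunctor (ModuleCat.{u} A) 0).shift (-((l.length : ℤ) + 1))).map g =
        (H A (-((l.length : ℤ) + 1))).map g from rfl, hg, zero_comp]
    rw [← cancel_mono (e.inv.app E), zero_comp, Category.assoc]
    have hn : g ≫ e.inv.app E = e.inv.app M ≫ (g⟦(-1 : ℤ)⟧')⟦(1 : ℤ)⟧' := e.inv.naturality g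
    rw [hn, ← Category.assoc, ← hy, ← Functor.map_comp, h0, Functor.map_zero]

/-- Homology is `f`-power torsion. -/
def Tors (f : A) (M : Dual.D A) : Prop := ∀ (i : ℤ) (x : (H A i).obj M), ∃ m : ℕ, f ^ m • x = 0

theorem Tors.shift {f : A} {M : Dual.D A} (h : Tors f M) (n : ℤ) : Tors f (M⟦n⟧) := fun i x => by
  let e := ((DerivedCategory.homologyFunctor (ModuleCat.{u} A) 0).shiftIso n i (n + i) rfl).app M
  obtain ⟨m, hm⟩ := h (n + i) (e.hom.hom x)
  exact ⟨m, e.toLinearEquiv.injective ((e.toLinearEquiv.map_smul _ x).trans (hm.trans (map_zero _).symm))⟩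

/-- Maps out of Koszul objects into torsion objects are torsion. -/
theorem exists_pow_smul (f : A) : ∀ (l : List A) (M : Dual.D A), Tors f M →
    ∀ φ : K l ⟶ M, ∃ m : ℕ, f ^ m • φ = 0
  | [], M, hM, φ => by
    let e := ((DerivedCategory.singleFunctorCompHomologyFunctorIso (ModuleCat.{u} A) 0).app (ModuleCat.of A A))
    let ψ : ModuleCat.of A A ⟶ (H A 0).obj M := e.inv ≫ (H A 0).map φ
    obtain ⟨m, hm⟩ := hM 0 (ψ.hom 1)
    refine ⟨m, eq_zero_of_homology _ ?_⟩
    have h0 : f ^ m • ψ = 0 := ModuleCat.hom_ext (LinearMap.ext_ring (by simpa using hm))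
    simp only [ψ, ← Linear.comp_smul] at h0
    rw [map_smul, ← cancel_epi e.inv, comp_zero]
    exact h0
  | g :: l, M, hM, φ => by
    obtain ⟨ι, δ, hT⟩ := exists_triangle g l
    obtain ⟨a, ha⟩ := exists_pow_smul f l M hM (ι ≫ φ)
    obtain ⟨χ, hχ⟩ := Triangle.yoneda_exact₂ _ (rot_of_distTriang _ hT) (f ^ a • φ) (by
      show ι ≫ (f ^ a • φ) = 0
      rw [Linear.comp_smul, ha])
    let e := shiftFunctorCompIsoId (Dual.D A) (-1 : ℤ) 1 (by omega)
    obtain ⟨y, hy⟩ := (shiftFunctor (Dual.D A) (1 : ℤ)).map_surjective (χ ≫ e.inv.app M)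
    obtain ⟨b, hb⟩ := exists_pow_smul f l _ (hM.shift (-1)) y
    refine ⟨b + a, ?_⟩
    rw [pow_add, mul_smul, hχ, ← Linear.comp_smul]
    suffices f ^ b • χ = 0 by rw [this, comp_zero]
    rw [← cancel_mono (e.inv.app M), zero_comp, Linear.smul_comp, ← hy]
    rw [show f ^ b • (shiftFunctor (Dual.D A) (1 : ℤ)).map y = (shiftFunctor (Dual.D A) (1 : ℤ)).map (f ^ b • y) from
      (Functor.map_smul _ _ _).symm, hb, Functor.map_zero]

/-- Koszul objects detect torsion objects, degree by degree. -/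
theorem eq_zero_of_orth : ∀ (l : List A) (M : Dual.D A), (∀ f ∈ l, Tors f M) →
    (∀ φ : K l ⟶ M, φ = 0) → ∀ x : K ([] : List A) ⟶ M, x = 0
  | [], _, _, h => h
  | f :: l, M, hM, h => by
    refine eq_zero_of_orth l M (fun g hg => hM g (List.mem_cons_of_mem _ hg)) fun φ => ?_
    obtain ⟨ι, δ, hT⟩ := exists_triangle f l
    obtain ⟨m, hm⟩ := exists_pow_smul f l M (hM f (List.mem_cons_self ..)) φ
    have key : ∀ ψ : K l ⟶ M, f • ψ = 0 → ψ = 0 := fun ψ hψ => by
      obtain ⟨χ, hχ⟩ := Triangle.yoneda_exact₂ _ hT ψ (by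
        show (f • 𝟙 (K l)) ≫ ψ = 0
        rw [Linear.smul_comp, Category.id_comp, hψ])
      rw [hχ, h χ]
      exact comp_zero
    clear hM
    induction m generalizing φ with
    | zero => simpa using hm
    | succ m ihm => exact key φ (ihm _ (by rwa [← mul_smul, ← pow_succ]))

theorem isZero_homology_of_orth (l : List A) (M : Dual.D A) (hM : ∀ f ∈ l, Tors f M)
    (h : ∀ φ : K l ⟶ M, φ = 0) : IsZero ((H A 0).obj M) := by
  obtain ⟨L, ⟨e⟩⟩ : ∃ L, Nonempty (DerivedCategory.Q.obj L ≅ M) := ⟨_, ⟨DerivedCategory.Q.objObjPreimageIso M⟩⟩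
  haveI : Subsingleton (L.homology 0) := by
    refine subsingleton_of_forall_eq 0 fun x => ?_
    let p : ModuleCat.of A A ⟶ L.homology 0 := ModuleCat.ofHom (LinearMap.toSpanSingleton A _ x)
    haveI : Projective (ModuleCat.of A A) := (IsProjective.iff_projective A).1 inferInstance
    let z := Projective.factorThru p (L.homologyπ 0)
    let g : Koszul.koszul A ([] : List A) ⟶ L :=
      mkHomFromSingle (z ≫ L.iCycles 0) fun k _ => by simp
    have hg : homologyMap g 0 = 0 := by
      have h0 := congrArg (DerivedCategory.homologyFunctor (ModuleCat.{u} A) 0).map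
        (eq_zero_of_orth l M hM h (DerivedCategory.Q.map g ≫ e.hom))
      rw [Functor.map_comp, Functor.map_zero, ← cancel_mono ((H A 0).map e.inv), Category.assoc,
        ← Functor.map_comp, e.hom_inv_id, CategoryTheory.Functor.map_id, zero_comp, Category.comp_id] at h0
      have hn := NatIso.naturality_2 (DerivedCategory.homologyFunctorFactors (ModuleCat.{u} A) 0) g
      dsimp at hn
      rw [← cancel_epi ((DerivedCategory.homologyFunctorFactors (ModuleCat.{u} A) 0).hom.app _),
        ← cancel_mono ((DerivedCategory.homologyFunctorFactors (ModuleCat.{u} A) 0).inv.app L), Category.assoc, hn,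
        h0, comp_zero, zero_comp]
    let P := Koszul.koszul A ([] : List A)
    haveI : IsIso (P.iCycles 0) := P.isIso_iCycles 0 1 (by simp) (single_obj_d _ _ _ _ _)
    have hc : (singleObjXSelf (ComplexShape.up ℤ) 0 (ModuleCat.of A A)).inv ≫ inv (P.iCycles 0) ≫ cyclesMap g 0 = z := by
      rw [← cancel_mono (L.iCycles 0)]
      simp [g, P]
    have hp : p = 0 := by
      rw [← Projective.factorThru_comp p (L.homologyπ 0), show Projective.factorThru p (L.homologyπ 0) = z from rfl,
        ← hc, Category.assoc, Category.assoc, ← homologyπ_naturality, hg, comp_zero, comp_zero, comp_zero]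
    exact (one_smul A x).symm.trans (congrArg (fun q : ModuleCat.of A A ⟶ L.homology 0 => q.hom (1 : A)) hp)
  have hz : IsZero (L.homology 0) := ModuleCat.isZero_of_subsingleton _
  exact (hz.of_iso ((DerivedCategory.homologyFunctorFactors (ModuleCat.{u} A) 0).app L)).of_iso
    ((H A 0).mapIso e.symm)

/-- Koszul objects are torsion at each member. -/
theorem tors_K : ∀ (l : List A), ∀ f ∈ l, Tors f (K l)
  | g :: l, f, hf, i, x => by
    obtain ⟨ι, δ, hT⟩ := exists_triangle g l
    have e3 := (ShortComplex.ShortExact.moduleCat_exact_iff_function_exact _).1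
      (DerivedCategory.HomologySequence.exact₃ _ hT i (i + 1) rfl)
    have e2 := (ShortComplex.ShortExact.moduleCat_exact_iff_function_exact _).1
      (DerivedCategory.HomologySequence.exact₂ _ hT i)
    have e1 := (ShortComplex.ShortExact.moduleCat_exact_iff_function_exact _).1
      (DerivedCategory.HomologySequence.exact₁ _ hT i (i + 1) rfl)
    let d := DerivedCategory.HomologySequence.δ (Triangle.mk (g • 𝟙 (K l)) ι δ) i (i + 1) rfl
    have hg : ∀ (j : ℤ) (y : (H A j).obj (K l)), ((H A j).map (g • 𝟙 (K l))).hom y = g • y := fun j y => by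
      rw [map_smul_id]; rfl
    obtain ⟨a, ha⟩ : ∃ a : ℕ, f ^ a • d.hom x = 0 := by
      rcases List.mem_cons.1 hf with rfl | hf
      · refine ⟨1, ?_⟩
        rw [pow_one]
        exact (hg (i + 1) _).symm.trans ((e1 _).2 ⟨x, rfl⟩)
      · exact tors_K l f hf (i + 1) _
    obtain ⟨y, hy⟩ := (e3 (f ^ a • x)).1 ((d.hom.map_smul (f ^ a) x).trans ha)
    rcases List.mem_cons.1 hf with rfl | hf
    · refine ⟨1 + a, ?_⟩
      rw [pow_add, mul_smul, pow_one, ← hy]
      refine (LinearMap.map_smul _ f y).symm.trans ?_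
      rw [← hg i y]
      exact (e2 _).2 ⟨y, rfl⟩
    · obtain ⟨b, hb⟩ := tors_K l f hf i y
      refine ⟨b + a, ?_⟩
      rw [pow_add, mul_smul, ← hy]
      exact (LinearMap.map_smul _ _ y).symm.trans ((congrArg _ hb).trans (map_zero _))

end Groth.Agent.DRingLib.KosHom
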