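import Mathlib.Algebra.Homology.DerivedCategory.Basic
import Mathlib.Algebra.Homology.DerivedCategory.ShortExact
import Mathlib.Algebra.Homology.DerivedCategory.HomologySequence
import Mathlib.Algebra.Homology.HomotopyCategory.KProjective
import Mathlib.Algebra.Homology.HomotopyCategory.MappingCone
import Mathlib.Algebra.Homology.HomologySequenceLemmas
import Mathlib.Algebra.Homology.HomologicalComplexBiprod

/-! Lifting complexes of projective objects along an additive functor (e.g. reduction modulo an ideal). -/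

set_option autoImplicit false
set_option backward.isDefEq.respectTransparency false
set_option backward.defeqAttrib.useBackward true
set_option linter.style.haveILetI false

universe v v' u u'

open CategoryTheory CategoryTheory.Limits CategoryTheory.Pretriangulated HomologicalComplex
open CochainComplex CochainComplex.HomComplex

namespace Groth.Agent.DRingLib

variable {A : Type u} [Category.{v} A] [Abelian A] {B : Type u'} [Category.{v'} B] [Abelian B]

/-- What is needed of a functor and a class of objects in order to lift complexes. -/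
structure LiftData (F : A ⥤ B) (Pc : ObjectProperty A) : Prop where
  proj : ∀ {X}, Pc X → Projective X
  projF : ∀ {X}, Pc X → Projective (F.obj X)
  full : ∀ {X Y : A}, Projective X → ∀ g : F.obj X ⟶ F.obj Y, ∃ f : X ⟶ Y, F.map f = g
  surj : ∀ {X Y : A} (f : X ⟶ Y), Pc X → Pc Y → Epi (F.map f) → Epi f
  cancel : ∀ {X Y : A}, Pc X → Pc (X ⊞ Y) → Pc Y

variable {F : A ⥤ B} [F.Additive] {Pc : ObjectProperty A} [Pc.IsClosedUnderIsomorphisms]

/-- `M` is the image of an object in the class. -/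
def Lifts (F : A ⥤ B) (Pc : ObjectProperty A) (M : B) : Prop := ∃ X, Pc X ∧ Nonempty (F.obj X ≅ M)

namespace LiftData

lemma isZero_of (D : LiftData F Pc) {X : A} (hX : Pc X) (h : IsZero (F.obj X)) : IsZero X := by
  haveI : Epi (0 : X ⟶ X) := D.surj 0 hX hX ⟨fun g g' _ => h.eq_of_src g g'⟩
  rw [IsZero.iff_id_eq_zero, ← cancel_epi (0 : X ⟶ X), zero_comp, zero_comp]

lemma exists_section {X Y : A} (D : LiftData F Pc) (f : X ⟶ Y) (hX : Pc X) (hY : Pc Y) (hf : Epi (F.map f)) :
    ∃ S : ShortComplex A, ∃ (e₂ : S.X₂ ≅ X) (e₃ : S.X₃ ≅ Y), S.g ≫ e₃.hom = e₂.hom ≫ f ∧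
      Nonempty S.Splitting ∧ Pc S.X₁ := by
  haveI := D.proj hY
  haveI := D.surj f hX hY hf
  let S : ShortComplex A := ShortComplex.mk (kernel.ι f) f (kernel.condition f)
  have hS : S.Exact := ShortComplex.exact_of_f_is_kernel _ (kernelIsKernel f)
  let sp : S.Splitting := ShortComplex.Splitting.ofExactOfSection S hS (Projective.factorThru (𝟙 Y) f)
    (Projective.factorThru_comp _ _) inferInstance
  exact ⟨S, Iso.refl _, Iso.refl _, by simp [S], ⟨sp⟩,
    D.cancel (X := Y) hY (Pc.prop_of_iso (sp.isoBinaryBiproduct ≪≫ biprod.braiding _ _) hX)⟩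

lemma isIso_of (D : LiftData F Pc) {X Y : A} (f : X ⟶ Y) (hX : Pc X) (hY : Pc Y) (hf : IsIso (F.map f)) :
    IsIso f := by
  obtain ⟨S, e₂, e₃, hg, ⟨sp⟩, hK⟩ := D.exists_section f hX hY inferInstance
  have hF := (sp.map F).shortExact
  haveI := hF.mono_f
  have h0 : (S.map F).f = 0 := by
    haveI : IsIso (F.map S.g) := by
      rw [show S.g = e₂.hom ≫ f ≫ e₃.inv from by rw [← reassoc_of% hg, Iso.hom_inv_id, Category.comp_id],
        F.map_comp, F.map_comp]
      infer_instance
    haveI : IsIso (S.map F).g := by show IsIso (F.map S.g); infer_instance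
    rw [← cancel_mono (S.map F).g, zero_comp]
    exact (S.map F).zero
  have hz : IsZero S.X₁ := D.isZero_of hK (by
    show IsZero (S.map F).X₁
    rw [IsZero.iff_id_eq_zero, ← cancel_mono (S.map F).f, h0, comp_zero, comp_zero])
  haveI : IsIso S.g := sp.shortExact.isIso_g_iff.2 hz
  rw [show f = e₂.inv ≫ S.g ≫ e₃.hom by rw [hg, Iso.inv_hom_id_assoc]]
  infer_instance

lemma uniq (D : LiftData F Pc) {X Y : A} (hX : Pc X) (hY : Pc Y) (e : F.obj X ≅ F.obj Y) :
    Nonempty (X ≅ Y) := by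
  obtain ⟨f, hf⟩ := D.full (D.proj hX) e.hom
  haveI := D.isIso_of f hX hY (by rw [hf]; infer_instance)
  exact ⟨asIso f⟩

/-- Kernels of epimorphisms between liftable objects lift. -/
lemma exists_kernel (D : LiftData F Pc) {M N : B} (π : M ⟶ N) [Epi π] {X Y : A} (hX : Pc X) (hY : Pc Y)
    (eX : F.obj X ≅ M) (eY : F.obj Y ≅ N) :
    ∃ K : A, Pc K ∧ Nonempty (F.obj K ≅ kernel π) ∧ Nonempty (X ≅ K ⊞ Y) := by
  obtain ⟨f, hf⟩ := D.full (D.proj hX) (eX.hom ≫ π ≫ eY.inv)
  obtain ⟨S, e₂, e₃, hg, ⟨sp⟩, hK⟩ := D.exists_section f hX hY (by rw [hf]; infer_instance)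
  have hF := (sp.map F).shortExact
  haveI := hF.mono_f
  refine ⟨S.X₁, hK, ?_, ⟨e₂.symm ≪≫ sp.isoBinaryBiproduct ≪≫ biprod.mapIso (Iso.refl _) e₃⟩⟩
  refine ⟨hF.fIsKernel.conePointUniqueUpToIso (kernelIsKernel (S.map F).g) ≪≫
    kernel.mapIso _ _ (F.mapIso e₂ ≪≫ eX) (F.mapIso e₃ ≪≫ eY) ?_⟩
  show F.map S.g ≫ F.map e₃.hom ≫ eY.hom = (F.map e₂.hom ≫ eX.hom) ≫ π
  rw [← F.map_comp_assoc, hg, F.map_comp, hf]
  simp

end LiftData

section complexes

/-- A complex with zero differential. -/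
noncomputable def zeroD (X : ℤ → A) : CochainComplex A ℤ where
  X := X
  d _ _ := 0

lemma isZero_Q_cone_id [HasDerivedCategory A] (W : CochainComplex A ℤ) :
    IsZero (DerivedCategory.Q.obj (mappingCone (𝟙 W))) := by
  refine (Triangle.isZero₃_iff_isIso₁ _ (DerivedCategory.mappingCone_triangle_distinguished (𝟙 W))).2 ?_
  show IsIso (DerivedCategory.Q.map (𝟙 W))
  infer_instance

lemma acyclic_cone_id (W : CochainComplex A ℤ) : (mappingCone (𝟙 W)).Acyclic := by
  letI := HasDerivedCategory.standard A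
  intro i
  rw [HomologicalComplex.exactAt_iff_isZero_homology]
  exact IsZero.of_iso ((DerivedCategory.homologyFunctor A i).map_isZero (isZero_Q_cone_id W))
    ((DerivedCategory.homologyFunctorFactors A i).app _).symm

lemma isZero_cone_X (W : CochainComplex A ℤ) (b : ℤ) (h : ∀ i, b < i → IsZero (W.X i)) (i : ℤ) (hi : b < i) :
    IsZero ((mappingCone (𝟙 W)).X i) := by
  refine IsZero.of_iso ?_ (homotopyCofiber.XIsoBiprod (𝟙 W) i (i + 1) rfl)
  exact biprod_isZero_iff _ _ |>.2 ⟨h _ (by omega), h _ hi⟩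

lemma isKProjective_of_bound (P : CochainComplex A ℤ) (b : ℤ) (hb : ∀ i, b < i → IsZero (P.X i))
    (hP : ∀ i, Projective (P.X i)) : P.IsKProjective := by
  haveI : P.IsStrictlyLE b := (CochainComplex.isStrictlyLE_iff P b).2 hb
  haveI := hP
  exact CochainComplex.isKProjective_of_projective P b

/-- A bounded above acyclic complex of liftable objects lifts to an acyclic complex. -/
theorem exists_lift_acyclic (D : LiftData F Pc) (E : CochainComplex B ℤ) (b : ℤ)
    (hb : ∀ i, b < i → IsZero (E.X i)) (hE : E.Acyclic) (hl : ∀ i, Lifts F Pc (E.X i)) :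
    ∃ (P : CochainComplex A ℤ) (b' : ℤ), (∀ i, b' < i → IsZero (P.X i)) ∧ P.Acyclic ∧
      (∀ i, Pc (P.X i)) ∧ Nonempty ((F.mapHomologicalComplex (ComplexShape.up ℤ)).obj P ≅ E) := by
  haveI hepi : ∀ p q : ℤ, Epi (E.toCycles p (p + 1)) := fun p _ => by
    have h := hE (p + 1)
    exact Preadditive.epi_of_isZero_cokernel' _ (E.homologyIsCokernel p (p + 1) (by simp))
      ((HomologicalComplex.exactAt_iff_isZero_homology _ _).1 h)
  have hker : ∀ p, Nonempty (kernel (E.toCycles p (p + 1)) ≅ E.cycles p) := fun p => by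
    have hk : IsLimit (KernelFork.ofι (E.iCycles p) (show E.iCycles p ≫ E.toCycles p (p + 1) = 0 by
        rw [← cancel_mono (E.iCycles (p + 1)), Category.assoc, toCycles_i, iCycles_d, zero_comp])) :=
      isKernelOfComp (E.iCycles (p + 1)) (E.d p (p + 1)) (E.cyclesIsKernel p (p + 1) (by simp)) _
        (toCycles_i _ _ _)
    exact ⟨(kernelIsKernel _).conePointUniqueUpToIso hk⟩
  have hzero : ∀ i, b < i → IsZero (E.cycles i) := fun i hi => IsZero.of_mono (E.iCycles i) (hb i hi)
  have hQ : ∀ i, Lifts F Pc (E.cycles i) := by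
    have H : ∀ k : ℕ, ∀ i : ℤ, b + 1 - k ≤ i → Lifts F Pc (E.cycles i) := by
      intro k
      induction k with
      | zero =>
        intro i hi
        obtain ⟨X, hX, ⟨e⟩⟩ := hl i
        exact ⟨X, hX, ⟨e ≪≫ (hb i (by omega)).iso (hzero i (by omega))⟩⟩
      | succ k ih =>
        intro i hi
        obtain ⟨X, hX, ⟨eX⟩⟩ := hl i
        obtain ⟨Y, hY, ⟨eY⟩⟩ := ih (i + 1) (by omega)
        haveI := hepi i i
        obtain ⟨K, hK, ⟨eK⟩, -⟩ := D.exists_kernel (E.toCycles i (i + 1)) hX hY eX eY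
        exact ⟨K, hK, ⟨eK ≪≫ (hker i).some⟩⟩
    intro i
    exact H (b + 1 - i).toNat i (by omega)
  choose Q hQc hQe using hQ
  choose X hXc hXe using hl
  let φ := fun i => (hQe i).some
  have hXQ : ∀ i, Nonempty (X i ≅ Q (i + 1) ⊞ Q i) := fun i => by
    haveI := hepi i i
    obtain ⟨K, hK, ⟨eK⟩, ⟨e⟩⟩ := D.exists_kernel (E.toCycles i (i + 1)) (hXc i) (hQc (i + 1)) (hXe i).some (φ (i + 1))
    obtain ⟨u⟩ := D.uniq hK (hQc i) (eK ≪≫ (hker i).some ≪≫ (φ i).symm)
    exact ⟨e ≪≫ biprod.braiding _ _ ≪≫ biprod.mapIso (Iso.refl _) u⟩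
  let W := zeroD Q
  let G := F.mapHomologicalComplex (ComplexShape.up ℤ)
  have hproj : ∀ i, Projective (E.cycles i) := fun i => Projective.of_iso (φ i) (D.projF (hQc i))
  have hσ : ∀ p q : ℤ, p + -1 = q → ∃ s : E.cycles p ⟶ E.X q, s ≫ E.toCycles q p = 𝟙 _ := fun p q h => by
    obtain rfl : p = q + 1 := by omega
    haveI := hepi q q
    haveI := hproj (q + 1)
    exact ⟨Projective.factorThru (𝟙 _) (E.toCycles q (q + 1)), Projective.factorThru_comp _ _⟩
  choose σ hσ using hσ
  let α : Cochain (G.obj W) E (-1) := Cochain.mk fun p q h => (φ p).hom ≫ σ p q h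
  let β : G.obj W ⟶ E :=
    { f := fun i => (φ i).hom ≫ E.iCycles i
      comm' := fun i j hij => by
        rw [show (G.obj W).d i j = 0 from F.map_zero _ _, zero_comp, Category.assoc, iCycles_d, comp_zero] }
  have hβ : δ (-1) 0 α = Cochain.ofHom (G.map (𝟙 W) ≫ β) := by
    ext p
    rw [δ_v (-1) 0 (by simp) α p p (by simp) (p - 1) (p + 1) rfl rfl, G.map_id, Category.id_comp]
    have hd : (G.obj W).d p (p + 1) = 0 := F.map_zero _ _
    rw [hd, zero_comp, smul_zero, add_zero]
    show ((φ p).hom ≫ σ p (p - 1) _) ≫ E.d (p - 1) p = _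
    rw [Category.assoc, ← E.toCycles_i (p - 1) p, reassoc_of% hσ p (p - 1) (by omega)]
    simp [β]
  let θ := mappingCone.desc (G.map (𝟙 W)) α β hβ
  haveI : ∀ n, IsIso (θ.f n) := fun n => by
    haveI := hepi n n
    let S : ShortComplex B := ShortComplex.mk (E.iCycles n) (E.toCycles n (n + 1))
      (by rw [← cancel_mono (E.iCycles (n + 1)), Category.assoc, toCycles_i, iCycles_d, zero_comp])
    have hk : IsLimit (KernelFork.ofι (E.iCycles n) S.zero) :=
      isKernelOfComp (E.iCycles (n + 1)) (E.d n (n + 1)) (E.cyclesIsKernel n (n + 1) (by simp)) _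
        (toCycles_i _ _ _)
    let sp : S.Splitting := ShortComplex.Splitting.ofExactOfSection S (ShortComplex.exact_of_f_is_kernel _ hk)
      (σ (n + 1) n (by omega)) (hσ _ _ _) (inferInstanceAs (Mono (E.iCycles n)))
    refine ⟨E.toCycles n (n + 1) ≫ (φ (n + 1)).inv ≫ (mappingCone.inl (G.map (𝟙 W))).v (n + 1) n (by omega) +
      sp.r ≫ (φ n).inv ≫ (mappingCone.inr (G.map (𝟙 W))).f n, ?_, ?_⟩
    · refine mappingCone.ext_from _ (n + 1) n rfl ?_ ?_
      · rw [mappingCone.inl_v_desc_f_assoc, Category.comp_id]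
        show ((φ (n + 1)).hom ≫ σ (n + 1) n _) ≫ _ = _
        rw [Category.assoc, Preadditive.comp_add, ← Category.assoc (σ _ _ _) (E.toCycles _ _), hσ,
          ← Category.assoc (σ _ _ _) sp.r, show σ (n + 1) n _ ≫ sp.r = 0 from sp.s_r, zero_comp, add_zero]
        simp
      · rw [mappingCone.inr_f_desc_f_assoc, Category.comp_id]
        show ((φ n).hom ≫ E.iCycles n) ≫ _ = _
        rw [Category.assoc, Preadditive.comp_add, ← Category.assoc (E.iCycles n) (E.toCycles _ _),
          show E.iCycles n ≫ E.toCycles n (n + 1) = 0 from S.zero, zero_comp, zero_add,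
          ← Category.assoc (E.iCycles n) sp.r, show E.iCycles n ≫ sp.r = 𝟙 _ from sp.f_r]
        simp
    · rw [Preadditive.add_comp, Category.assoc, Category.assoc, Category.assoc, Category.assoc,
        mappingCone.inl_v_desc_f, mappingCone.inr_f_desc_f]
      show _ ≫ (φ (n + 1)).inv ≫ ((φ (n + 1)).hom ≫ σ (n + 1) n _) + _ ≫ _ ≫ ((φ n).hom ≫ E.iCycles n) = _
      rw [Iso.inv_hom_id_assoc, Iso.inv_hom_id_assoc, add_comm]
      exact sp.id
  haveI : IsIso θ := HomologicalComplex.Hom.isIso_of_components θ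
  refine ⟨mappingCone (𝟙 W), b, fun i hi => isZero_cone_X W b (fun j hj => D.isZero_of (hQc j)
    ((hzero j hj).of_iso (φ j))) i hi, acyclic_cone_id W, fun i => ?_,
    ⟨mappingCone.mapHomologicalComplexIso (𝟙 W) F ≪≫ asIso θ⟩⟩
  exact Pc.prop_of_iso ((hXQ i).some ≪≫ (homotopyCofiber.XIsoBiprod (𝟙 W) i (i + 1) rfl).symm) (hXc i)

/-- A bounded above complex of liftable objects quasi-isomorphic to the image of a complex in the class
is the image of a quasi-isomorphic complex in the class. -/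
theorem exists_lift (D : LiftData F Pc) (hsum : ∀ {X Y : A}, Pc X → Pc Y → Pc (X ⊞ Y))
    (Q : CochainComplex A ℤ) (c : ℤ) (hc : ∀ i, c < i → IsZero (Q.X i)) (hQ : ∀ i, Pc (Q.X i))
    (E : CochainComplex B ℤ) (b : ℤ) (hb : ∀ i, b < i → IsZero (E.X i)) (hl : ∀ i, Lifts F Pc (E.X i))
    (α : (F.mapHomologicalComplex (ComplexShape.up ℤ)).obj Q ⟶ E) [QuasiIso α] :
    ∃ (P : CochainComplex A ℤ) (b' : ℤ) (γ : Q ⟶ P), (∀ i, b' < i → IsZero (P.X i)) ∧ QuasiIso γ ∧
      (∀ i, Pc (P.X i)) ∧ Nonempty ((F.mapHomologicalComplex (ComplexShape.up ℤ)).obj P ≅ E) := by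
  letI := HasDerivedCategory.standard A
  letI := HasDerivedCategory.standard B
  let G := F.mapHomologicalComplex (ComplexShape.up ℤ)
  choose X hXc hXe using hl
  let e := fun i => (hXe i).some
  let W := zeroD fun p => X (p - 1)
  let D' := mappingCone (𝟙 W)
  let a : Cochain (G.obj W) E (-1) := Cochain.mk fun p q h => (e (p - 1)).hom ≫ (E.XIsoOfEq (by omega)).hom
  let β : G.obj W ⟶ E :=
    { f := fun i => (e (i - 1)).hom ≫ E.d (i - 1) i
      comm' := fun i j hij => by
        rw [show (G.obj W).d i j = 0 from F.map_zero _ _, zero_comp, Category.assoc, E.d_comp_d, comp_zero] }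
  have hβ : δ (-1) 0 a = Cochain.ofHom (G.map (𝟙 W) ≫ β) := by
    ext p
    rw [δ_v (-1) 0 (by simp) a p p (by simp) (p - 1) (p + 1) rfl rfl, G.map_id, Category.id_comp]
    rw [show (G.obj W).d p (p + 1) = 0 from F.map_zero _ _, zero_comp, smul_zero, add_zero]
    simp [a, β]
  let χ : G.obj D' ⟶ E :=
    (mappingCone.mapHomologicalComplexIso (𝟙 W) F).hom ≫ mappingCone.desc (G.map (𝟙 W)) a β hβ
  haveI : ∀ n, Epi (χ.f n) := fun n => by
    haveI : Epi ((mappingCone.desc (G.map (𝟙 W)) a β hβ).f n) := by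
      refine @epi_of_epi _ _ _ _ _ ((mappingCone.inl (G.map (𝟙 W))).v (n + 1) n (by omega)) _ ?_
      rw [mappingCone.inl_v_desc_f]
      show Epi ((e (n + 1 - 1)).hom ≫ _)
      infer_instance
    rw [show χ.f n = _ ≫ _ from comp_f _ _ n]
    infer_instance
  let M := Q ⊞ D'
  let ψ : G.obj M ⟶ E := G.map biprod.fst ≫ α + G.map biprod.snd ≫ χ
  haveI : ∀ n, Epi (ψ.f n) := fun n => by
    refine @epi_of_epi _ _ _ _ _ ((G.map (biprod.inr : D' ⟶ M)).f n) _ ?_
    rw [← comp_f, show G.map biprod.inr ≫ ψ = χ by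
      simp [ψ, ← G.map_comp_assoc]]
    infer_instance
  haveI : Epi ψ := HomologicalComplex.epi_of_epi_f ψ inferInstance
  have hinl : ∀ (R' : CochainComplex A ℤ), IsZero (DerivedCategory.Q.obj R') →
      IsIso (DerivedCategory.Q.map (biprod.inl : Q ⟶ Q ⊞ R')) := fun R' hR' => by
    refine ⟨DerivedCategory.Q.map biprod.fst, by rw [← Functor.map_comp, biprod.inl_fst, CategoryTheory.Functor.map_id], ?_⟩
    rw [← Functor.map_comp, ← DerivedCategory.Q.map_id, ← biprod.total, DerivedCategory.Q.map_add,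
      DerivedCategory.Q.map_comp (biprod.snd : Q ⊞ R' ⟶ R'), hR'.eq_of_tgt (DerivedCategory.Q.map biprod.snd) 0,
      zero_comp, add_zero]
  haveI : IsIso (DerivedCategory.Q.map (G.map (biprod.inl : Q ⟶ M))) := by
    refine ⟨DerivedCategory.Q.map (G.map biprod.fst), by
      rw [← Functor.map_comp, ← G.map_comp, biprod.inl_fst, G.map_id, CategoryTheory.Functor.map_id], ?_⟩
    have hz : IsZero (DerivedCategory.Q.obj (G.obj D')) :=
      (isZero_Q_cone_id (G.obj W)).of_iso (DerivedCategory.Q.mapIso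
        (mappingCone.mapHomologicalComplexIso (𝟙 W) F ≪≫ eqToIso (by rw [G.map_id])))
    rw [← Functor.map_comp, ← G.map_comp, ← DerivedCategory.Q.map_id, ← G.map_id, ← biprod.total, G.map_add,
      DerivedCategory.Q.map_add, G.map_comp (biprod.snd : M ⟶ D'), DerivedCategory.Q.map_comp (G.map biprod.snd),
      hz.eq_of_tgt (DerivedCategory.Q.map (G.map biprod.snd)) 0, zero_comp, add_zero]
  haveI : QuasiIso ψ := by
    rw [← DerivedCategory.isIso_Q_map_iff_quasiIso]
    have h1 : DerivedCategory.Q.map (G.map (biprod.inl : Q ⟶ M)) ≫ DerivedCategory.Q.map ψ = DerivedCategory.Q.map α := by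
      rw [← Functor.map_comp]
      congr 1
      simp [ψ, ← G.map_comp_assoc]
    haveI : IsIso (DerivedCategory.Q.map α) := (DerivedCategory.isIso_Q_map_iff_quasiIso (C := B) α).2 inferInstance
    exact IsIso.of_isIso_fac_left h1
  let Sk : ShortComplex (CochainComplex B ℤ) := ShortComplex.mk (kernel.ι ψ) ψ (kernel.condition ψ)
  have hSk : Sk.ShortExact := { exact := ShortComplex.exact_of_f_is_kernel _ (kernelIsKernel ψ) }
  have hn : ∀ n, (Sk.map (HomologicalComplex.eval B (ComplexShape.up ℤ) n)).ShortExact := fun n =>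
    hSk.map_of_exact _
  let bD := max b c + 1
  have hD : ∀ i, bD < i → IsZero (D'.X i) := fun i hi => isZero_cone_X W bD (fun j hj =>
    D.isZero_of (hXc (j - 1)) ((hb _ (by omega)).of_iso (e (j - 1)))) i hi
  have hM : ∀ i, Pc (M.X i) := fun i =>
    Pc.prop_of_iso (HomologicalComplex.biprodXIso Q D' i).symm (hsum (hQ i)
      (Pc.prop_of_iso (homotopyCofiber.XIsoBiprod (𝟙 W) i (i + 1) rfl).symm (hsum (hXc _) (hXc _))))
  have hMz : ∀ i, bD < i → IsZero (M.X i) := fun i hi =>
    IsZero.of_iso (biprod_isZero_iff _ _ |>.2 ⟨hc i (by omega), hD i hi⟩) (HomologicalComplex.biprodXIso Q D' i)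
  have hkl : ∀ n, Lifts F Pc ((kernel ψ).X n) := fun n => by
    obtain ⟨K, hK, ⟨eK⟩, -⟩ := D.exists_kernel (ψ.f n) (hM n) (hXc n) (Iso.refl _) (e n)
    exact ⟨K, hK, ⟨eK ≪≫ (kernelIsKernel (ψ.f n)).conePointUniqueUpToIso (hn n).fIsKernel⟩⟩
  have hkz : ∀ n, bD < n → IsZero ((kernel ψ).X n) := fun n hn' => by
    haveI : Mono ((kernel.ι ψ).f n) := (hn n).mono_f
    exact IsZero.of_mono ((kernel.ι ψ).f n) (F.map_isZero (hMz n hn'))
  obtain ⟨C, bC, hCz, hCa, hCc, ⟨eC⟩⟩ :=
    exists_lift_acyclic D (kernel ψ) bD hkz (hSk.acyclic_X₁ inferInstance) hkl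
  haveI := isKProjective_of_bound C bC hCz fun i => D.proj (hCc i)
  let H := CochainComplex.IsKProjective.homotopyZero (𝟙 C) hCa
  have hH : 𝟙 C = Homotopy.nullHomotopicMap H.hom := by
    ext i
    rw [H.comm i]
    simp [Homotopy.nullHomotopicMap]
  let h' : G.obj C ⟶ G.obj M := eC.hom ≫ kernel.ι ψ
  have hk : ∀ i j, ∃ f : C.X i ⟶ M.X j, F.map f = F.map (H.hom i j) ≫ h'.f j :=
    fun i j => D.full (D.proj (hCc i)) _
  choose k hk using hk
  let g : C ⟶ M := Homotopy.nullHomotopicMap k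
  have hg : G.map g = h' := by
    rw [Homotopy.map_nullHomotopicMap]
    simp only [hk]
    refine (Homotopy.nullHomotopicMap_comp (C := G.obj C) (D := G.obj C)
      (fun i j => (F.map (H.hom i j) : (G.obj C).X i ⟶ (G.obj C).X j)) h').symm.trans ?_
    rw [← Homotopy.map_nullHomotopicMap, ← hH, G.map_id, Category.id_comp]
  have hnull : ∀ n, ∃ r : M.X n ⟶ C.X n, g.f n ≫ r = 𝟙 _ := fun n => by
    haveI : Projective (Sk.map (HomologicalComplex.eval B (ComplexShape.up ℤ) n)).X₃ :=
      Projective.of_iso (e n) (D.projF (hXc n))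
    haveI : Epi (Sk.map (HomologicalComplex.eval B (ComplexShape.up ℤ) n)).g := (hn n).epi_g
    let sp := (hn n).splittingOfProjective
    obtain ⟨r, hr⟩ := D.full (D.proj (hM n)) (sp.r ≫ eC.inv.f n)
    have h1 : F.map (g.f n ≫ r) = 𝟙 _ := by
      rw [F.map_comp, hr, show F.map (g.f n) = (G.map g).f n from rfl, hg]
      show (eC.hom.f n ≫ (kernel.ι ψ).f n) ≫ sp.r ≫ eC.inv.f n = _
      have h2 : (kernel.ι ψ).f n ≫ sp.r = 𝟙 _ := sp.f_r
      rw [Category.assoc, reassoc_of% h2, ← comp_f, eC.hom_inv_id]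
      rfl
    haveI := D.isIso_of (g.f n ≫ r) (hCc n) (hCc n) (by rw [h1]; infer_instance)
    exact ⟨r ≫ inv (g.f n ≫ r), by rw [← Category.assoc, IsIso.hom_inv_id]⟩
  choose r hr using hnull
  haveI : ∀ n, Mono (g.f n) := fun n => (SplitMono.mk (r n) (hr n)).mono
  haveI : Mono g := HomologicalComplex.mono_of_mono_f g inferInstance
  let S : ShortComplex (CochainComplex A ℤ) := ShortComplex.mk g (cokernel.π g) (cokernel.condition g)
  have hS : S.ShortExact := { exact := ShortComplex.exact_of_g_is_cokernel _ (cokernelIsCokernel g) }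
  have hSn : ∀ n, (S.map (HomologicalComplex.eval A (ComplexShape.up ℤ) n)).ShortExact := fun n =>
    hS.map_of_exact _
  have spl : ∀ n, (S.map (HomologicalComplex.eval A (ComplexShape.up ℤ) n)).Splitting := fun n =>
    ShortComplex.Splitting.ofExactOfRetraction _ (hSn n).exact (r n) (hr n) (hSn n).epi_g
  have hSG : (S.map G).ShortExact := HomologicalComplex.shortExact_of_degreewise_shortExact _ fun n =>
    ((spl n).map F).shortExact
  have hP : ∀ n, Pc ((cokernel g).X n) := fun n =>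
    D.cancel (hCc n) (Pc.prop_of_iso (spl n).isoBinaryBiproduct (hM n))
  have hPz : ∀ n, bD < n → IsZero ((cokernel g).X n) := fun n hn' => by
    haveI : Epi ((cokernel.π g).f n) := (hSn n).epi_g
    exact IsZero.of_epi ((cokernel.π g).f n) (hMz n hn')
  refine ⟨cokernel g, bD, biprod.inl ≫ cokernel.π g, hPz, ?_, hP, ?_⟩
  · rw [← DerivedCategory.isIso_Q_map_iff_quasiIso, Functor.map_comp]
    haveI := hinl D' (isZero_Q_cone_id W)
    haveI : IsIso (DerivedCategory.Q.map S.g) := by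
      refine (Triangle.isZero₁_iff_isIso₂ _ (DerivedCategory.triangleOfSES_distinguished hS)).1 ?_
      refine (IsZero.iff_id_eq_zero _).2 ?_
      show 𝟙 (DerivedCategory.Q.obj C) = 0
      rw [← CategoryTheory.Functor.map_id, DerivedCategory.Q_map_eq_of_homotopy (C := A) H, Functor.map_zero]
    exact IsIso.comp_isIso' inferInstance this
  · haveI := hSG.epi_g
    have h1 : IsColimit (CokernelCofork.ofπ ψ (show G.map g ≫ ψ = 0 by rw [hg]; simp [h'])) :=
      isCokernelEpiComp hSk.gIsCokernel eC.hom (by rw [hg])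
    exact ⟨hSG.gIsCokernel.coconePointUniqueUpToIso h1⟩

end complexes

end Groth.Agent.DRingLib
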