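import Groth.Agent.DRingLib.PCBase
import Groth.Agent.DCat.Amplitude
import Mathlib.Algebra.Category.ModuleCat.FilteredColimits
import Mathlib.CategoryTheory.Limits.ConcreteCategory.Basic
import Mathlib.LinearAlgebra.Basis.Basic

/-! Maps out of finite free complexes into a filtered colimit of modules. -/

set_option autoImplicit false
set_option backward.isDefEq.respectTransparency false
set_option backward.defeqAttrib.useBackward true
set_option linter.style.haveILetI false

universe u

open CategoryTheory CategoryTheory.Limits HomologicalComplex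
attribute [local instance] HasDerivedCategory.standard

namespace Groth.Agent.DRingLib

variable {R : Type u} [CommRing R]

local notation "Sx" i:max => CochainComplex.singleFunctor (ModuleCat R) i

/-- A map to a single object is zero in `D` iff it extends along the differential. -/
theorem Q_map_single_eq_zero_iff (P : DRing.Cx R) [P.IsKProjective] {X : ModuleCat.{u} R} {i : ℤ}
    (g : P ⟶ (Sx i).obj X) :
    DerivedCategory.Q.map g = 0 ↔
      ∃ h : P.X (i + 1) ⟶ X, g.f i ≫ (singleObjXSelf (ComplexShape.up ℤ) i X).hom = P.d i (i + 1) ≫ h := by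
  let T : DRing.Cx R := (single (ModuleCat.{u} R) (ComplexShape.up ℤ) i).obj X
  have hb := CochainComplex.IsKProjective.Qh_map_bijective (C := ModuleCat.{u} R) P
    ((HomotopyCategory.quotient (ModuleCat.{u} R) (ComplexShape.up ℤ)).obj T)
  constructor
  · intro h
    have h0 := DCat.Amplitude.quotient_map_eq_zero hb h
    let H := HomotopyCategory.homotopyOfEq g 0 (h0.trans (Functor.map_zero _ _ _).symm)
    refine ⟨H.hom (i + 1) i ≫ (singleObjXSelf (ComplexShape.up ℤ) i X).hom, ?_⟩
    have e := H.comm i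
    rw [dNext_eq _ (show (ComplexShape.up ℤ).Rel i (i + 1) by simp),
      prevD_eq _ (show (ComplexShape.up ℤ).Rel (i - 1) i by simp),
      show ((Sx i).obj X).d (i - 1) i = 0 from single_obj_d _ _ _ _ _, comp_zero, add_zero, zero_f,
      add_zero] at e
    rw [e, Category.assoc]
  · rintro ⟨k, hk⟩
    let hmap : ∀ a b, (ComplexShape.up ℤ).Rel b a → (P.X a ⟶ T.X b) := fun a b _ =>
      if c : a = i + 1 ∧ b = i then (P.XIsoOfEq c.1).hom ≫ k ≫ (singleObjXSelf (ComplexShape.up ℤ) i X).inv ≫
        (T.XIsoOfEq c.2.symm).hom else 0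
    refine DCat.Amplitude.Q_map_eq_zero_of_homotopy ((Homotopy.ofEq ?_).trans (Homotopy.nullHomotopy' hmap))
    apply to_single_hom_ext
    rw [Homotopy.nullHomotopicMap'_f (show (ComplexShape.up ℤ).Rel (i - 1) i by simp)
      (show (ComplexShape.up ℤ).Rel i (i + 1) by simp),
      show T.d (i - 1) i = 0 from single_obj_d _ _ _ _ _, comp_zero, add_zero]
    simp only [hmap, and_self, dite_true, XIsoOfEq_rfl, Iso.refl_hom, Category.id_comp, Category.comp_id,
      Category.assoc]
    rw [← reassoc_of% hk]
    simp [T]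

variable {J : Type u} [SmallCategory J] [IsFiltered J] {F : J ⥤ ModuleCat.{u} R} {c : Cocone F} (hc : IsColimit c)

include hc in
lemma exists_kill {ι : Type u} (s : Finset ι) {j : J} (w : ι → F.obj j) (hw : ∀ z ∈ s, c.ι.app j (w z) = 0) :
    ∃ (j' : J) (f : j ⟶ j'), ∀ z ∈ s, F.map f (w z) = 0 := by
  classical
  induction s using Finset.induction with
  | empty => exact ⟨j, 𝟙 j, by simp⟩
  | insert a s _ ih =>
    obtain ⟨j', f, hf⟩ := ih fun z hz => hw z (Finset.mem_insert_of_mem hz)
    obtain ⟨k, p, q, hpq⟩ := Concrete.isColimit_exists_of_rep_eq F hc (i := j) (j := j) (w a) 0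
      ((hw a (Finset.mem_insert_self a s)).trans (map_zero _).symm)
    rw [map_zero] at hpq
    let l := IsFiltered.max j' k
    let a₁ : j ⟶ l := f ≫ IsFiltered.leftToMax j' k
    let a₂ : j ⟶ l := p ≫ IsFiltered.rightToMax j' k
    obtain ⟨m, r, hr⟩ : ∃ (m : J) (r : l ⟶ m), f ≫ IsFiltered.leftToMax j' k ≫ r = p ≫ IsFiltered.rightToMax j' k ≫ r :=
      ⟨IsFiltered.coeq a₁ a₂, IsFiltered.coeqHom a₁ a₂, by
        have := IsFiltered.coeq_condition a₁ a₂
        simpa only [a₁, a₂, Category.assoc] using this⟩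
    refine ⟨m, f ≫ IsFiltered.leftToMax j' k ≫ r, fun z hz => ?_⟩
    rcases Finset.mem_insert.1 hz with rfl | hz
    · rw [hr, Functor.map_comp, ConcreteCategory.comp_apply]
      exact (congrArg _ hpq).trans (map_zero _)
    · rw [Functor.map_comp, ConcreteCategory.comp_apply]
      exact (congrArg _ (hf z hz)).trans (map_zero _)

include hc in
lemma exists_kill_hom (E : ModuleCat.{u} R) [Module.Finite R E] {j : J} (g : E ⟶ F.obj j)
    (hg : g ≫ c.ι.app j = 0) : ∃ (j' : J) (f : j ⟶ j'), g ≫ F.map f = 0 := by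
  obtain ⟨s, hs⟩ := (inferInstance : Module.Finite R E).fg_top
  obtain ⟨j', f, hf⟩ := exists_kill hc s (fun z => g z) fun z _ => congr($hg z)
  exact ⟨j', f, ModuleCat.hom_ext (LinearMap.ext_on hs fun z hz => hf z hz)⟩

include hc in
lemma exists_factor (E : ModuleCat.{u} R) [Module.Finite R E] [Module.Free R E] (x : E ⟶ c.pt) :
    ∃ (j : J) (g : E ⟶ F.obj j), g ≫ c.ι.app j = x := by
  classical
  let b := Module.Free.chooseBasis R E
  choose jk y hy using fun k => Concrete.isColimit_exists_rep F hc (x (b k))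
  obtain ⟨j, hj⟩ := IsFiltered.sup_objs_exists (Finset.univ.image jk)
  let p : ∀ k, jk k ⟶ j := fun k => (hj (Finset.mem_image_of_mem _ (Finset.mem_univ k))).some
  refine ⟨j, ModuleCat.ofHom (b.constr R fun k => F.map (p k) (y k)), ModuleCat.hom_ext (b.ext fun k => ?_)⟩
  show c.ι.app j (b.constr R (fun k => F.map (p k) (y k)) (b k)) = x (b k)
  rw [Module.Basis.constr_basis, ← hy k]
  exact congr($(c.w (p k)) (y k))

end Groth.Agent.DRingLib
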