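import Groth.Agent.DRingLib.PCDescent

/-! Descent along a pair of surjections whose kernels multiply to zero. -/

set_option autoImplicit false
set_option backward.isDefEq.respectTransparency false
set_option backward.defeqAttrib.useBackward true
set_option linter.style.haveILetI false

universe u

open CategoryTheory CategoryTheory.Limits CategoryTheory.Pretriangulated HomologicalComplex
attribute [local instance] HasDerivedCategory.standard

namespace Groth.Agent.DRingLib

variable {R A B : Type u} [CommRing R] [CommRing A] [CommRing B] (φ : R →+* A) (ψ : R →+* B)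

/-- A module whose base change is finite is finitely generated modulo the kernel. -/
lemma exists_fg_sup (hφ : Function.Surjective φ) (M : ModuleCat.{u} R)
    (h : Module.Finite A ((ModuleCat.extendScalars.{u, u, u} φ).obj M)) :
    ∃ N : Submodule R M, N.FG ∧ N ⊔ RingHom.ker φ • ⊤ = ⊤ := by
  classical
  let adj := ModuleCat.extendRestrictScalarsAdj.{u, u, u} φ
  let η := adj.unit.app M
  let J := RingHom.ker φ
  let W : Submodule R M := J • ⊤
  obtain ⟨M₀, ⟨e⟩⟩ := DCat.exists_restrict_of_killed φ hφ (ModuleCat.of R (M ⧸ W)) (le_bot_iff.1 fun x hx => by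
    obtain ⟨x, rfl⟩ := Submodule.mkQ_surjective _ x
    refine (Submodule.Quotient.mk_eq_zero _).2 ?_
    have h1 : W.mkQ x ∈ (J • ⊤ : Submodule R M).map W.mkQ := by
      rw [Submodule.map_smul'', Submodule.map_top, Submodule.range_mkQ]; exact hx
    rwa [Submodule.mkQ_map_self, Submodule.mem_bot, Submodule.mkQ_apply, Submodule.Quotient.mk_eq_zero] at h1)
  let g := (adj.homEquiv M M₀).symm ((ModuleCat.ofHom W.mkQ : M ⟶ ModuleCat.of R (M ⧸ W)) ≫ e.inv)
  have hker : ∀ x : M, η.hom x = 0 → x ∈ W := fun x hx => by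
    have h1 := congrArg (fun t => t.hom x) ((adj.homEquiv_unit M M₀ g).symm.trans (Equiv.apply_symm_apply _ _))
    change ((ModuleCat.restrictScalars φ).map g).hom (η.hom x) = e.inv.hom (W.mkQ x) at h1
    rw [hx, map_zero] at h1
    refine (Submodule.Quotient.mk_eq_zero W).1 ?_
    refine (ModuleCat.mono_iff_injective e.inv).1 inferInstance ?_
    rw [map_zero]; exact h1.symm
  have hsurj : Function.Surjective η.hom := by
    intro z
    induction z using TensorProduct.induction_on with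
    | zero => exact ⟨0, map_zero _⟩
    | tmul a x =>
      obtain ⟨r, rfl⟩ := hφ a
      refine ⟨r • x, ?_⟩
      letI := φ.toAlgebra
      show (1 : A) ⊗ₜ[R] (r • x) = φ r ⊗ₜ[R] x
      exact (TensorProduct.smul_tmul r (1 : A) x).symm.trans
        (congrArg (TensorProduct.tmul R · x) (show φ r * 1 = φ r from mul_one _))
    | add a b ha hb =>
      obtain ⟨u, hu⟩ := ha
      obtain ⟨v, hv⟩ := hb
      exact ⟨u + v, (map_add _ _ _).trans (congrArg₂ (· + ·) hu hv)⟩
  obtain ⟨s, hs⟩ := h.fg_top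
  choose t' ht using hsurj
  let t : _ → (M : Type u) := t'
  let N := Submodule.span R (↑(s.image t : Finset (M : Type u)) : Set M)
  refine ⟨N, Submodule.fg_span (Finset.finite_toSet _), top_le_iff.1 fun x _ => ?_⟩
  have : ∀ z ∈ Submodule.span A (↑s : Set ((ModuleCat.extendScalars.{u, u, u} φ).obj M)),
      ∃ y ∈ N, η.hom y = z := by
    intro z hz
    induction hz using Submodule.span_induction with
    | mem z hz => exact ⟨t z, Submodule.subset_span (Finset.mem_image_of_mem _ hz), ht z⟩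
    | zero => exact ⟨0, zero_mem _, map_zero _⟩
    | add a b _ _ ha hb =>
      obtain ⟨u, hu, rfl⟩ := ha
      obtain ⟨v, hv, rfl⟩ := hb
      exact ⟨u + v, add_mem hu hv, map_add _ _ _⟩
    | smul a z _ hz =>
      obtain ⟨u, hu, rfl⟩ := hz
      obtain ⟨r, rfl⟩ := hφ a
      exact ⟨r • u, N.smul_mem r hu, map_smul η.hom r u⟩
  obtain ⟨y, hy, hyx⟩ := this (η.hom x) (hs ▸ Submodule.mem_top)
  exact Submodule.mem_sup.2 ⟨y, hy, x - y, hker _ (by rw [map_sub, hyx, sub_self]), by abel⟩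

/-- Finiteness descends along a pair of surjections with `ker * ker = 0`. -/
theorem finite_of_ext₂ (hφ : Function.Surjective φ) (hψ : Function.Surjective ψ)
    (h0 : RingHom.ker φ * RingHom.ker ψ = ⊥) (M : ModuleCat.{u} R)
    (h : Module.Finite A ((ModuleCat.extendScalars.{u, u, u} φ).obj M))
    (h' : Module.Finite B ((ModuleCat.extendScalars.{u, u, u} ψ).obj M)) : Module.Finite R M := by
  obtain ⟨N₁, hN₁, h₁⟩ := exists_fg_sup φ hφ M h
  obtain ⟨N₂, hN₂, h₂⟩ := exists_fg_sup ψ hψ M h'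
  refine ⟨?_⟩
  have : (⊤ : Submodule R M) ≤ N₁ ⊔ N₂ := by
    calc (⊤ : Submodule R M) = N₁ ⊔ RingHom.ker φ • ⊤ := h₁.symm
      _ = N₁ ⊔ RingHom.ker φ • (N₂ ⊔ RingHom.ker ψ • ⊤) := by rw [h₂]
      _ ≤ N₁ ⊔ N₂ := by
        rw [Submodule.smul_sup, ← Submodule.mul_smul, h0, Submodule.bot_smul, sup_bot_eq]
        exact sup_le_sup_left Submodule.smul_le_right _
  rw [← top_le_iff.1 this]
  exact hN₁.sup hN₂

lemma finite_ext_top {P₀ : DRing.Cx R} (hP : DCat.IsKFlatFor (DCat.modT R) P₀) {b₀ : ℤ} (hPb : DRing.VanishesAbove P₀ b₀) {K : Dual.D R}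
    (e : DRing.toD P₀ ≅ K) (b : ℤ) {m : ℤ} (hbm : ¬ b < m) (hb : b₀ = b) [DRing.HasLBaseChange φ]
    (h : DRing.IsPseudoCoherent A m ((DRing.LBaseChange φ).obj K)) :
    Module.Finite A ((ModuleCat.extendScalars.{u, u, u} φ).obj (cokernel (P₀.d (b - 1) b) : ModuleCat.{u} R)) := by
  subst hb
  let F := ModuleCat.extendScalars.{u, u, u} φ
  let G := F.mapHomologicalComplex (ComplexShape.up ℤ)
  let eL : DRing.toD (G.obj P₀) ≅ (DRing.LBaseChange φ).obj K :=
    (DCat.lbaseChangeIso φ hP).symm ≪≫ (DRing.LBaseChange φ).mapIso e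
  haveI : PreservesColimitsOfSize.{0, 0} F :=
    (ModuleCat.extendRestrictScalarsAdj.{u, u, u} φ).leftAdjoint_preservesColimits
  haveI : (DRing.toD (G.obj P₀)).IsLE b₀ := DCat.isLE_Q_of_vanishesAbove (vanishesAbove_ext φ hPb)
  haveI : ((DRing.LBaseChange φ).obj K).IsLE b₀ := DerivedCategory.TStructure.t.isLE_of_iso eL b₀
  exact finite_of_iso ((HF A b₀).mapIso eL.symm ≪≫ HQ (G.obj P₀) b₀ ≪≫ homologyTopIso b₀ (vanishesAbove_ext φ hPb) ≪≫
    (PreservesCokernel.iso F (P₀.d (b₀ - 1) b₀)).symm) (finite_top (m := b₀) (pc_mono (by omega) h))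

lemma pc_cone_ext {P₀ : DRing.Cx R} (hP : DCat.IsKFlatFor (DCat.modT R) P₀) {K : Dual.D R} (e : DRing.toD P₀ ≅ K) {E : DRing.Cx R} {b : ℤ}
    (hFv : DRing.VanishesOutside E b b) (hFf : DRing.TermwiseFiniteFree E) (hFk : DCat.IsKFlatFor (DCat.modT R) E)
    (f : E ⟶ P₀) [DRing.HasLBaseChange φ] {m : ℤ}
    (h : DRing.IsPseudoCoherent A m ((DRing.LBaseChange φ).obj K)) (hm : m ≤ b) :
    DRing.IsPseudoCoherent A m ((DRing.LBaseChange φ).obj (DRing.toD (CochainComplex.mappingCone f))) := by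
  let F := ModuleCat.extendScalars.{u, u, u} φ
  let G := F.mapHomologicalComplex (ComplexShape.up ℤ)
  let eL : DRing.toD (G.obj P₀) ≅ (DRing.LBaseChange φ).obj K :=
    (DCat.lbaseChangeIso φ hP).symm ≪≫ (DRing.LBaseChange φ).mapIso e
  have h1 : DRing.IsPseudoCoherent A (m + 1) (DRing.toD (G.obj E)) :=
    ⟨_, b, b, 𝟙 _, fun i hi => F.map_isZero (hFv i hi), finiteFree_ext φ hFf, apx_of_isIso _ (𝟙 _)⟩
  have h3 := pc_cone (DerivedCategory.mappingCone_triangle_distinguished (G.map f)) h1 (pc_iso eL.symm h)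
  exact pc_iso (DerivedCategory.Q.mapIso (CochainComplex.mappingCone.mapHomologicalComplexIso f F).symm ≪≫
    (DCat.lbaseChangeIso φ (DCat.isKFlatFor_cone f hFk hP)).symm) h3

variable [DRing.HasLBaseChange φ] [DRing.HasLBaseChange ψ]

/-- `m`-pseudo-coherence descends. -/
theorem pc_descend₂ (hφ : Function.Surjective φ) (hψ : Function.Surjective ψ)
    (h0 : RingHom.ker φ * RingHom.ker ψ = ⊥) (m : ℤ) :
    ∀ (n : ℕ) (b : ℤ) (K : Dual.D R), K.IsLE b → b < m + n →
      DRing.IsPseudoCoherent A m ((DRing.LBaseChange φ).obj K) →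
        DRing.IsPseudoCoherent B m ((DRing.LBaseChange ψ).obj K) → DRing.IsPseudoCoherent R m K := by
  intro n
  induction n with
  | zero =>
    intro b K hK hb _ _
    haveI := hK
    exact pc_of_isLE (n := b) (by omega)
  | succ n ih =>
    intro b K hK hb h h'
    haveI := hK
    by_cases hbm : b < m
    · exact pc_of_isLE (n := b) hbm
    obtain ⟨P, hP, -, hPb, ⟨e⟩⟩ := DCat.exists_flat_rep (b := b) (K := K)
      fun i hi => DerivedCategory.isZero_of_isLE K b i hi
    have hfinP : Module.Finite R (cokernel (P.d (b - 1) b) : ModuleCat.{u} R) :=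
      finite_of_ext₂ φ ψ hφ hψ h0 _ (finite_ext_top φ hP hPb e b hbm rfl h) (finite_ext_top ψ hP hPb e b hbm rfl h')
    have hfin : Module.Finite R ((HF R b).obj (DRing.toD P)) :=
      finite_of_iso ((homologyTopIso b hPb).symm ≪≫ (HQ P b).symm) hfinP
    haveI hPle : (DRing.toD P).IsLE b := DCat.isLE_Q_of_vanishesAbove hPb
    obtain ⟨r, g, hg⟩ := exists_cover (DRing.toD P) b hfin
    obtain ⟨hFv, hFf⟩ := freeAt_finiteFree (R := R) b r
    haveI := isKProjective_of_outside hFv (projective_of_free hFf)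
    obtain ⟨ψ', rfl⟩ := exists_Q_map g
    have hC : (DRing.toD (CochainComplex.mappingCone ψ')).IsLE (b - 1) :=
      (apx_iff_isLE b _ (DerivedCategory.mappingCone_triangle_distinguished ψ')).1 ⟨fun i hi =>
        ⟨0, (isZero_hf_freeAt'' b r i (by omega)).eq_of_src _ _,
          (DerivedCategory.isZero_of_isLE (DRing.toD P) b i hi).eq_of_src _ _⟩, hg⟩
    have hFk := kflat_of_finiteFree (b := b) (fun i hi => hFv i (Or.inr hi)) hFf
    have hA := pc_cone_ext φ hP e hFv hFf hFk ψ' h (by omega)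
    have hB := pc_cone_ext ψ hP e hFv hFf hFk ψ' h' (by omega)
    have hCpc := ih (b - 1) _ hC (by omega) hA hB
    exact pc_iso e (pc_ext (DerivedCategory.mappingCone_triangle_distinguished ψ') (pc_freeAt b r m) hCpc)
where
  isZero_hf_freeAt'' (b : ℤ) (r : ℕ) (i : ℤ) (h : i ≠ b) : IsZero ((HF R i).obj (DRing.toD (freeAt R b r))) :=
    IsZero.of_iso ((exactAt_iff_isZero_homology _ _).1 (ExactAt.of_isZero
      (isZero_single_obj_X _ _ _ _ h))) (HQ (freeAt R b r) i)


/-- Exactness against all modules from exactness against those killed by either kernel. -/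
lemma exactAt_of_killed₂ (I J : Ideal R) (h0 : I * J = ⊥) (P : DRing.Cx R) (hPf : DRing.TermwiseFlat P) (i : ℤ)
    (hI : ∀ N : ModuleCat.{u} R, I • (⊤ : Submodule R N) = ⊥ → (DRing.tensorCx P N).ExactAt i)
    (hJ : ∀ N : ModuleCat.{u} R, J • (⊤ : Submodule R N) = ⊥ → (DRing.tensorCx P N).ExactAt i)
    (M : ModuleCat.{u} R) : (DRing.tensorCx P M).ExactAt i := by
  let N : Submodule R M := I • ⊤
  let S : ShortComplex (ModuleCat.{u} R) :=
    ShortComplex.mk (ModuleCat.ofHom N.subtype : ModuleCat.of R N ⟶ M)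
      (ModuleCat.ofHom N.mkQ : M ⟶ ModuleCat.of R (M ⧸ N))
      (ModuleCat.hom_ext (LinearMap.ext fun x => (Submodule.Quotient.mk_eq_zero N).2 x.2))
  have hS : S.ShortExact :=
    { exact := (ShortComplex.moduleCat_exact_iff_range_eq_ker S).2 (by simp [S])
      mono_f := (ModuleCat.mono_iff_injective _).2 N.injective_subtype
      epi_g := (ModuleCat.epi_iff_surjective _).2 N.mkQ_surjective }
  refine DCat.exactAt_tensor_ext₂ P hPf hS i (hJ _ (le_bot_iff.1 fun x hx => ?_)) (hI _ (le_bot_iff.1 fun x hx => ?_))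
  · have h1 := Submodule.mem_map_of_mem (f := N.subtype) hx
    rw [Submodule.map_smul'', Submodule.map_subtype_top, ← Submodule.mul_smul, mul_comm, h0, Submodule.bot_smul] at h1
    exact Subtype.ext ((Submodule.mem_bot R).1 h1)
  · obtain ⟨x, rfl⟩ := N.mkQ_surjective x
    refine (Submodule.Quotient.mk_eq_zero N).2 ?_
    have h1 : N.mkQ x ∈ (I • ⊤ : Submodule R M).map N.mkQ := by
      rw [Submodule.map_smul'', Submodule.map_top, Submodule.range_mkQ]; exact hx
    rwa [Submodule.mkQ_map_self, Submodule.mem_bot, Submodule.mkQ_apply, Submodule.Quotient.mk_eq_zero] at h1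

/-- Perfectness descends along a pair of surjections with `ker * ker = 0`. -/
theorem perfect_descend₂ (hφ : Function.Surjective φ) (hψ : Function.Surjective ψ)
    (h0 : RingHom.ker φ * RingHom.ker ψ = ⊥) (K : Dual.D R)
    (hA : DRing.IsPerfect A ((DRing.LBaseChange φ).obj K)) (hB : DRing.IsPerfect B ((DRing.LBaseChange ψ).obj K)) :
    DRing.IsPerfect R K := by
  haveI : ∀ M : ModuleCat.{u} R, DRing.HasLTensor R M := fun M => DCat.hasLTensor M
  haveI : ∀ M : ModuleCat.{u} A, DRing.HasLTensor A M := fun M => DCat.hasLTensor M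
  haveI : ∀ M : ModuleCat.{u} B, DRing.HasLTensor B M := fun M => DCat.hasLTensor M
  obtain ⟨hpA, a₁, b₁, tA⟩ := (perfect_iff _).1 hA
  obtain ⟨hpB, a₂, b₂, tB⟩ := (perfect_iff _).1 hB
  have tA' := torAmplitude_mono tA (min_le_left a₁ a₂) (le_max_left b₁ b₂)
  have tB' := torAmplitude_mono tB (min_le_right a₁ a₂) (le_max_right b₁ b₂)
  obtain ⟨P, c, hP, hPf, hc, -⟩ := DCat.exists_kflat (DerivedCategory.Q.objPreimage K)
  haveI := hc
  let e : DRing.toD P ≅ K := asIso (DerivedCategory.Q.map c) ≪≫ DerivedCategory.Q.objObjPreimageIso K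
  have hex : ∀ i, (i < min a₁ a₂ ∨ max b₁ b₂ < i) → ∀ M, (DRing.tensorCx P M).ExactAt i := fun i hi M =>
    exactAt_of_killed₂ (RingHom.ker φ) (RingHom.ker ψ) h0 P hPf i
      (fun N hN => by
        obtain ⟨M₀, ⟨eN⟩⟩ := DCat.exists_restrict_of_killed φ hφ N hN
        exact ((DCat.isZero_ltensor_base_iff φ hP e M₀ i).1 (DCat.vanish_of_flatAmp tA' M₀ hi)).of_iso
          ((NatIso.mapHomologicalComplex ((MonoidalCategory.tensoringRight (ModuleCat.{u} R)).mapIso eN) _).app P))
      (fun N hN => by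
        obtain ⟨M₀, ⟨eN⟩⟩ := DCat.exists_restrict_of_killed ψ hψ N hN
        exact ((DCat.isZero_ltensor_base_iff ψ hP e M₀ i).1 (DCat.vanish_of_flatAmp tB' M₀ hi)).of_iso
          ((NatIso.mapHomologicalComplex ((MonoidalCategory.tensoringRight (ModuleCat.{u} R)).mapIso eN) _).app P))
      M
  have hK : K.IsLE (max b₁ b₂) := (DerivedCategory.isLE_iff K _).2 fun i hi =>
    DCat.exactAt_of_vanish ((DCat.isZero_ltensor_iff _ hP e i).2 (hex i (Or.inr hi) _))
  refine (perfect_iff K).2 ⟨pc'_of_forall fun m =>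
    pc_descend₂ φ ψ hφ hψ h0 m (max b₁ b₂ + 1 - m).toNat (max b₁ b₂) K hK (by omega) (pc_of_pc' hpA m) (pc_of_pc' hpB m),
    min a₁ a₂, max b₁ b₂, DCat.flatAmp_of_vanish fun M i hi => (DCat.isZero_ltensor_iff M hP e i).2 (hex i hi M)⟩

end Groth.Agent.DRingLib
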