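import Groth.Agent.DRingLib.PCGen
import Mathlib.Data.Int.Interval
import Groth.Agent.DCat.LTensorCx
import Groth.Agent.DCat.LTensorModule

/-! Derived tensor products of pseudo-coherent objects. -/

set_option autoImplicit false
set_option backward.isDefEq.respectTransparency false
set_option backward.defeqAttrib.useBackward true
set_option linter.style.haveILetI false

universe u

open CategoryTheory CategoryTheory.Limits HomologicalComplex MonoidalCategory
open Groth.Agent.DCat

attribute [local instance] HasDerivedCategory.standard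

namespace Groth.Agent.DRingLib

variable {R : Type u} [CommRing R]

lemma finiteFree_of_biproduct {J : Type} [Fintype J] [DecidableEq J] {M : ModuleCat.{u} R}
    (g : J → ModuleCat.{u} R) (ι : ∀ j, g j ⟶ M) (π : ∀ j, M ⟶ g j)
    (h : ∀ j, ι j ≫ π j = 𝟙 _) (h' : ∀ j k, j ≠ k → ι j ≫ π k = 0) (hid : ∑ j, π j ≫ ι j = 𝟙 M)
    (hg : ∀ j, Module.Free R (g j) ∧ Module.Finite R (g j)) : Module.Finite R M ∧ Module.Free R M := by
  haveI := fun j => (hg j).1
  haveI := fun j => (hg j).2
  have e : M ≃ₗ[R] (∀ j, g j) :=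
    LinearEquiv.ofLinearMap (LinearMap.pi fun j => (π j).hom)
      (∑ j, (ι j).hom.comp (LinearMap.proj j))
      (by
        refine LinearMap.pi_ext' fun k => LinearMap.ext fun x => funext fun j => ?_
        simp only [LinearMap.comp_apply, LinearMap.pi_apply, LinearMap.sum_apply, LinearMap.single_apply, LinearMap.proj_apply, LinearMap.id_comp, map_sum]
        rw [Finset.sum_eq_single k (fun l _ hl => by simp [Pi.single_eq_of_ne hl]) (by simp), Pi.single_eq_same]
        by_cases hj : j = k
        · subst hj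
          rw [Pi.single_eq_same]
          exact congrArg (fun t => t.hom x) (h j)
        · rw [Pi.single_eq_of_ne hj]
          exact congrArg (fun t => t.hom x) (h' k j (Ne.symm hj)))
      (LinearMap.ext fun x => by
        have := congrArg (fun t => t.hom x) hid
        simpa [ModuleCat.hom_sum, LinearMap.sum_apply] using this)
  exact ⟨Module.Finite.equiv e.symm, Module.Free.of_equiv e.symm⟩

theorem termwiseFiniteFree_tensor {P Q : DRing.Cx R} {b c : ℤ} (hP : DRing.VanishesAbove P b)
    (hQ : DRing.VanishesAbove Q c) (hP' : DRing.TermwiseFiniteFree P) (hQ' : DRing.TermwiseFiniteFree Q) :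
    DRing.VanishesAbove (P ⊗ Q) (b + c) ∧ DRing.TermwiseFiniteFree (P ⊗ Q) := by
  classical
  have hz : ∀ p q : ℤ, (b < p ∨ c < q) → IsZero (((modT R).obj (P.X p)).obj (Q.X q)) := by
    intro p q h
    rcases h with h | h
    · exact Functor.map_isZero ((modT R).flip.obj (Q.X q)) (hP p h)
    · exact Functor.map_isZero ((modT R).obj (P.X p)) (hQ q h)
  refine ⟨fun n hn => ?_, fun n => ?_⟩
  · rw [IsZero.iff_id_eq_zero]
    exact mapBifunctor.hom_ext fun p q h => (hz p q (by simp at h; omega)).eq_of_src _ _
  · let S := {p : ℤ // p ∈ Finset.Icc (n - c) b}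
    refine finiteFree_of_biproduct (J := S) (M := (mapBifunctor P Q (modT R) (ComplexShape.up ℤ)).X n) (fun j => ((modT R).obj (P.X j.1)).obj (Q.X (n - j.1)))
      (fun j => ιMapBifunctor P Q (modT R) (ComplexShape.up ℤ) j.1 (n - j.1) n (by simp))
      (fun j => mapBifunctorDesc fun p q h => if hp : p = j.1 then
        eqToHom (by
          obtain rfl := hp
          obtain rfl : q = n - j.1 := by simp at h; omega
          rfl) else 0) ?_ ?_ ?_ ?_
    · intro j
      simp
    · intro j k hjk
      simp [show j.1 ≠ k.1 from fun h => hjk (Subtype.ext h)]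
    · refine mapBifunctor.hom_ext fun p q h => ?_
      rw [Category.comp_id, Preadditive.comp_sum]
      by_cases hp : p ∈ Finset.Icc (n - c) b
      · rw [Finset.sum_eq_single (⟨p, hp⟩ : S) (fun l _ hl => by
          simp [show p ≠ l.1 from fun e => hl (Subtype.ext e.symm)]) (by simp)]
        obtain rfl : q = n - p := by simp at h; omega
        simp
      · exact (hz p q (by simp at hp h; omega)).eq_of_src _ _
    · intro j

      haveI := (hP' j.1).1
      haveI := (hP' j.1).2
      haveI := (hQ' (n - j.1)).1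
      haveI := (hQ' (n - j.1)).2
      exact ⟨inferInstanceAs (Module.Free R (TensorProduct R (P.X j.1) (Q.X (n - j.1)))),
        inferInstanceAs (Module.Finite R (TensorProduct R (P.X j.1) (Q.X (n - j.1))))⟩

theorem pc'_tensor {K : Dual.D R} (hK : DRing.IsPseudoCoherent' R K) {L : DRing.Cx R}
    (hL : DRing.IsPseudoCoherent' R (DRing.toD L)) [DRing.HasLTensorCx R L] :
    DRing.IsPseudoCoherent' R ((DRing.LTensorCx R L).obj K) := by
  obtain ⟨P, b, hPb, hPf, ⟨eP⟩⟩ := hK
  obtain ⟨Q, c, hQc, hQf, ⟨eQ⟩⟩ := hL
  have hflat : DRing.TermwiseFlat P := fun i => by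
    haveI := projective_of_free hPf i
    exact Module.Flat.of_projective
  have hPk := isKFlatFor_of_vanishesAbove P b hPb hflat
  haveI := isKProjective_of_vanishesAbove Q c hQc (projective_of_free hQf)
  obtain ⟨g, hg⟩ := exists_Q_map eQ.hom
  haveI : QuasiIso g := by
    rw [← DerivedCategory.isIso_Q_map_iff_quasiIso, hg]
    infer_instance
  haveI : QuasiIso (totMap₁ (modT R) g P) := hPk.quasiIso_map g
  haveI : QuasiIso (totMap₂ (modT R) P g) := by
    refine (quasiIso_iff_comp_left (totSymm Q P).hom _).1 ?_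
    rw [← show totMap₁ (modT R) g P ≫ (totSymm L P).hom = (totSymm Q P).hom ≫ totMap₂ (modT R) P g from
      totSymm_natural g (𝟙 P)]
    infer_instance
  haveI : IsIso (DerivedCategory.Q.map (totMap₂ (modT R) P g)) :=
    (DerivedCategory.isIso_Q_map_iff_quasiIso _ _).2 ‹_›
  obtain ⟨h1, h2⟩ := termwiseFiniteFree_tensor hPb hQc hPf hQf
  exact ⟨P ⊗ Q, b + c, h1, h2, ⟨asIso (DerivedCategory.Q.map (totMap₂ (modT R) P g)) ≪≫
    (ltensorCxIso L hPk).symm ≪≫ (DRing.LTensorCx R L).mapIso eP⟩⟩

end Groth.Agent.DRingLib
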