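import Groth.Agent.DRingLib.PCGen

/-! Perfect objects from perfect terms or perfect cohomology. -/

set_option autoImplicit false
set_option backward.isDefEq.respectTransparency false
set_option backward.defeqAttrib.useBackward true
set_option linter.style.haveILetI false

universe u

open CategoryTheory CategoryTheory.Limits CategoryTheory.Pretriangulated HomologicalComplex
open Groth.Agent.DCat
open scoped ZeroObject

attribute [local instance] HasDerivedCategory.standard

namespace Groth.Agent.DRingLib

variable {R : Type u} [CommRing R]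

theorem perfect_of_isZero {K : Dual.D R} (h : IsZero K) : DRing.IsPerfect R K :=
  ⟨0, 0, 0, fun i _ => (HomologicalComplex.eval _ _ i).map_isZero (isZero_zero _),
    fun i => by
      haveI : Subsingleton ((0 : DRing.Cx R).X i) :=
        ModuleCat.subsingleton_of_isZero ((HomologicalComplex.eval _ _ i).map_isZero (isZero_zero _))
      exact ⟨inferInstance, inferInstance⟩,
    ⟨(DerivedCategory.Q.map_isZero (isZero_zero _)).iso h⟩⟩

lemma perfectModule_retract {X Y : ModuleCat.{u} R} (r : Retract X Y)
    (h : DRing.IsPerfectModule R Y) : DRing.IsPerfectModule R X :=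
  perfect_retract (r.map (DerivedCategory.singleFunctor (ModuleCat.{u} R) 0)) h

theorem perfect_of_terms (K : DRing.Cx R) {a b : ℤ} (hab : DRing.VanishesOutside K a b)
    (h : ∀ i, DRing.IsPerfectModule R (K.X i)) : DRing.IsPerfect R (DRing.toD K) :=
  bounded_induction
    (fun E : DRing.Cx R => (∀ i, DRing.IsPerfectModule R (E.X i)) → DRing.IsPerfect R (DRing.toD E))
    (fun _ => True)
    (fun E hE _ => perfect_of_isZero (DerivedCategory.Q.map_isZero hE))
    (fun _ _ => trivial) (fun _ _ _ _ => trivial)
    (fun n X _ hX => perfect_of_iso (singleIso n X)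
      (perfect_shift (perfectModule_retract (singleObjXSelf (ComplexShape.up ℤ) n X).symm.retract (hX n)) (-n)))
    (fun S hS h₁ h₃ hX => by
      refine perfect_ext (DerivedCategory.triangleOfSES_distinguished
        (shortExact_of_degreewise_shortExact _ fun k => ((hS k).some).shortExact)) ?_ ?_
      · exact h₁ fun i => perfectModule_retract ⟨S.f.f i, (hS i).some.r, (hS i).some.f_r⟩ (hX i)
      · exact h₃ fun i => perfectModule_retract ⟨(hS i).some.s, S.g.f i, (hS i).some.s_g⟩ (hX i))
    a (b + 1 - a).toNat K (fun n hn => hab n (Or.inl hn)) (fun n hn => hab n (Or.inr (by omega))) (fun _ => trivial) h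

theorem perfect_of_perfect_homology : ∀ {K : Dual.D R} {a b : ℤ}, K.IsGE a → K.IsLE b →
    (∀ i, DRing.IsPerfectModule R (Dual.HD R K i)) → DRing.IsPerfect R K := by
  suffices h : ∀ (k : ℕ) (a : ℤ) (K : Dual.D R), K.IsGE a → K.IsLE (a - 1 + k) →
      (∀ i, DRing.IsPerfectModule R (Dual.HD R K i)) → DRing.IsPerfect R K from
    fun {K a b} hG hK => h (b - a + 1).toNat a K hG
      (@DerivedCategory.TStructure.t (ModuleCat.{u} R) _ _ _ |>.isLE_of_le K b _ (by omega))
  intro k
  induction k with
  | zero =>
    intro a K hG hK _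
    haveI := hK
    haveI := hG
    exact perfect_of_isZero ((IsZero.iff_id_eq_zero _).2
      ((@DerivedCategory.TStructure.t (ModuleCat.{u} R) _ _ _).zero (𝟙 K) (a - 1 + ((0 : ℕ) : ℤ)) a (by omega)))
  | succ k ih =>
    intro a K hG hK h
    haveI := hK
    haveI := hG
    let b : ℤ := a + k
    let t := @DerivedCategory.TStructure.t (ModuleCat.{u} R) _ _ _
    have hT := t.triangleLTGE_distinguished b K
    haveI h1 : ((t.truncLT b).obj K).IsLE (b - 1) := t.isLE_truncLT_obj K b (b - 1) (by omega)
    haveI h3 : ((t.truncGE b).obj K).IsGE b := t.isGE_truncGE_obj K b b (by omega)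
    haveI h3' : ((t.truncGE b).obj K).IsLE b := by
      rw [DerivedCategory.isLE_iff]
      intro j hj
      haveI : Epi ((HF R j).map ((t.truncGEπ b).app K)) :=
        (DerivedCategory.HomologySequence.epi_homologyMap_mor₂_iff _ hT j (j + 1) rfl).2
          ((DerivedCategory.isZero_of_isLE ((t.truncLT b).obj K) (b - 1) (j + 1) (by omega)).eq_of_tgt _ _)
      exact IsZero.of_epi ((HF R j).map ((t.truncGEπ b).app K))
        (DerivedCategory.isZero_of_isLE K (a - 1 + ((k + 1 : ℕ) : ℤ)) j (by omega))
    haveI hlow : ∀ i, i < b → IsIso ((HF R i).map ((Triangulated.TStructure.triangleLTGE t b).obj K).mor₁) :=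
      fun i hi => by
        haveI : (Triangulated.TStructure.triangleLTGE t b).obj K |>.obj₃.IsGE b := h3
        exact homology_iso_of_isGE₃ hT b i hi
    refine perfect_ext hT (ih a _ ?_ ?_ fun i => ?_) ?_
    · show ((t.truncLT b).obj K).IsGE a
      rw [DerivedCategory.isGE_iff]
      intro i hi
      haveI := hlow i (by omega)
      exact (DerivedCategory.isZero_of_isGE K a i hi).of_iso
        (asIso ((HF R i).map ((Triangulated.TStructure.triangleLTGE t b).obj K).mor₁))
    · show ((t.truncLT b).obj K).IsLE _
      exact t.isLE_of_le _ (b - 1) _ (by omega)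
    · by_cases hi : i < b
      · haveI := hlow i hi
        exact perfectModule_retract (asIso ((HF R i).map ((Triangulated.TStructure.triangleLTGE t b).obj K).mor₁)).retract (h i)
      · have hz := DerivedCategory.isZero_of_isLE ((t.truncLT b).obj K) (b - 1) i (by omega)
        exact perfectModule_retract ⟨0, 0, hz.eq_of_src _ _⟩ (h i)
    · haveI : Epi ((HF R b).map ((t.truncGEπ b).app K)) :=
        (DerivedCategory.HomologySequence.epi_homologyMap_mor₂_iff _ hT b (b + 1) rfl).2
          ((DerivedCategory.isZero_of_isLE ((t.truncLT b).obj K) (b - 1) (b + 1) (by omega)).eq_of_tgt _ _)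
      haveI : Mono ((HF R b).map ((t.truncGEπ b).app K)) :=
        (DerivedCategory.HomologySequence.mono_homologyMap_mor₂_iff _ hT b).2
          ((DerivedCategory.isZero_of_isLE ((t.truncLT b).obj K) (b - 1) b (by omega)).eq_of_src _ _)
      haveI := isIso_of_mono_of_epi ((HF R b).map ((t.truncGEπ b).app K))
      obtain ⟨M, ⟨eM⟩⟩ := DerivedCategory.exists_iso_singleFunctor_obj_of_isGE_of_isLE ((t.truncGE b).obj K) b
      let e' : ((t.truncGE b).obj K) ≅ DerivedCategory.Q.obj
          ((HomologicalComplex.single (ModuleCat.{u} R) (ComplexShape.up ℤ) b).obj M) :=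
        eM ≪≫ (DerivedCategory.singleFunctorIsoCompQ (ModuleCat.{u} R) b).app M
      let eH : M ≅ (HF R b).obj K :=
        (singleObjHomologySelfIso (ComplexShape.up ℤ) b M).symm ≪≫ (HQ _ b).symm ≪≫ (HF R b).mapIso e'.symm ≪≫
          (asIso ((HF R b).map ((t.truncGEπ b).app K))).symm
      exact perfect_of_iso ((singleIso b M) ≪≫ e'.symm)
        (perfect_shift (perfectModule_retract eH.retract (h b)) (-b))

end Groth.Agent.DRingLib
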