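import Groth.Agent.DRingLib.FibreExact
import Groth.Agent.DRingLib.PCPerf
import Groth.Agent.DCat.Amplitude
import Mathlib.Algebra.Category.ModuleCat.Descent
import Mathlib.LinearAlgebra.Charpoly.BaseChange
import Mathlib.RingTheory.LocalRing.ResidueField.Ideal

/-! A complex of finite free modules exact on the fibre at a prime is split exact nearby. -/

set_option autoImplicit false
set_option backward.isDefEq.respectTransparency false
set_option backward.defeqAttrib.useBackward true
set_option linter.style.haveILetI false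

universe u

open CategoryTheory CategoryTheory.Limits TensorProduct Polynomial

attribute [local instance] HasDerivedCategory.standard

namespace Groth.Agent.DRingLib.SplitFibre17

variable {R : Type u} [CommRing R] {F G H : Type u} [AddCommGroup F] [Module R F] [AddCommGroup G] [Module R G]
  [AddCommGroup H] [Module R H]

/-- Elements of the fibre, up to a denominator. -/
theorem exists_smul_eq_tmul (p : Ideal R) [p.IsPrime] (z : p.ResidueField ⊗[R] G) :
    ∃ a : R, a ∉ p ∧ ∃ y : G, (1 : p.ResidueField) ⊗ₜ[R] y = a • z := by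
  induction z using TensorProduct.induction_on with
  | zero => exact ⟨1, p.primeCompl.one_mem, 0, by simp⟩
  | tmul c x =>
    obtain ⟨⟨r', d⟩, hd⟩ := IsLocalization.surj (nonZeroDivisors (R ⧸ p)) c
    obtain ⟨r, rfl⟩ := Ideal.Quotient.mk_surjective r'
    obtain ⟨a, ha⟩ := Ideal.Quotient.mk_surjective (d : R ⧸ p)
    refine ⟨a, fun h => ?_, r • x, ?_⟩
    · exact nonZeroDivisors.coe_ne_zero d (ha ▸ Ideal.Quotient.eq_zero_iff_mem.2 h)
    · rw [← smul_tmul, TensorProduct.smul_tmul']
      congr 1
      rw [Algebra.smul_def, Algebra.smul_def, mul_one, IsScalarTower.algebraMap_apply R (R ⧸ p) p.ResidueField,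
        IsScalarTower.algebraMap_apply R (R ⧸ p) p.ResidueField a, Ideal.Quotient.algebraMap_eq, ha, mul_comm]
      exact hd.symm
  | add z w hz hw =>
    obtain ⟨a, ha, y, hy⟩ := hz
    obtain ⟨b, hb, y', hy'⟩ := hw
    refine ⟨a * b, p.primeCompl.mul_mem ha hb, b • y + a • y', ?_⟩
    rw [tmul_add, tmul_smul, tmul_smul, hy, hy', smul_add, smul_smul, smul_smul, mul_comm b a]

/-- Linear maps of fibres, up to a denominator. -/
theorem exists_smul_eq_baseChange [Module.Finite R G] [Module.Free R G] (p : Ideal R) [p.IsPrime]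
    (σ : p.ResidueField ⊗[R] G →ₗ[p.ResidueField] p.ResidueField ⊗[R] F) :
    ∃ a : R, a ∉ p ∧ ∃ s : G →ₗ[R] F, ∀ z, s.baseChange p.ResidueField z = a • σ z := by
  classical
  let b := Module.Free.chooseBasis R G
  choose c hc y hy using fun k => exists_smul_eq_tmul p (σ ((1 : p.ResidueField) ⊗ₜ[R] b k))
  refine ⟨∏ k, c k, p.primeCompl.prod_mem fun k _ => hc k,
    b.constr R fun k => (∏ l ∈ Finset.univ.erase k, c l) • y k, fun z => ?_⟩
  suffices (b.constr R fun k => (∏ l ∈ Finset.univ.erase k, c l) • y k).baseChange p.ResidueField =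
      (algebraMap R p.ResidueField (∏ k, c k)) • σ by
    rw [this, LinearMap.smul_apply, algebraMap_smul]
  refine (b.baseChange p.ResidueField).ext fun k => ?_
  rw [Module.Basis.baseChange_apply, LinearMap.baseChange_tmul, Module.Basis.constr_basis, LinearMap.smul_apply,
    algebraMap_smul, tmul_smul, hy, smul_smul, Finset.prod_erase_mul _ _ (Finset.mem_univ k)]

/-- Splitting data up to an element outside the prime. -/
theorem exists_unit_det [Module.Finite R G] [Module.Free R G] [Module.Finite R H] [Module.Free R H]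
    (f : F →ₗ[R] G) (g : G →ₗ[R] H) (p : Ideal R) [p.IsPrime]
    (hex : Function.Exact (f.baseChange p.ResidueField) (g.baseChange p.ResidueField)) :
    ∃ (s : G →ₗ[R] F) (t : H →ₗ[R] G), LinearMap.det (f ∘ₗ s + t ∘ₗ g) ∉ p := by
  let κ := p.ResidueField
  let fb := f.baseChange κ
  let gb := g.baseChange κ
  obtain ⟨r, hr⟩ := ((LinearMap.ker gb).liftQ gb le_rfl).exists_leftInverse_of_injective
    (Submodule.ker_liftQ_eq_bot _ _ _ le_rfl)
  obtain ⟨σ, hσ⟩ := (LinearMap.ker gb).mkQ.exists_rightInverse_of_surjective (Submodule.range_mkQ _)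
  let tb := σ ∘ₗ r
  have hker : ∀ x, x - tb (gb x) ∈ LinearMap.range fb := fun x => by
    rw [← LinearMap.exact_iff.1 hex, ← Submodule.Quotient.mk_eq_zero, Submodule.Quotient.mk_sub, sub_eq_zero]
    refine (((LinearMap.congr_fun hσ (r (gb x))).trans ?_)).symm
    exact LinearMap.congr_fun hr (Submodule.Quotient.mk x)
  haveI : Module.Free κ (LinearMap.range fb) :=
    @Module.Free.of_divisionRing κ (LinearMap.range fb) (inferInstance : Field p.ResidueField).toDivisionRing _ _
  haveI : Module.Projective κ (LinearMap.range fb) := Module.Projective.of_free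
  obtain ⟨ρ, hρ⟩ := fb.rangeRestrict.exists_rightInverse_of_surjective (LinearMap.range_rangeRestrict _)
  let sb := ρ ∘ₗ (LinearMap.id - tb ∘ₗ gb).codRestrict (LinearMap.range fb) hker
  have hsum : ∀ x, fb (sb x) + tb (gb x) = x := fun x => by
    have h := congrArg Subtype.val (LinearMap.congr_fun hρ
      ((LinearMap.id - tb ∘ₗ gb).codRestrict (LinearMap.range fb) hker x))
    rw [show fb (sb x) = x - tb (gb x) from h]
    abel
  obtain ⟨a, ha, s, hs⟩ := exists_smul_eq_baseChange p sb
  obtain ⟨c, hc, t, ht⟩ := exists_smul_eq_baseChange p tb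
  refine ⟨c • s, a • t, fun hmem => ?_⟩
  have hu : (f ∘ₗ (c • s) + (a • t) ∘ₗ g).baseChange κ = (algebraMap R κ (a * c)) • (1 : Module.End κ (κ ⊗[R] G)) := by
    refine LinearMap.ext fun z => ?_
    rw [LinearMap.baseChange_add, LinearMap.baseChange_comp, LinearMap.baseChange_comp, LinearMap.baseChange_smul,
      LinearMap.baseChange_smul, LinearMap.add_apply, LinearMap.comp_apply, LinearMap.comp_apply,
      LinearMap.smul_apply, LinearMap.smul_apply, LinearMap.smul_apply, hs, ht, Module.End.one_apply,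
      algebraMap_smul, smul_smul, LinearMap.map_smul_of_tower (LinearMap.baseChange κ f) (c * a) (sb z), smul_smul,
      mul_comm c a, ← smul_add]
    exact congrArg ((a * c) • ·) (hsum z)
  have h1 : LinearMap.det ((f ∘ₗ (c • s) + (a • t) ∘ₗ g).baseChange κ) = 0 := by
    rw [LinearMap.det_baseChange]
    exact Ideal.algebraMap_residueField_eq_zero.2 hmem
  rw [hu, LinearMap.det_smul, map_one, mul_one] at h1
  exact p.primeCompl.mul_mem ha hc (Ideal.algebraMap_residueField_eq_zero.1 (pow_eq_zero_iff'.1 h1).1)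

/-- A splitting up to a unit determinant lets cocycles factor. -/
theorem exists_factor {M : Type u} [AddCommGroup M] [Module R M] [Module.Finite R G] [Module.Free R G]
    (f : F →ₗ[R] G) (g : G →ₗ[R] H) (s : G →ₗ[R] F) (t : H →ₗ[R] G)
    (hu : IsUnit (LinearMap.det (f ∘ₗ s + t ∘ₗ g))) (hgf : g ∘ₗ f = 0) (φ : G →ₗ[R] M) (hφ : φ ∘ₗ f = 0) :
    ∃ ψ : H →ₗ[R] M, ψ ∘ₗ g = φ := by
  let u : Module.End R G := f ∘ₗ s + t ∘ₗ g
  let w : Module.End R H := g ∘ₗ t
  have hw : ∀ x, g (u x) = w (g x) := fun x => by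
    have h0 : g (f (s x)) = 0 := LinearMap.congr_fun hgf (s x)
    show g (f (s x) + t (g x)) = g (t (g x))
    rw [map_add, h0, zero_add]
  have hpow : ∀ (k : ℕ) x, g ((u ^ k) x) = (w ^ k) (g x) := fun k => by
    induction k with
    | zero => exact fun x => rfl
    | succ k ih => exact fun x => by rw [pow_succ', pow_succ', Module.End.mul_apply, Module.End.mul_apply, hw, ih]
  let C := u.charpoly
  have hc0 : IsUnit (C.coeff 0) := by
    have h := hu
    rw [LinearMap.det_eq_sign_charpoly_coeff] at h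
    exact isUnit_of_mul_isUnit_right h
  obtain ⟨c, hc⟩ := hc0
  let Θ := aeval w C.divX
  have hq : ∀ (q : R[X]) x, g ((aeval u q) x) = (aeval w q) (g x) := fun q x => by
    induction q using Polynomial.induction_on' with
    | add q r hq hr => simp [hq, hr]
    | monomial k a => simp [aeval_monomial, hpow, Algebra.algebraMap_eq_smul_one]
  refine ⟨-(↑c⁻¹ : R) • (φ ∘ₗ t ∘ₗ Θ), LinearMap.ext fun x => ?_⟩
  have hC : (aeval u C) x = 0 := by rw [LinearMap.aeval_self_charpoly]; rfl
  have hsplit : u ((aeval u C.divX) x) + (c : R) • x = 0 := by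
    rw [← hC]
    conv_rhs => rw [← X_mul_divX_add C]
    rw [map_add, map_mul, aeval_X, aeval_C, hc, Algebra.algebraMap_eq_smul_one]
    simp
  have hφu : ∀ y, φ (u y) = φ (t (g y)) := fun y => by
    have h0 : φ (f (s y)) = 0 := LinearMap.congr_fun hφ (s y)
    show φ (f (s y) + t (g y)) = _
    rw [map_add, h0, zero_add]
  have h1 := congrArg φ hsplit
  rw [map_add, map_smul, hφu, hq, map_zero, add_eq_zero_iff_eq_neg] at h1
  show (-(↑c⁻¹ : R)) • φ (t (Θ (g x))) = φ x
  rw [h1, smul_neg, neg_smul, neg_neg, smul_smul, Units.inv_mul, one_smul]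

/-- Maps to modules in degree `i` from a complex with a splitting at `i` vanish. -/
theorem subsingleton_hom {P : DRing.Cx R} {b : ℤ} (hPb : DRing.VanishesAbove P b) (hPf : DRing.TermwiseFiniteFree P)
    {K : Dual.D R} (e : DRing.toD P ≅ K) (i : ℤ) (s : P.X i →ₗ[R] P.X (i - 1)) (t : P.X (i + 1) →ₗ[R] P.X i)
    (hu : IsUnit (LinearMap.det ((P.d (i - 1) i).hom ∘ₗ s + t ∘ₗ (P.d i (i + 1)).hom)))
    (M : Type u) [AddCommGroup M] [Module R M] :
    Subsingleton (K ⟶ (shiftFunctor (Dual.D R) (-i)).obj (Dual.inD R M)) := by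
  haveI : P.IsStrictlyLE b := (CochainComplex.isStrictlyLE_iff P b).2 hPb
  haveI : ∀ j, Projective (P.X j) := fun j => by
    haveI := (hPf j).2
    haveI : Projective (ModuleCat.of R (P.X j)) := inferInstance
    exact this
  haveI := CochainComplex.isKProjective_of_projective P b
  haveI := (hPf i).1
  haveI := (hPf i).2
  have h0 : ∀ φ : K ⟶ (shiftFunctor (Dual.D R) (-i)).obj (Dual.inD R M), φ = 0 := by
    refine (DCat.Amplitude.to_shift_iff e (ModuleCat.of R M) (-i)).2 ?_
    rw [neg_neg]
    refine (DCat.Amplitude.to_single_iff P (ModuleCat.of R M) i).2 fun φ hφ => ?_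
    obtain ⟨ψ, hψ⟩ := exists_factor (P.d (i - 1) i).hom (P.d i (i + 1)).hom s t hu
      (congrArg ModuleCat.Hom.hom (P.d_comp_d (i - 1) i (i + 1))) φ.hom (congrArg ModuleCat.Hom.hom hφ)
    exact ⟨ModuleCat.ofHom ψ, ModuleCat.hom_ext hψ.symm⟩
  exact ⟨fun a b => (h0 a).trans (h0 b).symm⟩

/-- Exactness of an extended complex, as exactness of base changes. -/
theorem exact_baseChange {A : Type u} [CommRing A] [alg : Algebra R A] (P : DRing.Cx R) (i : ℤ)
    (h : (((ModuleCat.extendScalars.{u, u, u} (algebraMap R A)).mapHomologicalComplex (ComplexShape.up ℤ)).obj P).ExactAt i) :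
    Function.Exact ((P.d (i - 1) i).hom.baseChange A) ((P.d i (i + 1)).hom.baseChange A) := by
  suffices H : ∀ (φ : R →+* A), φ.toAlgebra = alg →
      (((ModuleCat.extendScalars.{u, u, u} φ).mapHomologicalComplex (ComplexShape.up ℤ)).obj P).ExactAt i →
      Function.Exact ((P.d (i - 1) i).hom.baseChange A) ((P.d i (i + 1)).hom.baseChange A) from
    H (algebraMap R A) (Algebra.algebra_ext _ _ fun _ => rfl) h
  intro φ hφ h
  subst hφ
  rw [HomologicalComplex.exactAt_iff' (i := i - 1) (j := i) (k := i + 1) _ (by simp) (by simp),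
    ShortComplex.ShortExact.moduleCat_exact_iff_function_exact] at h
  exact h

/-- Extended complexes of finite free modules, with the splitting determinant. -/
theorem exists_extend {A : Type u} [CommRing A] (φ : R →+* A) {P : DRing.Cx R} (hPf : DRing.TermwiseFiniteFree P)
    (i : ℤ) (s : P.X i →ₗ[R] P.X (i - 1)) (t : P.X (i + 1) →ₗ[R] P.X i)
    (hu : IsUnit (φ (LinearMap.det ((P.d (i - 1) i).hom ∘ₗ s + t ∘ₗ (P.d i (i + 1)).hom)))) :
    let E := ((ModuleCat.extendScalars.{u, u, u} φ).mapHomologicalComplex (ComplexShape.up ℤ)).obj P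
    DRing.TermwiseFiniteFree E ∧ ∃ (s' : E.X i →ₗ[A] E.X (i - 1)) (t' : E.X (i + 1) →ₗ[A] E.X i),
      IsUnit (LinearMap.det ((E.d (i - 1) i).hom ∘ₗ s' + t' ∘ₗ (E.d i (i + 1)).hom)) := by
  intro E
  letI := φ.toAlgebra
  haveI := (hPf i).1
  haveI := (hPf i).2
  refine ⟨fun j => ?_, s.baseChange A, t.baseChange A, ?_⟩
  · haveI := (hPf j).1
    haveI := (hPf j).2
    exact ⟨inferInstanceAs (Module.Finite A (A ⊗[R] P.X j)), inferInstanceAs (Module.Free A (A ⊗[R] P.X j))⟩
  · show IsUnit (LinearMap.det ((P.d (i - 1) i).hom.baseChange A ∘ₗ s.baseChange A +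
      t.baseChange A ∘ₗ (P.d i (i + 1)).hom.baseChange A))
    rw [← LinearMap.baseChange_comp, ← LinearMap.baseChange_comp, ← LinearMap.baseChange_add,
      LinearMap.det_baseChange]
    exact hu

end Groth.Agent.DRingLib.SplitFibre17
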